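import Groth.Prelude.Def_W4c1hilbpnTgt
import Mathlib.RingTheory.MvPolynomial.Ideal
import Mathlib.LinearAlgebra.Dimension.Constructions
import Mathlib.LinearAlgebra.Dimension.Free
import Mathlib.LinearAlgebra.FiniteDimensional.Basic
import Mathlib.Data.Int.Interval

/-! The multigraded pieces of `Hom(I, S/I)` for a monomial ideal of finite colength, described by the
bounded components of the regions `(Ĩ + α) ∖ Ĩ`. -/

set_option autoImplicit false

universe u

open MvPolynomial W4c1hilbpn

namespace Groth.HilbPn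

attribute [local instance] Classical.propDecidable

variable {k : Type u} [Field k] {n : ℕ} {I : Ideal (MvPolynomial (Fin n) k)}

/-- Exponent vectors as integer vectors. -/
def toZ (β : Fin n →₀ ℕ) : Fin n → ℤ := fun i => (β i : ℤ)

/-- Integer vectors truncated to exponent vectors. -/
noncomputable def toN (γ : Fin n → ℤ) : Fin n →₀ ℕ :=
  Finsupp.equivFunOnFinite.symm fun i => (γ i).toNat

@[simp] theorem toN_apply (γ : Fin n → ℤ) (i : Fin n) : toN γ i = (γ i).toNat := rfl

@[simp] theorem toN_toZ (β : Fin n →₀ ℕ) : toN (toZ β) = β := by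
  ext i; simp [toZ]

theorem toZ_toN {γ : Fin n → ℤ} (h : ∀ i, 0 ≤ γ i) : toZ (toN γ) = γ := by
  funext i; simp [toZ, h i]

theorem toZ_nonneg (β : Fin n →₀ ℕ) (i : Fin n) : 0 ≤ toZ β i := Int.natCast_nonneg _

theorem exps_upper {β β' : Fin n →₀ ℕ} (h : β ∈ exps I) (hle : β ≤ β') : β' ∈ exps I := by
  obtain ⟨δ, rfl⟩ := exists_add_of_le hle
  have := I.mul_mem_right (monomial δ (1 : k)) h
  rwa [monomial_mul, one_mul] at this

theorem coeff_eq_zero_of_mem (hI : IsMonomial I) {p : MvPolynomial (Fin n) k} (hp : p ∈ I)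
    {β : Fin n →₀ ℕ} (hβ : β ∉ exps I) : coeff β p = 0 := by
  by_contra h
  exact hβ (hI p hp β (mem_support_iff.2 h))

theorem mem_of_coeff_eq_zero {p : MvPolynomial (Fin n) k} (h : ∀ β, β ∉ exps I → coeff β p = 0) : p ∈ I := by
  rw [as_sum p]
  refine Submodule.sum_mem _ fun β _ => ?_
  by_cases hβ : β ∈ exps I
  · rw [show monomial β (coeff β p) = C (coeff β p) * monomial β 1 by rw [C_mul_monomial, mul_one]]
    exact I.mul_mem_left _ hβ
  · rw [h β hβ, monomial_zero]
    exact I.zero_mem

/-- Integer exponent vectors of monomials in `I`. -/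
def InI (I : Ideal (MvPolynomial (Fin n) k)) (γ : Fin n → ℤ) : Prop :=
  (∀ i, 0 ≤ γ i) ∧ toN γ ∈ exps I

theorem inI_toZ {β : Fin n →₀ ℕ} : InI I (toZ β) ↔ β ∈ exps I := by
  simp [InI, toZ_nonneg]

theorem InI.mono {γ γ' : Fin n → ℤ} (h : InI I γ) (hle : ∀ i, γ i ≤ γ' i) : InI I γ' :=
  ⟨fun i => (h.1 i).trans (hle i), exps_upper h.2 fun i => by
    simpa using Int.toNat_le_toNat (hle i)⟩

theorem not_inI_of_neg {γ : Fin n → ℤ} (h : ∃ i, γ i < 0) : ¬ InI I γ := by
  rintro ⟨h0, -⟩
  obtain ⟨i, hi⟩ := h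
  exact absurd (h0 i) (not_le.2 hi)

/-- Standard monomials. -/
def Std (I : Ideal (MvPolynomial (Fin n) k)) : Set (Fin n → ℤ) := {γ | (∀ i, 0 ≤ γ i) ∧ ¬ InI I γ}

theorem nonExps_finite (hI : IsMonomial I) [Module.Finite k (MvPolynomial (Fin n) k ⧸ I)] :
    {β : Fin n →₀ ℕ | β ∉ exps I}.Finite := by
  classical
  have hli : LinearIndependent k
      (fun β : {β : Fin n →₀ ℕ // β ∉ exps I} => Ideal.Quotient.mk I (monomial β.1 (1 : k))) := by
    rw [linearIndependent_iff']
    intro s g hg β hβ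
    have hmem : ∑ j ∈ s, monomial j.1 (g j) ∈ I := by
      rw [← Ideal.Quotient.eq_zero_iff_mem, map_sum, ← hg]
      refine Finset.sum_congr rfl fun j _ => ?_
      have e : (monomial j.1 (g j) : MvPolynomial (Fin n) k) = g j • monomial j.1 (1 : k) := by
        rw [smul_monomial, smul_eq_mul, mul_one]
      rw [e]; rfl
    have := coeff_eq_zero_of_mem hI hmem β.2
    rw [coeff_sum, Finset.sum_eq_single β] at this
    · simpa using this
    · intro j _ hj
      rw [coeff_monomial, if_neg fun h => hj (Subtype.ext h)]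
    · intro h; exact absurd hβ h
  have : Finite {β : Fin n →₀ ℕ // β ∉ exps I} := hli.finite
  exact Set.finite_coe_iff.1 this

theorem std_finite (hI : IsMonomial I) [Module.Finite k (MvPolynomial (Fin n) k ⧸ I)] : (Std I).Finite := by
  refine ((nonExps_finite hI).image toZ).subset ?_
  rintro γ ⟨h0, hn⟩
  exact ⟨toN γ, fun h => hn ⟨h0, h⟩, toZ_toN h0⟩

theorem exists_bound (hI : IsMonomial I) [Module.Finite k (MvPolynomial (Fin n) k ⧸ I)] :
    ∃ N : ℕ, ∀ (β : Fin n →₀ ℕ) (i : Fin n), β ∉ exps I → β i < N := by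
  classical
  refine ⟨((nonExps_finite hI).toFinset.sup fun β => Finset.univ.sup fun i => β i) + 1, fun β i h => ?_⟩
  refine Nat.lt_succ_of_le (le_trans ?_ (Finset.le_sup (f := fun β : Fin n →₀ ℕ => Finset.univ.sup fun i => β i)
    ((Set.Finite.mem_toFinset _).2 h)))
  exact Finset.le_sup (f := fun i => β i) (Finset.mem_univ i)

open Classical in
/-- The coefficient at an integer exponent of a class modulo a monomial ideal. -/
noncomputable def coefZ (hI : IsMonomial I) (γ : Fin n → ℤ) : (MvPolynomial (Fin n) k ⧸ I) →ₗ[k] k :=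
  if h : γ ∈ Std I then
    ((I.restrictScalars k).liftQ (lcoeff k (toN γ))
      fun _ hp => LinearMap.mem_ker.2 (coeff_eq_zero_of_mem hI hp fun hγ => h.2 ⟨h.1, hγ⟩)).comp
        (Submodule.Quotient.restrictScalarsEquiv k I).symm.toLinearMap
  else 0

theorem coefZ_mk (hI : IsMonomial I) {γ : Fin n → ℤ} (h : γ ∈ Std I) (p : MvPolynomial (Fin n) k) :
    coefZ hI γ (Ideal.Quotient.mk I p) = coeff (toN γ) p := by
  rw [coefZ, dif_pos h]
  rfl

theorem coefZ_of_not_std (hI : IsMonomial I) {γ : Fin n → ℤ} (h : γ ∉ Std I) : coefZ hI γ = 0 := by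
  rw [coefZ, dif_neg h]

theorem ext_coefZ (hI : IsMonomial I) {y z : MvPolynomial (Fin n) k ⧸ I}
    (h : ∀ γ ∈ Std I, coefZ hI γ y = coefZ hI γ z) : y = z := by
  obtain ⟨p, rfl⟩ := Ideal.Quotient.mk_surjective y
  obtain ⟨q, rfl⟩ := Ideal.Quotient.mk_surjective z
  refine Ideal.Quotient.eq.2 (mem_of_coeff_eq_zero fun β hβ => ?_)
  have hstd : toZ β ∈ Std I := ⟨toZ_nonneg β, fun hh => hβ (inI_toZ.1 hh)⟩
  have := h _ hstd
  rw [coefZ_mk hI hstd, coefZ_mk hI hstd, toN_toZ] at this
  rw [coeff_sub, this, sub_self]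

theorem coefZ_monomial_smul (hI : IsMonomial I) (γ : Fin n → ℤ) (δ : Fin n →₀ ℕ)
    (y : MvPolynomial (Fin n) k ⧸ I) :
    coefZ hI γ (monomial δ (1 : k) • y) =
      if γ ∈ Std I then coefZ hI (γ - toZ δ) y else 0 := by
  classical
  obtain ⟨p, rfl⟩ := Ideal.Quotient.mk_surjective y
  split_ifs with h
  · rw [show monomial δ (1 : k) • Ideal.Quotient.mk I p = Ideal.Quotient.mk I (monomial δ 1 * p) from rfl,
      coefZ_mk hI h, coeff_monomial_mul', one_mul]
    by_cases hle : δ ≤ toN γ
    · have h0 : ∀ i, 0 ≤ (γ - toZ δ) i := fun i => by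
        have hh := hle i
        simp only [toN_apply] at hh
        have := h.1 i
        simp only [Pi.sub_apply, toZ]
        omega
      rw [if_pos hle, coefZ_mk hI ⟨h0, fun hin => h.2 (hin.mono fun i => by simp [toZ])⟩]
      congr 1
      ext i
      simp [toZ, Int.toNat_sub'']
    · rw [if_neg hle, coefZ_of_not_std hI fun hs => hle fun i => ?_]
      · rfl
      · have := hs.1 i
        simp only [Pi.sub_apply, toZ] at this
        simp only [toN_apply]
        omega
  · rw [coefZ_of_not_std hI h, LinearMap.zero_apply]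

theorem mem_region {α γ : Fin n → ℤ} : γ ∈ region I α ↔ InI I (γ - α) ∧ ¬ InI I γ := by
  constructor
  · rintro ⟨⟨β, hβ, rfl⟩, hn⟩
    refine ⟨?_, hn⟩
    convert inI_toZ.2 hβ
    funext i; simp [toZ]
  · rintro ⟨h, hn⟩
    refine ⟨⟨toN (γ - α), h.2, ?_⟩, hn⟩
    funext i
    have := h.1 i
    simp only [Pi.sub_apply] at this
    simp only [toN_apply, Pi.sub_apply]
    omega

theorem adj_cases {a b : Fin n → ℤ} (h : (stepGraph (Fin n)).Adj a b) :
    ∃ i, b = a + toZ (Finsupp.single i 1) ∨ a = b + toZ (Finsupp.single i 1) := by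
  have h' : ∑ i, |a i - b i| = 1 := by
    rcases ((SimpleGraph.fromRel_adj _ _ _).1 h).2 with h | h
    · exact h
    · rw [← h]; exact Finset.sum_congr rfl fun i _ => abs_sub_comm _ _
  obtain ⟨i, -, hi⟩ := Finset.exists_ne_zero_of_sum_ne_zero (by rw [h']; exact one_ne_zero)
  have hsplit := Finset.add_sum_erase Finset.univ (fun j => |a j - b j|) (Finset.mem_univ i)
  rw [h'] at hsplit
  have hpos : 0 < |a i - b i| := lt_of_le_of_ne (abs_nonneg _) (Ne.symm hi)
  have hrest0 : ∑ j ∈ Finset.univ.erase i, |a j - b j| = 0 :=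
    le_antisymm (by omega) (Finset.sum_nonneg fun _ _ => abs_nonneg _)
  have hone : |a i - b i| = 1 := by omega
  have hoth : ∀ j, j ≠ i → a j = b j := fun j hj => by
    have := (Finset.sum_eq_zero_iff_of_nonneg fun _ _ => abs_nonneg _).1 hrest0 j (by simp [hj])
    rwa [abs_eq_zero, sub_eq_zero] at this
  refine ⟨i, ?_⟩
  rcases (abs_eq zero_le_one).1 hone with h1 | h1
  · right; funext j
    by_cases hj : j = i
    · subst hj; simp [toZ]; omega
    · simp [toZ, hoth j hj, Ne.symm hj]
  · left; funext j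
    by_cases hj : j = i
    · subst hj; simp [toZ]; omega
    · simp [toZ, hoth j hj, Ne.symm hj]

variable (I) in
/-- Vertices of the region of multidegree `α`. -/
abbrev regGraph (α : Fin n → ℤ) := (stepGraph (Fin n)).induce (region I α)

variable (I) in
/-- Components all of whose points are nonnegative. -/
abbrev Good (α : Fin n → ℤ) :=
  {C : (regGraph I α).ConnectedComponent // ∀ x ∈ C.supp, ∀ i, 0 ≤ x.1 i}

variable (I) in
/-- All good components, of all multidegrees. -/
abbrev Cells := Σ α : Fin n → ℤ, Good I α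

/-- A chosen point of a good component. -/
noncomputable def rep (q : Cells I) : region I q.1 := Quot.out q.2.1

theorem rep_mk (q : Cells I) : (regGraph I q.1).connectedComponentMk (rep q) = q.2.1 := Quot.out_eq _

theorem rep_std (q : Cells I) : (rep q).1 ∈ Std I :=
  ⟨q.2.2 _ (by rw [SimpleGraph.ConnectedComponent.mem_supp_iff]; exact rep_mk q), (mem_region.1 (rep q).2).2⟩

/-- The monomial of an integer exponent, as an element of `I`. -/
noncomputable def monI {γ : Fin n → ℤ} (h : InI I γ) : I :=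
  ⟨monomial (toN γ) (1 : k), (show monomial (toN γ) (1 : k) ∈ I from h.2)⟩

theorem monI_add {γ : Fin n → ℤ} (h : InI I γ) (δ : Fin n →₀ ℕ) (h' : InI I (γ + toZ δ)) :
    monI h' = monomial δ (1 : k) • monI h := by
  apply Subtype.ext
  show monomial (toN (γ + toZ δ)) (1 : k) = monomial δ (1 : k) * monomial (toN γ) (1 : k)
  rw [monomial_mul, one_mul]
  congr 2
  ext i
  have := h.1 i
  simp [toZ]
  omega

open Classical in
/-- The component of multidegree `α` of a homomorphism, as a function on the lattice. -/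
noncomputable def comp (hI : IsMonomial I) (φ : Tgt I) (α γ : Fin n → ℤ) : k :=
  if h : InI I (γ - α) then coefZ hI γ (φ (monI h)) else 0

theorem comp_step (hI : IsMonomial I) (φ : Tgt I) {α : Fin n → ℤ} {a : Fin n → ℤ} (i : Fin n)
    (ha : a ∈ region I α) (hb : a + toZ (Finsupp.single i 1) ∈ region I α) :
    comp hI φ α (a + toZ (Finsupp.single i 1)) = comp hI φ α a := by
  obtain ⟨ha1, ha2⟩ := mem_region.1 ha
  obtain ⟨hb1, hb2⟩ := mem_region.1 hb
  rw [comp, dif_pos hb1, comp, dif_pos ha1]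
  have hb1' : InI I (a - α + toZ (Finsupp.single i 1)) := by convert hb1 using 1; abel
  have : monI hb1 = monomial (Finsupp.single i 1) (1 : k) • monI ha1 := by
    rw [← monI_add ha1 _ hb1']
    apply Subtype.ext
    show monomial _ (1 : k) = monomial _ (1 : k)
    congr 2
    abel
  rw [this, map_smul, coefZ_monomial_smul, add_sub_cancel_right]
  split_ifs with hs
  · rfl
  · have : a ∉ Std I := fun h => hs ⟨fun j => by
      have := h.1 j; have := toZ_nonneg (Finsupp.single i 1) j
      simp only [Pi.add_apply]; omega, hb2⟩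
    rw [coefZ_of_not_std hI this, LinearMap.zero_apply]

theorem comp_eq_of_reachable (hI : IsMonomial I) (φ : Tgt I) {α : Fin n → ℤ} {a b : region I α}
    (h : (regGraph I α).Reachable a b) : comp hI φ α a.1 = comp hI φ α b.1 := by
  obtain ⟨w⟩ := h
  induction w with
  | nil => rfl
  | @cons x y z hxy _ ih =>
    refine Eq.trans ?_ ih
    obtain ⟨i, h | h⟩ := adj_cases hxy
    · rw [show y.1 = x.1 + toZ (Finsupp.single i 1) from h]
      exact (comp_step hI φ i x.2 ((congrArg (· ∈ region I α) (show y.1 = _ from h)).mp y.2)).symm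
    · rw [show x.1 = y.1 + toZ (Finsupp.single i 1) from h]
      exact comp_step hI φ i y.2 ((congrArg (· ∈ region I α) (show x.1 = _ from h)).mp x.2)

theorem comp_eq_zero_of_neg (hI : IsMonomial I) (φ : Tgt I) {α γ : Fin n → ℤ} (h : γ ∉ Std I) :
    comp hI φ α γ = 0 := by
  rw [comp]
  split_ifs
  · rw [coefZ_of_not_std hI h, LinearMap.zero_apply]
  · rfl

/-- The coordinates of a homomorphism on good components. -/
noncomputable def coord (hI : IsMonomial I) : Tgt I →ₗ[k] (Cells I → k) where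
  toFun φ q := coefZ hI (rep q).1 (φ (monI (mem_region.1 (rep q).2).1))
  map_add' φ ψ := by funext q; simp
  map_smul' c φ := by funext q; simp

theorem coord_apply (hI : IsMonomial I) (φ : Tgt I) (q : Cells I) :
    coord hI φ q = comp hI φ q.1 (rep q).1 := by
  rw [comp, dif_pos (mem_region.1 (rep q).2).1]
  rfl

theorem ext_monomial {φ ψ : Tgt I} (hI : IsMonomial I)
    (h : ∀ (β : Fin n →₀ ℕ) (hβ : monomial β (1 : k) ∈ I), φ ⟨_, hβ⟩ = ψ ⟨_, hβ⟩) : φ = ψ := by
  classical
  apply LinearMap.ext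
  rintro ⟨p, hp⟩
  have hdec : (⟨p, hp⟩ : I) = ∑ β ∈ p.support.attach,
      (C (coeff β.1 p) : MvPolynomial (Fin n) k) • (⟨monomial β.1 (1 : k), hI p hp β.1 β.2⟩ : I) := by
    apply Subtype.ext
    rw [AddSubmonoidClass.coe_finsetSum]
    simp only [SetLike.val_smul, smul_eq_mul, C_mul_monomial, mul_one]
    rw [Finset.sum_attach (f := fun β => monomial β (coeff β p))]
    exact as_sum p
  rw [hdec, map_sum, map_sum]
  exact Finset.sum_congr rfl fun β _ => by rw [map_smul, map_smul, h]

theorem coord_injective (hI : IsMonomial I) : Function.Injective (coord hI) := by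
  intro φ ψ heq
  refine ext_monomial hI fun β hβ => ext_coefZ hI fun γ hγ => ?_
  have hin : InI I (γ - (γ - toZ β)) := by rw [sub_sub_cancel]; exact inI_toZ.2 hβ
  have hmem : γ ∈ region I (γ - toZ β) := mem_region.2 ⟨hin, hγ.2⟩
  have hmon : monI hin = (⟨monomial β (1 : k), hβ⟩ : I) := by
    apply Subtype.ext
    show monomial (toN _) (1 : k) = _
    rw [sub_sub_cancel, toN_toZ]
  have key : ∀ χ : Tgt I, coefZ hI γ (χ ⟨monomial β (1 : k), hβ⟩) = comp hI χ (γ - toZ β) γ := fun χ => by
    rw [comp, dif_pos hin, hmon]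
  rw [key, key]
  set C := (regGraph I (γ - toZ β)).connectedComponentMk ⟨γ, hmem⟩ with hC
  by_cases hgood : ∀ x ∈ C.supp, ∀ i, 0 ≤ x.1 i
  · let q : Cells I := ⟨γ - toZ β, C, hgood⟩
    have hr : (regGraph I (γ - toZ β)).Reachable ⟨γ, hmem⟩ (rep q) :=
      SimpleGraph.ConnectedComponent.eq.1 (rep_mk q).symm
    rw [comp_eq_of_reachable hI φ hr, comp_eq_of_reachable hI ψ hr]
    have := congrFun heq q
    rwa [coord_apply, coord_apply] at this
  · push Not at hgood
    obtain ⟨x, hx, i, hi⟩ := hgood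
    rw [SimpleGraph.ConnectedComponent.mem_supp_iff, hC, SimpleGraph.ConnectedComponent.eq] at hx
    have hns : x.1 ∉ Std I := fun h => absurd (h.1 i) (not_le.2 hi)
    rw [← comp_eq_of_reachable hI φ hx, ← comp_eq_of_reachable hI ψ hx, comp_eq_zero_of_neg hI φ hns,
      comp_eq_zero_of_neg hI ψ hns]

open Classical in
/-- The value attached to `x^β` by a function on the good components of multidegree `α`. -/
noncomputable def cval (α : Fin n → ℤ) (f : Good I α → k) (γ : Fin n → ℤ) : k :=
  if h : γ ∈ region I α then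
    if hg : ∀ x ∈ ((regGraph I α).connectedComponentMk ⟨γ, h⟩).supp, ∀ i, 0 ≤ x.1 i then f ⟨_, hg⟩ else 0
  else 0

theorem cval_congr {α : Fin n → ℤ} (f : Good I α → k) {a b : Fin n → ℤ} (ha : a ∈ region I α) (hb : b ∈ region I α)
    (h : (regGraph I α).connectedComponentMk ⟨a, ha⟩ = (regGraph I α).connectedComponentMk ⟨b, hb⟩) :
    cval α f a = cval α f b := by
  classical
  rw [cval, cval, dif_pos ha, dif_pos hb]
  split_ifs with h1 h2 h2
  · congr 1; exact Subtype.ext h
  · exact absurd (h ▸ h1) h2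
  · exact absurd (h.symm ▸ h2) h1
  · rfl

theorem cval_of_not_std {α : Fin n → ℤ} (f : Good I α → k) {γ : Fin n → ℤ} (h : γ ∉ Std I) : cval α f γ = 0 := by
  classical
  rw [cval]
  split_ifs with h1 h2
  · exact absurd ⟨h2 ⟨γ, h1⟩ rfl, (mem_region.1 h1).2⟩ h
  all_goals rfl

/-- The images of the monomials under the homomorphism attached to `f`. -/
noncomputable def img (α : Fin n → ℤ) (f : Good I α → k) (β : Fin n →₀ ℕ) : MvPolynomial (Fin n) k ⧸ I :=
  cval α f (toZ β + α) • Ideal.Quotient.mk I (monomial (toN (toZ β + α)) (1 : k))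

theorem coefZ_img (hI : IsMonomial I) (α : Fin n → ℤ) (f : Good I α → k) (β : Fin n →₀ ℕ) (γ : Fin n → ℤ) :
    coefZ hI γ (img α f β) = if γ = toZ β + α then cval α f γ else 0 := by
  classical
  rw [img, map_smul, smul_eq_mul]
  by_cases hs : γ ∈ Std I
  · rw [coefZ_mk hI hs, coeff_monomial]
    by_cases he : γ = toZ β + α
    · rw [if_pos he, if_pos (by rw [he]), mul_one, he]
    · rw [if_neg he]
      by_cases hs' : toZ β + α ∈ Std I
      · rw [if_neg fun hh => he (by rw [← toZ_toN hs.1, ← hh, toZ_toN hs'.1]), mul_zero]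
      · rw [cval_of_not_std f hs', zero_mul]
  · rw [coefZ_of_not_std hI hs, LinearMap.zero_apply, mul_zero]
    split_ifs
    · rw [cval_of_not_std f hs]
    · rfl

theorem img_succ (hI : IsMonomial I) (α : Fin n → ℤ) (f : Good I α → k) {β : Fin n →₀ ℕ} (hβ : β ∈ exps I)
    (i : Fin n) :
    img α f (β + Finsupp.single i 1) = monomial (Finsupp.single i 1) (1 : k) • img α f β := by
  classical
  set e := toZ (Finsupp.single i 1) with he
  have hadd : toZ (β + Finsupp.single i 1) = toZ β + e := by funext j; simp [toZ, he]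
  refine ext_coefZ hI fun γ hγ => ?_
  rw [coefZ_monomial_smul, if_pos hγ, coefZ_img, coefZ_img, hadd, ← he]
  by_cases h : γ = toZ β + e + α
  · rw [if_pos h, if_pos (by rw [h]; abel)]
    have hb : γ ∈ region I α := mem_region.2 ⟨by
      rw [h, add_sub_cancel_right]
      exact (inI_toZ.2 hβ).mono fun j => by
        have := toZ_nonneg (Finsupp.single i 1) j
        rw [Pi.add_apply, he]; omega, hγ.2⟩
    have hle : ∀ j, (γ - e) j ≤ γ j := fun j => by
      have := toZ_nonneg (Finsupp.single i 1) j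
      rw [Pi.sub_apply, he]; omega
    have ha : γ - e ∈ region I α := mem_region.2 ⟨by
      rw [h, show toZ β + e + α - e - α = toZ β by abel]; exact inI_toZ.2 hβ,
      fun hin => hγ.2 (hin.mono hle)⟩
    refine cval_congr f hb ha (SimpleGraph.ConnectedComponent.eq.2 (SimpleGraph.Adj.reachable ?_))
    rw [SimpleGraph.induce_adj]
    refine (SimpleGraph.fromRel_adj _ _ _).2 ⟨fun hh => ?_, Or.inl ?_⟩
    · have := congrFun hh i
      simp [he, toZ] at this
      omega
    · simp [he, toZ, Finsupp.single_apply, apply_ite, Finset.sum_ite_eq]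
  · rw [if_neg h, if_neg fun hh => h (by rw [← sub_add_cancel γ e, hh]; abel)]

/-- The `k`-linear map on the polynomial ring extending `img`. -/
noncomputable def imgLin (α : Fin n → ℤ) (f : Good I α → k) :
    MvPolynomial (Fin n) k →ₗ[k] MvPolynomial (Fin n) k ⧸ I :=
  (basisMonomials (Fin n) k).constr k (img α f)

theorem imgLin_monomial (α : Fin n → ℤ) (f : Good I α → k) (β : Fin n →₀ ℕ) (c : k) :
    imgLin α f (monomial β c) = c • img α f β := by
  rw [show monomial β c = c • monomial β (1 : k) by rw [smul_monomial, smul_eq_mul, mul_one], map_smul]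
  congr 1
  rw [imgLin, show monomial β (1 : k) = basisMonomials (Fin n) k β by rw [coe_basisMonomials], Module.Basis.constr_basis]

theorem imgLin_X_mul (hI : IsMonomial I) (α : Fin n → ℤ) (f : Good I α → k) (i : Fin n)
    {p : MvPolynomial (Fin n) k} (hp : p ∈ I) :
    imgLin α f (X i * p) = (X i : MvPolynomial (Fin n) k) • imgLin α f p := by
  conv_lhs => rw [as_sum p]
  conv_rhs => rw [as_sum p]
  rw [Finset.mul_sum, map_sum, map_sum, Finset.smul_sum]
  refine Finset.sum_congr rfl fun β hβ => ?_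
  rw [X, monomial_mul, one_mul, add_comm, imgLin_monomial, imgLin_monomial, img_succ hI α f (hI p hp β hβ),
    smul_comm]

theorem imgLin_mul (hI : IsMonomial I) (α : Fin n → ℤ) (f : Good I α → k) (q : MvPolynomial (Fin n) k) :
    ∀ p ∈ I, imgLin α f (q * p) = q • imgLin α f p := by
  induction q using MvPolynomial.induction_on with
  | C a =>
    intro p _
    rw [C_mul', map_smul, show (C a : MvPolynomial (Fin n) k) = algebraMap k _ a from rfl, algebraMap_smul]
  | add q r hq hr => intro p hp; rw [add_mul, map_add, hq p hp, hr p hp, add_smul]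
  | mul_X q i hq => intro p hp; rw [mul_assoc, hq _ (I.mul_mem_left _ hp), imgLin_X_mul hI α f i hp, mul_smul]

/-- The homomorphism attached to a function on the good components of multidegree `α`. -/
noncomputable def ofGood (hI : IsMonomial I) (α : Fin n → ℤ) (f : Good I α → k) : Tgt I where
  toFun p := imgLin α f p.1
  map_add' p q := map_add _ _ _
  map_smul' q p := imgLin_mul hI α f q p.1 p.2

theorem ofGood_monomial (hI : IsMonomial I) (α : Fin n → ℤ) (f : Good I α → k) {β : Fin n →₀ ℕ}
    (hβ : monomial β (1 : k) ∈ I) : ofGood hI α f ⟨_, hβ⟩ = img α f β := by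
  show imgLin α f (monomial β 1) = _
  rw [imgLin_monomial, one_smul]

theorem shift_eq (β : Fin n →₀ ℕ) (α : Fin n → ℤ) : shift β α = toN (toZ β + α) := rfl

theorem ofGood_mem (hI : IsMonomial I) (α : Fin n → ℤ) (f : Good I α → k) : ofGood hI α f ∈ tPiece I α := by
  intro β hβ
  rw [ofGood_monomial hI α f hβ, img, shift_eq]
  refine ⟨fun _ => Submodule.smul_mem _ _ (Submodule.mem_span_singleton_self _), ?_⟩
  rintro ⟨i, hi⟩
  rw [cval_of_not_std f fun hs => absurd (hs.1 i) (not_le.2 hi), zero_smul]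

theorem coord_ofGood (hI : IsMonomial I) (α : Fin n → ℤ) (f : Good I α → k) (q : Cells I) :
    coord hI (ofGood hI α f) q = if h : q.1 = α then f (h ▸ q.2) else 0 := by
  classical
  show coefZ hI (rep q).1 (ofGood hI α f ⟨_, _⟩) = _
  rw [ofGood_monomial, coefZ_img, toZ_toN (mem_region.1 (rep q).2).1.1]
  by_cases h : q.1 = α
  · subst h
    rw [dif_pos rfl, if_pos (by rw [sub_add_cancel]), cval, dif_pos (rep q).2]
    have e := rep_mk q
    have hg : ∀ x ∈ ((regGraph I q.1).connectedComponentMk ⟨(rep q).1, (rep q).2⟩).supp, ∀ i, 0 ≤ x.1 i := by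
      rw [Subtype.coe_eta, e]; exact q.2.2
    rw [dif_pos hg]
    congr 1
    exact Subtype.ext e
  · rw [dif_neg h, if_neg fun hh => h ?_]
    funext i
    have := congrFun hh i
    simp only [Pi.add_apply, Pi.sub_apply] at this
    omega

variable [Module.Finite k (MvPolynomial (Fin n) k ⧸ I)]

omit [Module.Finite k (MvPolynomial (Fin n) k ⧸ I)] in
theorem step_adj (x : Fin n → ℤ) (i : Fin n) :
    (stepGraph (Fin n)).Adj x (x + toZ (Finsupp.single i 1)) := by
  refine (SimpleGraph.fromRel_adj _ _ _).2 ⟨fun hh => ?_, Or.inl ?_⟩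
  · have := congrFun hh i
    simp [toZ] at this
  · simp [toZ, Finsupp.single_apply, apply_ite, Finset.sum_ite_eq]

omit [Module.Finite k (MvPolynomial (Fin n) k ⧸ I)] in
/-- Two corners of a box contained in the region are connected. -/
theorem reachable_box {α : Fin n → ℤ} {a b : Fin n → ℤ} (hab : ∀ i, a i ≤ b i)
    (hbox : ∀ δ : Fin n → ℤ, (∀ i, a i ≤ δ i) → (∀ i, δ i ≤ b i) → δ ∈ region I α) :
    (regGraph I α).Reachable ⟨a, hbox a (fun _ => le_rfl) hab⟩ ⟨b, hbox b hab (fun _ => le_rfl)⟩ := by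
  obtain ⟨m, hm⟩ : ∃ m : ℕ, ∑ i, (b i - a i).toNat = m := ⟨_, rfl⟩
  induction m generalizing a with
  | zero =>
    have : a = b := funext fun i => by
      have := (Finset.sum_eq_zero_iff.1 hm) i (Finset.mem_univ i)
      have := hab i
      omega
    subst this
    rfl
  | succ m ih =>
    obtain ⟨i, -, hi⟩ := Finset.exists_ne_zero_of_sum_ne_zero (hm.symm ▸ Nat.succ_ne_zero m :
      ∑ i, (b i - a i).toNat ≠ 0)
    set a' := a + toZ (Finsupp.single i 1) with ha'
    have haa' : ∀ j, a j ≤ a' j := fun j => by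
      have := toZ_nonneg (Finsupp.single i 1) j
      simp only [ha', Pi.add_apply]
      omega
    have ha'b : ∀ j, a' j ≤ b j := fun j => by
      by_cases hj : j = i
      · subst hj; simp [ha', toZ]; omega
      · simpa [ha', toZ, Ne.symm hj] using hab j
    refine (SimpleGraph.Adj.reachable ?_).trans
      (ih ha'b (fun δ h1 h2 => hbox δ (fun j => (haa' j).trans (h1 j)) h2) ?_)
    · exact step_adj a i
    · have h := Finset.add_sum_erase Finset.univ (fun j => (b j - a j).toNat) (Finset.mem_univ i)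
      have h' := Finset.add_sum_erase Finset.univ (fun j => (b j - a' j).toNat) (Finset.mem_univ i)
      have heq : ∑ j ∈ Finset.univ.erase i, (b j - a' j).toNat =
          ∑ j ∈ Finset.univ.erase i, (b j - a j).toNat :=
        Finset.sum_congr rfl fun j hj => by simp [ha', toZ, Ne.symm (Finset.ne_of_mem_erase hj)]
      have e : a' i = a i + 1 := by simp [ha', toZ]
      rw [e] at h'
      omega

omit [Module.Finite k (MvPolynomial (Fin n) k ⧸ I)] in
theorem good_of_reachable (q : Cells I) {δ : Fin n → ℤ} {hδ : δ ∈ region I q.1}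
    (h : (regGraph I q.1).Reachable ⟨δ, hδ⟩ (rep q)) (i : Fin n) : 0 ≤ δ i :=
  q.2.2 ⟨δ, hδ⟩ (by
    rw [SimpleGraph.ConnectedComponent.mem_supp_iff, ← rep_mk q, SimpleGraph.ConnectedComponent.eq]
    exact h) i

theorem cells_finite (hI : IsMonomial I) : Finite (Cells I) := by
  obtain ⟨N, hN⟩ := exists_bound hI
  have hbig : ∀ (δ : Fin n → ℤ) (i : Fin n), (∀ j, 0 ≤ δ j) → (N : ℤ) ≤ δ i → InI I δ := by
    intro δ i h0 hi
    refine ⟨h0, by_contra fun hn => ?_⟩
    have := hN _ i hn
    rw [toN_apply] at this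
    omega
  have hbound : ∀ (q : Cells I) (i : Fin n),
      q.1 i ∈ Finset.Icc (-(2 * N + 1 : ℤ)) N ∧ (rep q).1 i ∈ Finset.Icc (0 : ℤ) N := by
    intro q i
    obtain ⟨hin, hnot⟩ := mem_region.1 (rep q).2
    have hγ0 := (rep_std q).1
    obtain ⟨⟨γ, hγmem⟩, hγ⟩ : ∃ x, rep q = x := ⟨_, rfl⟩
    have hγdef : (rep q).1 = γ := by rw [hγ]
    rw [hγdef] at hin hnot hγ0 ⊢
    have hγN : γ i < N := by
      by_contra hlt
      exact hnot (hbig γ i hγ0 (by omega))
    have hβ : γ i - q.1 i ≤ N + γ i + 1 := by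
      by_contra hlt
      push Not at hlt
      set a : Fin n → ℤ := fun j => if j = i then -1 else γ j with ha
      have hbox : ∀ δ : Fin n → ℤ, (∀ j, a j ≤ δ j) → (∀ j, δ j ≤ γ j) → δ ∈ region I q.1 := by
        intro δ h1 h2
        refine mem_region.2 ⟨hbig _ i (fun j => ?_) ?_, fun h => hnot (h.mono h2)⟩
        · have := h1 j
          simp only [ha] at this
          have h0' := hin.1 j
          simp only [Pi.sub_apply] at h0' ⊢
          split_ifs at this with hj
          · subst hj; omega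
          · omega
        · have := h1 i
          simp only [ha, if_pos rfl] at this
          simp only [Pi.sub_apply]
          omega
      have hab : ∀ j, a j ≤ γ j := fun j => by
        simp only [ha]
        have := hγ0 j
        split_ifs with hj
        · subst hj; omega
        · omega
      have := good_of_reachable q ((reachable_box hab hbox).trans (by rw [hγ])) i
      simp [ha] at this
    have hin0 := hin.1 i
    simp only [Pi.sub_apply] at hin0
    simp only [Finset.mem_Icc]
    have := hγ0 i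
    omega
  let F : Cells I → (Fin n → ↥(Finset.Icc (-(2 * N + 1 : ℤ)) N)) × (Fin n → ↥(Finset.Icc (0 : ℤ) N)) :=
    fun q => (fun i => ⟨q.1 i, (hbound q i).1⟩, fun i => ⟨(rep q).1 i, (hbound q i).2⟩)
  refine Finite.of_injective F fun q q' h => ?_
  have h1 : q.1 = q'.1 := funext fun i => congrArg Subtype.val (congrFun (Prod.ext_iff.1 h).1 i)
  have h2 : (rep q).1 = (rep q').1 := funext fun i => congrArg Subtype.val (congrFun (Prod.ext_iff.1 h).2 i)
  obtain ⟨α, C, hC⟩ := q
  obtain ⟨α', C', hC'⟩ := q'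
  change α = α' at h1
  subst h1
  refine Sigma.ext rfl (heq_of_eq (Subtype.ext ?_))
  exact (rep_mk (I := I) ⟨α, C, hC⟩).symm.trans
    ((congrArg (regGraph I α).connectedComponentMk (Subtype.ext h2)).trans (rep_mk (I := I) ⟨α, C', hC'⟩))

omit [Module.Finite k (MvPolynomial (Fin n) k ⧸ I)] in
theorem coord_eq_zero_of_mem (hI : IsMonomial I) {α : Fin n → ℤ} {φ : Tgt I} (hφ : φ ∈ tPiece I α)
    (q : Cells I) (hq : q.1 ≠ α) : coord hI φ q = 0 := by
  obtain ⟨hin, -⟩ := mem_region.1 (rep q).2
  show coefZ hI (rep q).1 (φ ⟨_, _⟩) = 0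
  obtain ⟨h1, h2⟩ := hφ _ (show monomial (toN ((rep q).1 - q.1)) (1 : k) ∈ I from hin.2)
  by_cases hneg : ∃ i, ((toN ((rep q).1 - q.1)) i : ℤ) + α i < 0
  · rw [h2 hneg, map_zero]
  · push Not at hneg
    obtain ⟨c, hc⟩ := Submodule.mem_span_singleton.1 (h1 hneg)
    rw [← hc, map_smul, coefZ_mk hI (rep_std q), shift_eq, toZ_toN hin.1, coeff_monomial, if_neg, smul_zero]
    intro hh
    refine hq (funext fun i => ?_)
    have := DFunLike.congr_fun hh i
    have hn := hneg i
    have h0 := (rep_std q).1 i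
    have hin0 := hin.1 i
    simp only [toN_apply, Pi.add_apply, Pi.sub_apply] at this hn hin0
    omega

theorem coord_surjective (hI : IsMonomial I) : Function.Surjective (coord hI) := by
  haveI := cells_finite hI
  haveI := Fintype.ofFinite (Cells I)
  intro g
  refine ⟨∑ α ∈ Finset.univ.image (Sigma.fst : Cells I → _), ofGood hI α fun C => g ⟨α, C⟩, ?_⟩
  funext q
  rw [map_sum, Finset.sum_apply, Finset.sum_eq_single q.1]
  · rw [coord_ofGood, dif_pos rfl]
  · intro α _ hα
    rw [coord_ofGood, dif_neg (Ne.symm hα)]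
  · intro h
    exact absurd (Finset.mem_image.2 ⟨q, Finset.mem_univ q, rfl⟩) h

theorem mem_iSup_iff (hI : IsMonomial I) (P : (Fin n → ℤ) → Prop) (φ : Tgt I) :
    φ ∈ (⨆ α : {α // P α}, tPiece I α.1) ↔ ∀ q : Cells I, ¬ P q.1 → coord hI φ q = 0 := by
  constructor
  · intro h q hq
    refine Submodule.iSup_induction (motive := fun ψ => coord hI ψ q = 0) _ h
      (fun α ψ hψ => coord_eq_zero_of_mem hI hψ q fun hh => hq (by rw [hh]; exact α.2)) (by simp) ?_
    intro a b ha hb
    simp only [map_add, Pi.add_apply, ha, hb, add_zero]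
  · intro h
    haveI := cells_finite hI
    haveI := Fintype.ofFinite (Cells I)
    have he : φ = ∑ α ∈ (Finset.univ.image (Sigma.fst : Cells I → _)).filter P,
        ofGood hI α fun C => coord hI φ ⟨α, C⟩ := by
      apply coord_injective hI
      funext q
      rw [map_sum, Finset.sum_apply]
      by_cases hq : P q.1
      · rw [Finset.sum_eq_single q.1]
        · rw [coord_ofGood, dif_pos rfl]
        · intro α _ hα
          rw [coord_ofGood, dif_neg (Ne.symm hα)]
        · intro h
          exact absurd (Finset.mem_filter.2 ⟨Finset.mem_image.2 ⟨q, Finset.mem_univ q, rfl⟩, hq⟩) h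
      · rw [h q hq, Finset.sum_eq_zero]
        intro α hα
        rw [coord_ofGood, dif_neg fun hh => hq (by rw [hh]; exact (Finset.mem_filter.1 hα).2)]
    rw [he]
    exact Submodule.sum_mem _ fun α hα =>
      Submodule.mem_iSup_of_mem (⟨α, (Finset.mem_filter.1 hα).2⟩ : {α // P α}) (ofGood_mem hI α _)

/-- The dimension of a sum of graded pieces is the number of good components. -/
theorem finrank_iSup (hI : IsMonomial I) (P : (Fin n → ℤ) → Prop) :
    Module.finrank k ↥(⨆ α : {α // P α}, tPiece I α.1) = Nat.card {q : Cells I // P q.1} := by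
  haveI := cells_finite hI
  haveI := Fintype.ofFinite {q : Cells I // P q.1}
  let r : ↥(⨆ α : {α // P α}, tPiece I α.1) →ₗ[k] ({q : Cells I // P q.1} → k) :=
    (LinearMap.funLeft k k Subtype.val).comp ((coord hI).comp (Submodule.subtype _))
  have hr : Function.Bijective r := by
    constructor
    · intro x y hxy
      refine Subtype.ext (coord_injective hI (funext fun q => ?_))
      by_cases hq : P q.1
      · exact congrFun hxy ⟨q, hq⟩
      · rw [(mem_iSup_iff hI P _).1 x.2 q hq, (mem_iSup_iff hI P _).1 y.2 q hq]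
    · intro g
      obtain ⟨φ, hφ⟩ := coord_surjective hI fun q => if hq : P q.1 then g ⟨q, hq⟩ else 0
      refine ⟨⟨φ, (mem_iSup_iff hI P φ).2 fun q hq => by rw [hφ]; exact dif_neg hq⟩, funext fun q => ?_⟩
      show coord hI φ q.1 = g q
      rw [hφ]
      exact dif_pos q.2
  rw [(LinearEquiv.ofBijective r hr).finrank_eq, Module.finrank_fintype_fun_eq_card, Nat.card_eq_fintype_card]

theorem finrank_Tgt (hI : IsMonomial I) : Module.finrank k (Tgt I) = Nat.card (Cells I) := by
  haveI := cells_finite hI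
  haveI := Fintype.ofFinite (Cells I)
  rw [(LinearEquiv.ofBijective (coord hI) ⟨coord_injective hI, coord_surjective hI⟩).finrank_eq,
    Module.finrank_fintype_fun_eq_card, Nat.card_eq_fintype_card]

theorem finrank_tPiece (hI : IsMonomial I) (α : Fin n → ℤ) :
    Module.finrank k ↥(tPiece I α) = Nat.card (Good I α) := by
  have h : (⨆ β : {β // β = α}, tPiece I β.1) = tPiece I α :=
    le_antisymm (iSup_le fun β => le_of_eq (by rw [β.2])) (le_iSup_of_le ⟨α, rfl⟩ le_rfl)
  rw [← h, finrank_iSup hI (fun β => β = α)]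
  refine Nat.card_congr ⟨fun q => q.2 ▸ q.1.2, fun C => ⟨⟨α, C⟩, rfl⟩, ?_, fun C => rfl⟩
  rintro ⟨⟨β, C⟩, hβ⟩
  subst hβ
  rfl

theorem iSup_eq_top (hI : IsMonomial I) (P : (Fin n → ℤ) → Prop) (h : ∀ q : Cells I, P q.1) :
    (⨆ α : {α // P α}, tPiece I α.1) = ⊤ :=
  eq_top_iff.2 fun φ _ => (mem_iSup_iff hI P φ).2 fun q hq => absurd (h q) hq

theorem iSup_eq_bot_iff (hI : IsMonomial I) (P : (Fin n → ℤ) → Prop) :
    (⨆ α : {α // P α}, tPiece I α.1) = ⊥ ↔ ∀ q : Cells I, ¬ P q.1 := by
  constructor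
  · intro h q hq
    have hmem : ofGood hI q.1 (fun _ => 1) ∈ (⨆ α : {α // P α}, tPiece I α.1) :=
      Submodule.mem_iSup_of_mem (⟨q.1, hq⟩ : {α // P α}) (ofGood_mem hI q.1 _)
    rw [h, Submodule.mem_bot] at hmem
    have := coord_ofGood hI q.1 (fun _ => (1 : k)) q
    rw [hmem, map_zero, Pi.zero_apply, dif_pos rfl] at this
    exact zero_ne_one this
  · intro h
    rw [Submodule.eq_bot_iff]
    intro φ hφ
    exact coord_injective hI (funext fun q => by
      rw [(mem_iSup_iff hI P φ).1 hφ q (h q), map_zero, Pi.zero_apply])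

theorem tPiece_eq_bot (hI : IsMonomial I) (α : Fin n → ℤ) (h : ∀ q : Cells I, q.1 ≠ α) : tPiece I α = ⊥ :=
  eq_bot_iff.2 ((le_iSup_of_le (ι := {β // β = α}) ⟨α, rfl⟩ le_rfl).trans
    ((iSup_eq_bot_iff hI (fun β => β = α)).2 h).le)

end Groth.HilbPn
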