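import Groth.Agent.HilbPn.Props
import Mathlib.LinearAlgebra.Matrix.Rank
import Mathlib.Algebra.BigOperators.Finprod
import Mathlib.Tactic.Ring
import Mathlib.Tactic.Abel

/-! Good components as first cohomology of a Koszul complex on pairs of standard monomials. -/

set_option autoImplicit false

universe u

open MvPolynomial W4c1hilbpn

namespace Groth.HilbPn

attribute [local instance] Classical.propDecidable

variable {k : Type u} [Field k] {n : ℕ} {I : Ideal (MvPolynomial (Fin n) k)}

/-- Unit vectors. -/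
noncomputable abbrev ev (i : Fin n) : Fin n → ℤ := toZ (Finsupp.single i 1)

theorem ev_nonneg (i j : Fin n) : 0 ≤ ev i j := toZ_nonneg _ _

theorem ev_self (i : Fin n) : ev i i = 1 := by simp [toZ]

theorem ev_of_ne {i j : Fin n} (h : j ≠ i) : ev i j = 0 := by simp [toZ, h]

theorem le_add_ev (u : Fin n → ℤ) (i j : Fin n) : u j ≤ (u + ev i) j := by
  have := ev_nonneg i j
  simp only [Pi.add_apply]
  omega

/-- Components are respected by functions compatible with unit steps. -/
theorem const_of_step {α : Fin n → ℤ} (c : (Fin n → ℤ) → k)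
    (hstep : ∀ (a : Fin n → ℤ) (i : Fin n), a ∈ region I α → a + ev i ∈ region I α → c (a + ev i) = c a)
    {a b : region I α} (h : (regGraph I α).Reachable a b) : c a.1 = c b.1 := by
  obtain ⟨w⟩ := h
  induction w with
  | nil => rfl
  | @cons x y z hxy _ ih =>
    refine Eq.trans ?_ ih
    obtain ⟨i, h | h⟩ := adj_cases hxy
    · rw [show y.1 = x.1 + ev i from h]
      exact (hstep _ i x.2 ((congrArg (· ∈ region I α) (show y.1 = _ from h)).mp y.2)).symm
    · rw [show x.1 = y.1 + ev i from h]
      exact hstep _ i y.2 ((congrArg (· ∈ region I α) (show x.1 = _ from h)).mp x.2)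

variable (I) in
/-- Pairs of standard monomials at difference `β`. -/
abbrev Pr (β : Fin n → ℤ) := {u : Fin n → ℤ // u ∈ Std I ∧ u + β ∈ Std I}

variable (I) in
/-- Cochains of degree zero. -/
abbrev K0 (α : Fin n → ℤ) := Pr I α

variable (I) in
/-- Cochains of degree one. -/
abbrev K1 (α : Fin n → ℤ) := Σ i : Fin n, Pr I (α + ev i)

/-- Extension by zero. -/
noncomputable def ext0 {β : Fin n → ℤ} (f : Pr I β → k) (u : Fin n → ℤ) : k :=
  if h : u ∈ Std I ∧ u + β ∈ Std I then f ⟨u, h⟩ else 0

theorem ext0_apply {β : Fin n → ℤ} (f : Pr I β → k) (u : Pr I β) : ext0 f u.1 = f u := dif_pos u.2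

theorem ext0_of_not {β : Fin n → ℤ} (f : Pr I β → k) {u : Fin n → ℤ} (h : ¬ (u ∈ Std I ∧ u + β ∈ Std I)) :
    ext0 f u = 0 := dif_neg h

/-- The zero-extended components of a cochain of degree one. -/
noncomputable def cmp {α : Fin n → ℤ} (g : K1 I α → k) (i : Fin n) (u : Fin n → ℤ) : k :=
  ext0 (β := α + ev i) (fun v => g ⟨i, v⟩) u

theorem cmp_apply {α : Fin n → ℤ} (g : K1 I α → k) (x : K1 I α) : cmp g x.1 x.2.1 = g x :=
  (ext0_apply (β := α + ev x.1) (fun v => g ⟨x.1, v⟩) x.2).trans rfl

theorem cmp_of_not {α : Fin n → ℤ} (g : K1 I α → k) {i : Fin n} {u : Fin n → ℤ}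
    (h : u ∉ Std I ∨ u + ev i + α ∉ Std I) : cmp g i u = 0 := by
  refine ext0_of_not _ fun hh => ?_
  rcases h with h | h
  · exact h hh.1
  · exact h (by rw [add_assoc, add_comm (ev i)]; exact hh.2)

theorem std_down {u v : Fin n → ℤ} (hv : v ∈ Std I) (hu : ∀ j, 0 ≤ u j) (hle : ∀ j, u j ≤ v j) : u ∈ Std I :=
  ⟨hu, fun h => hv.2 (h.mono hle)⟩

/-- The cocycle condition. -/
def IsCocycle {α : Fin n → ℤ} (g : K1 I α → k) : Prop :=
  ∀ (w : Fin n → ℤ) (i j : Fin n), w ∈ Std I → w + ev i + ev j + α ∈ Std I →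
    cmp g i w + cmp g j (w + ev i) = cmp g j w + cmp g i (w + ev j)

/-- The potential of a cochain, with a bound on the recursion depth. -/
noncomputable def potAux {α : Fin n → ℤ} (g : K1 I α → k) : ℕ → (Fin n → ℤ) → k
  | 0, _ => 0
  | m + 1, β =>
    if β + α ∈ Std I then
      if h : ∃ i, 0 < β i then potAux g m (β - ev h.choose) + cmp g h.choose (β - ev h.choose) else 0
    else 0

/-- The degree of an integer vector. -/
def deg (β : Fin n → ℤ) : ℕ := (∑ i, β i).toNat

/-- The potential of a cochain. -/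
noncomputable def pot {α : Fin n → ℤ} (g : K1 I α → k) (β : Fin n → ℤ) : k := potAux g (deg β) β

theorem deg_add_ev {β : Fin n → ℤ} (h : ∀ i, 0 ≤ β i) (i : Fin n) : deg (β + ev i) = deg β + 1 := by
  have h0 : 0 ≤ ∑ l, β l := Finset.sum_nonneg fun l _ => h l
  have h1 : ∑ l, ev i l = 1 := by simp [toZ, Finsupp.single_apply, apply_ite, Finset.sum_ite_eq]
  simp only [deg, Pi.add_apply, Finset.sum_add_distrib, h1]
  omega

theorem sum_eq_zero {β : Fin n → ℤ} (h : ∀ i, 0 ≤ β i) (hd : deg β = 0) : β = 0 := by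
  funext i
  have h1 := Finset.single_le_sum (f := β) (fun l _ => h l) (Finset.mem_univ i)
  have := h i
  simp only [deg] at hd
  simp only [Pi.zero_apply]
  omega

theorem pot_of_not {α : Fin n → ℤ} (g : K1 I α → k) {β : Fin n → ℤ} (h : β + α ∉ Std I) : pot g β = 0 := by
  rw [pot]
  cases deg β with
  | zero => rfl
  | succ m => rw [potAux, if_neg h]

theorem pot_zero {α : Fin n → ℤ} (g : K1 I α → k) : pot g 0 = 0 := by
  simp [pot, deg, potAux]

theorem exists_pred {β : Fin n → ℤ} (h : ∀ i, 0 ≤ β i) {i : Fin n} (hi : 0 < β i) :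
    ∀ l, 0 ≤ (β - ev i) l := fun l => by
  by_cases hl : l = i
  · subst hl; simp only [Pi.sub_apply, ev_self]; omega
  · simp only [Pi.sub_apply, ev_of_ne hl]; have := h l; omega

theorem pot_choose {α : Fin n → ℤ} (g : K1 I α → k) {β : Fin n → ℤ} (hβ : ∀ i, 0 ≤ β i) (hs : β + α ∈ Std I)
    (h : ∃ i, 0 < β i) :
    pot g β = pot g (β - ev h.choose) + cmp g h.choose (β - ev h.choose) := by
  have hd : deg β = deg (β - ev h.choose) + 1 := by
    conv_lhs => rw [← sub_add_cancel β (ev h.choose)]
    exact deg_add_ev (exists_pred hβ h.choose_spec) _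
  conv_lhs => rw [pot, hd, potAux, if_pos hs, dif_pos h]
  rfl

theorem pot_step {α : Fin n → ℤ} {g : K1 I α → k} (hg : IsCocycle g) :
    ∀ (β : Fin n → ℤ) (j : Fin n), (∀ l, 0 ≤ β l) → ¬ InI I (β + ev j + α) →
      pot g (β + ev j) = pot g β + cmp g j β := by
  suffices H : ∀ (m : ℕ) (β : Fin n → ℤ) (j : Fin n), deg β = m → (∀ l, 0 ≤ β l) → ¬ InI I (β + ev j + α) →
      pot g (β + ev j) = pot g β + cmp g j β from fun β j => H _ β j rfl
  intro m
  induction m using Nat.strong_induction_on with
  | _ m ih =>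
  intro β j hm hβ hnin
  by_cases hs : β + ev j + α ∈ Std I
  · have hnn : ∀ l, 0 ≤ (β + ev j) l := fun l => (hβ l).trans (le_add_ev β j l)
    have hex : ∃ i, 0 < (β + ev j) i := ⟨j, by rw [Pi.add_apply, ev_self]; linarith [hβ j]⟩
    rw [pot_choose g hnn hs hex]
    by_cases hij : hex.choose = j
    · rw [hij, add_sub_cancel_right]
    · set i := hex.choose with hi
      have hβi : 0 < β i := by
        have := hex.choose_spec
        rwa [Pi.add_apply, ← hi, ev_of_ne hij, add_zero] at this
      set γ := β - ev i with hγ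
      have hγ0 : ∀ l, 0 ≤ γ l := exists_pred hβ hβi
      have hβe : β = γ + ev i := (sub_add_cancel β (ev i)).symm
      have hdeg : deg γ < m := by
        rw [← hm, hβe, deg_add_ev hγ0]; omega
      have e : β + ev j - ev i = γ + ev j := by rw [hγ]; abel
      rw [e]
      have hn1 : ¬ InI I (γ + ev j + α) := fun h => hnin (h.mono fun l => by
        have := ev_nonneg i l
        simp only [hβe, Pi.add_apply]; omega)
      have hn2 : ¬ InI I (γ + ev i + α) := fun h => hnin (h.mono fun l => by
        have := ev_nonneg j l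
        simp only [hβe, Pi.add_apply]; omega)
      rw [ih _ hdeg γ j rfl hγ0 hn1, hβe, ih _ hdeg γ i rfl hγ0 hn2]
      by_cases hγs : γ ∈ Std I
      · have := hg γ i j hγs (by rw [← hβe]; exact hs)
        rw [add_assoc, add_assoc, this]
      · rw [cmp_of_not g (Or.inl hγs), cmp_of_not g (i := i) (u := γ + ev j) (Or.inl fun h => hγs (std_down h hγ0 (le_add_ev γ j))),
          cmp_of_not g (i := i) (Or.inl hγs), cmp_of_not g (i := j) (u := γ + ev i) (Or.inl fun h => hγs (std_down h hγ0 (le_add_ev γ i)))]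
  · rw [pot_of_not g hs, cmp_of_not g (Or.inr hs), pot_of_not g, add_zero]
    intro h
    exact hs ⟨fun l => (h.1 l).trans (by have := ev_nonneg j l; simp only [Pi.add_apply]; omega), hnin⟩

theorem pot_add {α : Fin n → ℤ} (g g' : K1 I α → k) (β : Fin n → ℤ) :
    pot (g + g') β = pot g β + pot g' β := by
  simp only [pot]
  induction deg β generalizing β with
  | zero => simp [potAux]
  | succ m ih =>
    simp only [potAux]
    split_ifs with h1 h2
    · rw [ih, show cmp (g + g') h2.choose (β - ev h2.choose) =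
        cmp g h2.choose (β - ev h2.choose) + cmp g' h2.choose (β - ev h2.choose) by
          simp only [cmp, ext0]; split_ifs <;> simp]
      ring
    all_goals simp

theorem pot_smul {α : Fin n → ℤ} (c : k) (g : K1 I α → k) (β : Fin n → ℤ) :
    pot (c • g) β = c * pot g β := by
  simp only [pot]
  induction deg β generalizing β with
  | zero => simp [potAux]
  | succ m ih =>
    simp only [potAux]
    split_ifs with h1 h2
    · rw [ih, show cmp (c • g) h2.choose (β - ev h2.choose) = c * cmp g h2.choose (β - ev h2.choose) by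
          simp only [cmp, ext0]; split_ifs <;> simp]
      ring
    all_goals simp

variable (I) in
/-- The differential in degree zero. -/
noncomputable def d0 (α : Fin n → ℤ) : Matrix (K1 I α) (K0 I α) k := fun x v =>
  (if v.1 = x.2.1 then 1 else 0) - (if v.1 = x.2.1 + ev x.1 then 1 else 0)

theorem std_finite' [Module.Finite k (MvPolynomial (Fin n) k ⧸ I)] (hI : IsMonomial I) (β : Fin n → ℤ) :
    Finite (Pr I β) := ((std_finite hI).subset fun u hu => hu.1).to_subtype

theorem sum_ite_pr {β : Fin n → ℤ} [Fintype (Pr I β)] (f : Pr I β → k) (u : Fin n → ℤ) :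
    ∑ v, (if v.1 = u then (1 : k) else 0) * f v = ext0 f u := by
  simp only [ite_mul, one_mul, zero_mul]
  by_cases h : u ∈ Std I ∧ u + β ∈ Std I
  · rw [Finset.sum_eq_single (⟨u, h⟩ : Pr I β)]
    · rw [if_pos rfl, ext0, dif_pos h]
    · intro v _ hv
      rw [if_neg fun hh => hv (Subtype.ext hh)]
    · intro hh; exact absurd (Finset.mem_univ _) hh
  · rw [ext0_of_not _ h, Finset.sum_eq_zero]
    intro v _
    rw [if_neg fun hh => h (by rw [← hh]; exact v.2)]

theorem d0_mulVec {α : Fin n → ℤ} [Fintype (K0 I α)] (f : K0 I α → k) (x : K1 I α) :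
    (d0 I α).mulVec f x = ext0 f x.2.1 - ext0 f (x.2.1 + ev x.1) := by
  simp only [Matrix.mulVec, dotProduct, d0, sub_mul, Finset.sum_sub_distrib, sum_ite_pr]

theorem cmp_d0 {α : Fin n → ℤ} [Fintype (K0 I α)] (f : K0 I α → k) {i : Fin n} {u : Fin n → ℤ}
    (hu0 : ∀ l, 0 ≤ u l) (hs : u + ev i + α ∈ Std I) :
    cmp ((d0 I α).mulVec f) i u = ext0 f u - ext0 f (u + ev i) := by
  by_cases hu : u ∈ Std I
  · have h : u ∈ Std I ∧ u + (α + ev i) ∈ Std I := ⟨hu, by rw [add_comm α, ← add_assoc]; exact hs⟩
    rw [cmp, ext0, dif_pos h, d0_mulVec]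
  · rw [cmp_of_not _ (Or.inl hu), ext0_of_not f fun h => hu h.1,
      ext0_of_not f fun h => hu (std_down h.1 hu0 (le_add_ev u i)), sub_zero]

theorem isCocycle_d0 {α : Fin n → ℤ} [Fintype (K0 I α)] (f : K0 I α → k) :
    IsCocycle ((d0 I α).mulVec f) := by
  intro w i j hw hs
  have hw0 := hw.1
  by_cases hi : w + ev i + α ∈ Std I <;> by_cases hj : w + ev j + α ∈ Std I
  all_goals
    have hsi : w + ev i + ev j + α ∈ Std I := hs
    have hsj : w + ev j + ev i + α ∈ Std I := by rw [add_right_comm w]; exact hs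
    have hwi : ∀ l, 0 ≤ (w + ev i) l := fun l => (hw0 l).trans (le_add_ev w i l)
    have hwj : ∀ l, 0 ≤ (w + ev j) l := fun l => (hw0 l).trans (le_add_ev w j l)
    rw [cmp_d0 f hwi hsi, cmp_d0 f hwj hsj, add_right_comm w (ev j) (ev i)]
  · rw [cmp_d0 f hw0 hi, cmp_d0 f hw0 hj]; ring
  · rw [cmp_d0 f hw0 hi, cmp_of_not _ (Or.inr hj), ext0_of_not f (u := w + ev j) fun h => hj h.2]
    have : ext0 f w = 0 := ext0_of_not f fun h => hj (std_down hs (fun l => (h.2.1 l).trans (by
      have := ev_nonneg j l; simp only [Pi.add_apply]; omega)) fun l => by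
      have := ev_nonneg i l; simp only [Pi.add_apply]; omega)
    rw [this]; ring
  · rw [cmp_d0 f hw0 hj, cmp_of_not _ (Or.inr hi), ext0_of_not f (u := w + ev i) fun h => hi h.2]
    have : ext0 f w = 0 := ext0_of_not f fun h => hi (std_down hs (fun l => (h.2.1 l).trans (by
      have := ev_nonneg i l; simp only [Pi.add_apply]; omega)) fun l => by
      have := ev_nonneg j l; simp only [Pi.add_apply]; omega)
    rw [this]; ring
  · rw [cmp_of_not _ (Or.inr hi), cmp_of_not _ (Or.inr hj), ext0_of_not f (u := w + ev i) fun h => hi h.2,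
      ext0_of_not f (u := w + ev j) fun h => hj h.2]

theorem pot_d0 {α : Fin n → ℤ} [Fintype (K0 I α)] (f : K0 I α → k) :
    ∀ β : Fin n → ℤ, (∀ l, 0 ≤ β l) → β + α ∈ Std I →
      pot ((d0 I α).mulVec f) β = ext0 f 0 - ext0 f β := by
  suffices H : ∀ (m : ℕ) (β : Fin n → ℤ), deg β = m → (∀ l, 0 ≤ β l) → β + α ∈ Std I →
      pot ((d0 I α).mulVec f) β = ext0 f 0 - ext0 f β from fun β => H _ β rfl
  intro m
  induction m with
  | zero => intro β hd h0 _; rw [sum_eq_zero h0 hd, pot_zero, sub_self]
  | succ m ih =>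
    intro β hd h0 hs
    obtain ⟨i, hi⟩ : ∃ i, 0 < β i := by
      by_contra h
      push Not at h
      have : ∑ l, β l ≤ 0 := Finset.sum_nonpos fun l _ => h l
      simp only [deg] at hd
      omega
    have hγ0 := exists_pred h0 hi
    have e : β - ev i + ev i = β := sub_add_cancel _ _
    have hd' : deg (β - ev i) = m := by
      have := deg_add_ev hγ0 i
      rw [e] at this; omega
    rw [← e] at hs ⊢
    rw [pot_step (isCocycle_d0 f) _ i hγ0 hs.2, cmp_d0 f hγ0 hs]
    by_cases hγ : β - ev i + α ∈ Std I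
    · rw [ih _ hd' hγ0 hγ]; ring
    · rw [pot_of_not _ hγ, ext0_of_not f (u := β - ev i) fun h => hγ h.2]
      rw [ext0_of_not f (u := 0)]
      · simp
      · intro h
        refine hγ (std_down hs (fun l => ?_) fun l => ?_)
        · have := h.2.1 l; have := hγ0 l
          simp only [Pi.add_apply, Pi.zero_apply] at *
          omega
        · have := ev_nonneg i l
          simp only [Pi.add_apply]
          omega

variable (I) in
/-- The space of cocycles. -/
def cocycles (α : Fin n → ℤ) : Submodule k (K1 I α → k) where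
  carrier := {g | IsCocycle g}
  add_mem' {g g'} hg hg' w i j hw hs := by
    have h1 := hg w i j hw hs
    have h2 := hg' w i j hw hs
    have : ∀ (l : Fin n) (v : Fin n → ℤ), cmp (g + g') l v = cmp g l v + cmp g' l v := fun l v => by
      simp only [cmp, ext0]; split_ifs <;> simp
    simp only [this]
    rw [add_add_add_comm, h1, h2, add_add_add_comm]
  zero_mem' w i j _ _ := by simp [cmp, ext0]
  smul_mem' c {g} hg w i j hw hs := by
    have h1 := hg w i j hw hs
    have : ∀ (l : Fin n) (v : Fin n → ℤ), cmp (c • g) l v = c * cmp g l v := fun l v => by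
      simp only [cmp, ext0]; split_ifs <;> simp
    simp only [this]
    rw [← mul_add, h1, mul_add]

theorem pot_const {α : Fin n → ℤ} {g : K1 I α → k} (hg : IsCocycle g) {a b : region I α}
    (h : (regGraph I α).Reachable a b) : pot g (a.1 - α) = pot g (b.1 - α) := by
  refine const_of_step (fun γ => pot g (γ - α)) (fun a i ha hb => ?_) h
  obtain ⟨h1, h2⟩ := mem_region.1 ha
  obtain ⟨-, h3⟩ := mem_region.1 hb
  show pot g (a + ev i - α) = pot g (a - α)
  rw [add_sub_right_comm, pot_step hg _ i h1.1 (by rwa [← add_sub_right_comm, sub_add_cancel]),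
    cmp_of_not g (Or.inl fun h => h.2 h1), add_zero]

/-- The values of the potential on good components. -/
noncomputable def psi (α : Fin n → ℤ) : cocycles I α →ₗ[k] (Good I α → k) where
  toFun g C := pot g.1 ((rep (I := I) ⟨α, C⟩).1 - α)
  map_add' g g' := by funext C; exact pot_add _ _ _
  map_smul' c g := by funext C; exact pot_smul _ _ _

theorem psi_ker {α : Fin n → ℤ} [Fintype (K0 I α)] :
    LinearMap.ker (psi (I := I) α) =
      (LinearMap.range (Matrix.mulVecLin (d0 I α))).comap (cocycles I α).subtype := by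
  ext ⟨g, hg⟩
  constructor
  · intro h
    have hzero : ∀ β : Fin n → ℤ, InI I β → pot g β = 0 := by
      intro β hβ
      by_cases hs : β + α ∈ Std I
      · have hmem : β + α ∈ region I α := mem_region.2 ⟨by rwa [add_sub_cancel_right], hs.2⟩
        let C := (regGraph I α).connectedComponentMk ⟨β + α, hmem⟩
        by_cases hgood : ∀ x ∈ C.supp, ∀ i, 0 ≤ x.1 i
        · have := congrFun (LinearMap.mem_ker.1 h) ⟨C, hgood⟩
          have hr : (regGraph I α).Reachable (rep (I := I) ⟨α, ⟨C, hgood⟩⟩) ⟨β + α, hmem⟩ :=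
            SimpleGraph.ConnectedComponent.eq.1 (rep_mk (I := I) ⟨α, ⟨C, hgood⟩⟩)
          have h2 := pot_const hg hr
          simp only [add_sub_cancel_right] at h2
          exact h2.symm.trans this
        · push Not at hgood
          obtain ⟨x, hx, i, hi⟩ := hgood
          have hr : (regGraph I α).Reachable x ⟨β + α, hmem⟩ := SimpleGraph.ConnectedComponent.eq.1 hx
          have h2 := pot_const hg hr
          simp only [add_sub_cancel_right] at h2
          rw [← h2, pot_of_not]
          rw [sub_add_cancel]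
          exact fun hh => absurd (hh.1 i) (not_le.2 hi)
      · exact pot_of_not g hs
    refine ⟨fun u => - pot g u.1, funext fun x => ?_⟩
    rw [Matrix.mulVecLin_apply, d0_mulVec]
    show _ = g x
    have hs : x.2.1 + ev x.1 + α ∈ Std I := by rw [add_assoc, add_comm (ev x.1)]; exact x.2.2.2
    have h0 := x.2.2.1.1
    have e1 : ext0 (β := α) (fun u : Pr I α => - pot g u.1) x.2.1 = - pot g x.2.1 := by
      rw [ext0]
      split_ifs with h
      · rfl
      · rw [pot_of_not g fun hh => h ⟨x.2.2.1, hh⟩, neg_zero]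
    have e2 : ext0 (β := α) (fun u : Pr I α => - pot g u.1) (x.2.1 + ev x.1) = - pot g (x.2.1 + ev x.1) := by
      rw [ext0]
      split_ifs with hh
      · rfl
      · rw [hzero _ ?_, neg_zero]
        by_contra hin
        exact hh ⟨⟨fun l => (h0 l).trans (le_add_ev _ _ l), hin⟩, hs⟩
    rw [e1, e2, pot_step hg _ _ h0 hs.2, cmp_apply]
    ring
  · rintro ⟨f, hf⟩
    rw [Matrix.mulVecLin_apply] at hf
    change _ = g at hf
    subst hf
    refine LinearMap.mem_ker.2 (funext fun C => ?_)
    obtain ⟨h1, -⟩ := mem_region.1 (rep (I := I) ⟨α, C⟩).2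
    have hs := rep_std (I := I) ⟨α, C⟩
    show pot _ ((rep (I := I) ⟨α, C⟩).1 - α) = 0
    rw [pot_d0 f _ h1.1 (by rw [sub_add_cancel]; exact hs), ext0_of_not f (u := _ - _) fun h => h.1.2 h1,
      sub_zero, ext0_of_not f]
    intro h
    refine hs.2 (h1.mono fun l => ?_)
    have := h.2.1 l
    simp only [Pi.add_apply, Pi.zero_apply, Pi.sub_apply] at this ⊢
    omega

theorem psi_surjective (α : Fin n → ℤ) : Function.Surjective (psi (I := I) α) := by
  intro f
  let g : K1 I α → k := fun x => if InI I (x.2.1 + ev x.1) then cval α f (x.2.1 + ev x.1 + α) else 0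
  have hcmp : ∀ (i : Fin n) (u : Fin n → ℤ), u ∈ Std I → u + ev i + α ∈ Std I →
      cmp g i u = if InI I (u + ev i) then cval α f (u + ev i + α) else 0 := fun i u hu hs => by
    rw [cmp, ext0, dif_pos ⟨hu, by rw [add_comm α, ← add_assoc]; exact hs⟩]
  have hconst : ∀ (β : Fin n → ℤ) (j : Fin n), InI I β → ¬ InI I (β + ev j + α) →
      cval α f (β + ev j + α) = cval α f (β + α) := by
    intro β j hβ hn
    have ha : β + α ∈ region I α := mem_region.2 ⟨by rwa [add_sub_cancel_right], fun h => hn (h.mono fun l => by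
      have := ev_nonneg j l; simp only [Pi.add_apply]; omega)⟩
    have hb : β + ev j + α ∈ region I α := mem_region.2 ⟨by
      rw [add_sub_cancel_right]; exact hβ.mono (le_add_ev β j), hn⟩
    refine cval_congr f hb ha (SimpleGraph.ConnectedComponent.eq.2 (SimpleGraph.Adj.reachable ?_).symm)
    rw [SimpleGraph.induce_adj]
    have := step_adj (β + α) j
    rwa [show β + α + ev j = β + ev j + α by abel] at this
  have key : ∀ (w : Fin n → ℤ) (i j : Fin n), w ∈ Std I → w + ev i + ev j + α ∈ Std I →
      cmp g i w + cmp g j (w + ev i) =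
        if InI I (w + ev i + ev j) then cval α f (w + ev i + ev j + α) else 0 := by
    intro w i j hw hs
    by_cases hin : InI I (w + ev i)
    · rw [cmp_of_not g (i := j) (Or.inl fun h => h.2 hin), add_zero, if_pos (hin.mono (le_add_ev _ _)),
        hconst _ j hin hs.2]
      by_cases hi : w + ev i + α ∈ Std I
      · rw [hcmp i w hw hi, if_pos hin]
      · rw [cmp_of_not g (Or.inr hi), cval_of_not_std f hi]
    · have hwi : w + ev i ∈ Std I := ⟨fun l => (hw.1 l).trans (le_add_ev w i l), hin⟩
      have h0 : cmp g i w = 0 := by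
        by_cases hi : w + ev i + α ∈ Std I
        · rw [hcmp i w hw hi, if_neg hin]
        · exact cmp_of_not g (Or.inr hi)
      rw [h0, zero_add, hcmp j _ hwi hs]
  have hg : IsCocycle g := fun w i j hw hs => by
    rw [key w i j hw hs, key w j i hw (by rw [add_right_comm w]; exact hs), add_right_comm w (ev j)]
  have hpot : ∀ (m : ℕ) (β : Fin n → ℤ), deg β = m → (∀ l, 0 ≤ β l) → β + α ∈ Std I →
      pot g β = if InI I β then cval α f (β + α) else 0 := by
    intro m
    induction m with
    | zero =>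
      intro β hd h0 hs
      rw [sum_eq_zero h0 hd, pot_zero]
      split_ifs with h
      · refine (cval_of_not_std f fun hh => hh.2 (h.mono fun l => ?_)).symm
        have := hh.1 l
        simp only [Pi.zero_apply, Pi.add_apply] at this ⊢
        omega
      · rfl
    | succ m ih =>
      intro β hd h0 hs
      obtain ⟨i, hi⟩ : ∃ i, 0 < β i := by
        by_contra h
        push Not at h
        have : ∑ l, β l ≤ 0 := Finset.sum_nonpos fun l _ => h l
        simp only [deg] at hd
        omega
      have hγ0 := exists_pred h0 hi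
      obtain ⟨γ, rfl⟩ : ∃ γ, β = γ + ev i := ⟨β - ev i, (sub_add_cancel _ _).symm⟩
      rw [add_sub_cancel_right] at hγ0
      rw [deg_add_ev hγ0] at hd
      rw [pot_step hg _ i hγ0 hs.2]
      by_cases hin : InI I γ
      · rw [cmp_of_not g (Or.inl fun h => h.2 hin), add_zero, if_pos (hin.mono (le_add_ev _ _)),
          hconst _ i hin hs.2]
        by_cases hγ : γ + α ∈ Std I
        · rw [ih γ (by omega) hγ0 hγ, if_pos hin]
        · rw [pot_of_not g hγ, cval_of_not_std f hγ]
      · have h1 : pot g γ = 0 := by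
          by_cases hγ : γ + α ∈ Std I
          · rw [ih γ (by omega) hγ0 hγ, if_neg hin]
          · exact pot_of_not g hγ
        rw [h1, zero_add, hcmp i γ ⟨hγ0, hin⟩ hs]
  refine ⟨⟨g, hg⟩, funext fun C => ?_⟩
  obtain ⟨h1, -⟩ := mem_region.1 (rep (I := I) ⟨α, C⟩).2
  show pot g _ = _
  rw [hpot _ _ rfl h1.1 (by rw [sub_add_cancel]; exact rep_std (I := I) ⟨α, C⟩), if_pos h1, sub_add_cancel,
    cval, dif_pos (rep (I := I) ⟨α, C⟩).2]
  have e := rep_mk (I := I) ⟨α, C⟩
  have hgood : ∀ x ∈ ((regGraph I α).connectedComponentMk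
      ⟨(rep (I := I) ⟨α, C⟩).1, (rep (I := I) ⟨α, C⟩).2⟩).supp, ∀ i, 0 ≤ x.1 i := by
    rw [Subtype.coe_eta, e]; exact C.2
  rw [dif_pos hgood]
  congr 1
  exact Subtype.ext e

theorem finrank_cocycles [Module.Finite k (MvPolynomial (Fin n) k ⧸ I)] (hI : IsMonomial I) (α : Fin n → ℤ)
    [Fintype (K0 I α)] :
    Module.finrank k (cocycles I α) = Nat.card (Good I α) + (d0 I α).rank := by
  haveI := fun i => std_finite' hI (α + ev i)
  haveI : Finite (K1 I α) := inferInstance
  haveI := cells_finite hI
  haveI : Finite (Good I α) := Finite.of_injective (fun C => (⟨α, C⟩ : Cells I)) fun a b h => eq_of_heq (Sigma.mk.inj_iff.1 h).2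
  haveI := Fintype.ofFinite (Good I α)
  haveI := Fintype.ofFinite (K1 I α)
  have h := LinearMap.finrank_range_add_finrank_ker (psi (I := I) α)
  rw [LinearMap.range_eq_top.2 (psi_surjective α), finrank_top, Module.finrank_fintype_fun_eq_card,
    ← Nat.card_eq_fintype_card, psi_ker] at h
  rw [← h]
  congr 1
  rw [Matrix.rank]
  refine (Submodule.comapSubtypeEquivOfLe ?_).finrank_eq
  rintro _ ⟨f, rfl⟩
  exact isCocycle_d0 f

theorem rank_d0 [Module.Finite k (MvPolynomial (Fin n) k ⧸ I)] (hI : IsMonomial I) (α : Fin n → ℤ)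
    [Fintype (K0 I α)] :
    (d0 I α).rank + (if α ∈ Std I then 1 else 0) = Nat.card (K0 I α) := by
  have hinj : ∀ f : K0 I α → k, (d0 I α).mulVec f = 0 → ∀ u : K0 I α, f u = ext0 f 0 := by
    intro f hf u
    have h1 := pot_d0 f u.1 u.2.1.1 u.2.2
    rw [hf, ext0_apply] at h1
    have h2 : pot (0 : K1 I α → k) u.1 = 0 := by
      have := pot_smul (I := I) (0 : k) (0 : K1 I α → k) u.1
      simpa using this
    rw [h2] at h1
    exact (sub_eq_zero.1 h1.symm).symm
  have h := LinearMap.finrank_range_add_finrank_ker (Matrix.mulVecLin (d0 I α))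
  rw [Module.finrank_fintype_fun_eq_card, ← Nat.card_eq_fintype_card] at h
  rw [Matrix.rank, ← h]
  congr 1
  split_ifs with hα
  · have h0 : (0 : Fin n → ℤ) ∈ Std I ∧ 0 + α ∈ Std I := ⟨std_down hα (fun l => le_rfl) (fun l => hα.1 l), by rwa [zero_add]⟩
    have hker : LinearMap.ker (Matrix.mulVecLin (d0 I α)) = Submodule.span k {fun _ : K0 I α => (1 : k)} := by
      refine le_antisymm (fun f hf => Submodule.mem_span_singleton.2 ⟨ext0 f 0, funext fun u => ?_⟩) ?_
      · rw [Pi.smul_apply, smul_eq_mul, mul_one]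
        exact (hinj f (by simpa using hf) u).symm
      · rw [Submodule.span_le]
        rintro _ rfl
        refine LinearMap.mem_ker.2 (funext fun x => ?_)
        rw [Matrix.mulVecLin_apply, d0_mulVec, Pi.zero_apply]
        have hs : x.2.1 + ev x.1 + α ∈ Std I := by rw [add_assoc, add_comm (ev x.1)]; exact x.2.2.2
        have hp : ∀ v : Fin n → ℤ, (∀ l, 0 ≤ v l) → (∀ l, v l ≤ (x.2.1 + ev x.1) l) → v ∈ Std I ∧ v + α ∈ Std I := by
          intro v hv hle
          have hle' : ∀ l, (v + α) l ≤ (x.2.1 + ev x.1 + α) l := fun l => by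
            have := hle l; simp only [Pi.add_apply] at this ⊢; omega
          refine ⟨⟨hv, fun h => hs.2 (h.mono fun l => ?_)⟩,
            std_down hs (fun l => add_nonneg (hv l) (hα.1 l)) hle'⟩
          have := hle' l; have := hα.1 l; simp only [Pi.add_apply] at *; omega
        rw [ext0, dif_pos (hp _ x.2.2.1.1 (le_add_ev _ _)), ext0,
          dif_pos (hp _ (fun l => (x.2.2.1.1 l).trans (le_add_ev _ _ l)) fun l => le_rfl), sub_self]
    rw [hker, finrank_span_singleton]
    intro hh
    exact one_ne_zero (congrFun hh ⟨0, h0⟩)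
  · symm
    rw [Submodule.finrank_eq_zero, Submodule.eq_bot_iff]
    intro f hf
    funext u
    rw [hinj f (by simpa using hf) u, ext0_of_not f fun h => hα (by simpa using h.2), Pi.zero_apply]

end Groth.HilbPn
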