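import Groth.Agent.HilbPn.Duality

/-! Consequences of the duality: signature counts, staircase counts, parity. -/

set_option autoImplicit false

universe u

open MvPolynomial W4c1hilbpn

namespace Groth.HilbPn

attribute [local instance] Classical.propDecidable

variable {k : Type u} [Field k]

theorem mk_surj_std {n : ℕ} {I : Ideal (MvPolynomial (Fin n) k)} (hI : IsMonomial I)
    [Module.Finite k (MvPolynomial (Fin n) k ⧸ I)] :
    Module.finrank k (MvPolynomial (Fin n) k ⧸ I) = Nat.card {γ : Fin n → ℤ // γ ∈ Std I} := by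
  haveI : Finite {γ : Fin n → ℤ // γ ∈ Std I} := (std_finite hI).to_subtype
  haveI := Fintype.ofFinite {γ : Fin n → ℤ // γ ∈ Std I}
  let L : (MvPolynomial (Fin n) k ⧸ I) →ₗ[k] ({γ : Fin n → ℤ // γ ∈ Std I} → k) :=
    LinearMap.pi fun γ => coefZ hI γ.1
  have hL : Function.Bijective L := by
    refine ⟨fun y z h => ext_coefZ hI fun γ hγ => congrFun h ⟨γ, hγ⟩, fun g => ?_⟩
    refine ⟨Ideal.Quotient.mk I (∑ γ, monomial (toN γ.1) (g γ)), funext fun δ => ?_⟩
    show coefZ hI δ.1 _ = _
    rw [coefZ_mk hI δ.2, coeff_sum, Finset.sum_eq_single δ]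
    · simp
    · intro γ _ hγ
      rw [coeff_monomial, if_neg fun h => hγ (Subtype.ext ?_)]
      rw [← toZ_toN γ.2.1, h, toZ_toN δ.2.1]
    · intro h; exact absurd (Finset.mem_univ _) h
  rw [(LinearEquiv.ofBijective L hL).finrank_eq, Module.finrank_fintype_fun_eq_card, Nat.card_eq_fintype_card]

variable {I : Ideal (MvPolynomial (Fin 3) k)} [Module.Finite k (MvPolynomial (Fin 3) k ⧸ I)]

theorem finrank_sigPiece (hI : IsMonomial I) (N : Set (Fin 3)) :
    Module.finrank k ↥(sigPiece I N) = Nat.card {q : Cells I // ∀ i, q.1 i < 0 ↔ i ∈ N} :=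
  finrank_iSup hI (fun α => ∀ i, α i < 0 ↔ i ∈ N)

theorem sig_duality (hI : IsMonomial I) (i : Fin 3) :
    Module.finrank k ↥(sigPiece I {i}) =
      Module.finrank k ↥(sigPiece I ({i}ᶜ : Set (Fin 3))) + Module.finrank k (MvPolynomial (Fin 3) k ⧸ I) := by
  rw [finrank_sigPiece hI, finrank_sigPiece hI, mk_surj_std hI]
  have hne : i + 1 ≠ i := by revert i; decide
  have h := card_duality hI i (fun α => ∀ j, j ≠ i → 0 ≤ α j) (fun α => forall₂_congr fun j hj => by
      rw [Pi.add_apply, ev_of_ne hj, add_zero]) (fun α h => ⟨i + 1, h _ hne⟩)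
  refine (Nat.card_congr (Equiv.subtypeEquivRight fun q => ?_)).trans (h.trans (congrArg₂ (· + ·)
    (Nat.card_congr (Equiv.subtypeEquivRight fun q => ?_)) (Nat.card_congr (Equiv.subtypeEquivRight fun α => ?_))))
  · refine ⟨fun h j hj => not_lt.1 fun hh => hj ((h j).1 hh), fun h j => ⟨fun hj => ?_, fun hj => ?_⟩⟩
    · by_contra hji
      exact absurd (h j hji) (not_le.2 hj)
    · obtain rfl : j = i := hj
      by_contra hh
      refine not_all_nonneg q fun l => ?_
      by_cases hl : l = j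
      · subst hl; exact not_lt.1 hh
      · exact h l hl
  · refine ⟨fun h j => ⟨fun hj hji => ?_, fun hj => ?_⟩, fun h j hj => ?_⟩
    · obtain rfl : j = i := hji
      refine not_all_neg (by norm_num) hI q fun l => ?_
      by_cases hl : l = j
      · subst hl; exact hj
      · have := h l hl
        simp only [dual] at this
        omega
    · have := h j hj
      simp only [dual] at this
      omega
    · have := (h j).2 hj
      simp only [dual]
      omega
  · exact ⟨fun h => h.1, fun h => ⟨h, fun j _ => h.1 j⟩⟩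

theorem stair_duality (hI : IsMonomial I) (i j : ℕ) :
    Module.finrank k ↥(⨆ α : {α : Fin 3 → ℤ // α 0 = (i : ℤ) ∧ α 1 = (j : ℤ)}, tPiece I α.1) =
      stairZ I i j +
        Module.finrank k ↥(⨆ α : {α : Fin 3 → ℤ // α 0 = -(i : ℤ) - 1 ∧ α 1 = -(j : ℤ) - 1}, tPiece I α.1) := by
  rw [finrank_iSup hI (fun α => α 0 = (i : ℤ) ∧ α 1 = (j : ℤ)),
    finrank_iSup hI (fun α => α 0 = -(i : ℤ) - 1 ∧ α 1 = -(j : ℤ) - 1), stairZ, add_comm]
  have h := card_duality hI 2 (fun α => α 0 = (i : ℤ) ∧ α 1 = (j : ℤ)) (fun α => by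
      simp only [Pi.add_apply, ev_of_ne (show (0 : Fin 3) ≠ 2 by decide), ev_of_ne (show (1 : Fin 3) ≠ 2 by decide),
        add_zero]) (fun α h => ⟨0, by rw [h.1]; omega⟩)
  rw [h]
  congr 1
  · refine Nat.card_congr (Equiv.subtypeEquivRight fun q => ?_)
    simp only [dual]
    omega
  · refine Nat.card_congr
      { toFun := fun α => ⟨(α.1 2).toNat, fun h => α.2.1.2 ⟨α.2.1.1, ?_⟩⟩
        invFun := fun c => ⟨toZ (e3 i j c.1), ⟨toZ_nonneg _, fun h => c.2 (inI_toZ.1 h)⟩, rfl, rfl⟩
        left_inv := fun α => Subtype.ext (funext fun l => ?_)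
        right_inv := fun c => Subtype.ext (by simp [toZ]) }
    · convert h using 1
      ext l
      fin_cases l <;> simp [α.2.2.1, α.2.2.2]
    · have h0 := α.2.1.1 2
      fin_cases l <;> simp [toZ, α.2.2.1, α.2.2.2, h0]

theorem card_all (hI : IsMonomial I) :
    Module.finrank k (Tgt I) =
      ∑ i : Fin 3, (Module.finrank k ↥(sigPiece I {i}) + Module.finrank k ↥(sigPiece I ({i}ᶜ : Set (Fin 3)))) := by
  haveI := cells_finite hI
  haveI := Fintype.ofFinite (Cells I)
  simp only [finrank_sigPiece hI, finrank_Tgt hI]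
  simp only [Nat.card_eq_fintype_card, Fintype.card_subtype]
  rw [← Finset.card_univ]
  simp only [Finset.card_eq_sum_ones, Finset.sum_filter]
  rw [Finset.sum_congr rfl fun i _ => (Finset.sum_add_distrib).symm, Finset.sum_comm]
  refine Finset.sum_congr rfl fun q _ => ?_
  have hb : ∀ b : Fin 3 → Bool, (∃ l, b l = true) → (∃ l, b l = false) →
      1 = ∑ i : Fin 3, ((if ∀ l, b l = true ↔ l = i then 1 else 0) + (if ∀ l, b l = true ↔ l ≠ i then 1 else 0)) := by
    decide
  have h := hb (fun l => decide (q.1 l < 0)) ?_ ?_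
  · simp only [decide_eq_true_eq] at h
    simpa using h
  · by_contra hh
    push Not at hh
    exact not_all_nonneg q fun l => by simpa using hh l
  · by_contra hh
    push Not at hh
    exact not_all_neg (by norm_num) hI q fun l => by simpa using hh l

theorem parity (hI : IsMonomial I) :
    Module.finrank k (Tgt I) % 2 = Module.finrank k (MvPolynomial (Fin 3) k ⧸ I) % 2 := by
  rw [card_all hI]
  simp only [sig_duality hI, Fin.sum_univ_three]
  omega

theorem not_two_neg (hI : IsMonomial I) (q : Cells I) {i0 i1 : Fin 3} (h01 : i1 ≠ i0) (hi0 : q.1 i0 < 0)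
    (hi1 : q.1 i1 < 0) : ¬ ∀ i, q.1 i ≤ 0 := by
  intro hneg
  obtain ⟨N, hN⟩ := exists_bound hI
  let S : Set ℕ := {m | ∃ (γ : Fin 3 → ℤ) (h : γ ∈ region I q.1),
    (regGraph I q.1).Reachable ⟨γ, h⟩ (rep q) ∧ (γ i1).toNat = m}
  have hS : S.Nonempty := ⟨_, _, (rep q).2, SimpleGraph.Reachable.refl _, rfl⟩
  obtain ⟨γ, hγ, hr, hm⟩ := Nat.sInf_mem hS
  obtain ⟨hin, hnot⟩ := mem_region.1 hγ
  have hγ0 : ∀ i, 0 ≤ γ i := good_of_reachable q hr
  let up : ℕ → (Fin 3 → ℤ) := fun t j => γ j + if j = i0 then (t : ℤ) else 0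
  have hex : ∃ t, InI I (up t) := by
    refine ⟨N, fun j => ?_, by_contra fun hh => ?_⟩
    · have := hγ0 j; simp only [up]; split_ifs <;> omega
    · have := hN _ i0 hh
      simp [up] at this
      have := hγ0 i0
      omega
  let t0 := Nat.find hex
  have ht0 : InI I (up t0) := Nat.find_spec hex
  have ht0pos : 0 < t0 := Nat.pos_of_ne_zero fun h => hnot (by
    convert ht0 using 1; funext j; simp [up, h])
  set s : ℤ := t0 + q.1 i0 with hs
  let P : Fin 3 → ℤ := fun j => γ j + if j = i0 then max s 0 else 0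
  have hPnot : ¬ InI I P := by
    by_cases hs0 : 0 ≤ s
    · have hlt : s.toNat < t0 := by omega
      convert Nat.find_min hex hlt using 2
      funext j; simp only [P, up]; split_ifs
      · omega
      · rfl
    · convert hnot using 2
      funext j; simp only [P]; split_ifs <;> omega
  let lo : Fin 3 → ℤ := fun j => up t0 j + q.1 j
  have hlo : ∀ j, lo j ≤ P j := fun j => by
    have := hneg j
    simp only [lo, up, P]
    split_ifs with h
    · subst h; omega
    · omega
  have hbox : ∀ δ : Fin 3 → ℤ, (∀ j, lo j ≤ δ j) → (∀ j, δ j ≤ P j) → δ ∈ region I q.1 := fun δ h1 h2 =>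
    mem_region.2 ⟨ht0.mono fun j => by have := h1 j; simp only [lo] at this; simp only [Pi.sub_apply]; omega,
      fun h => hPnot (h.mono h2)⟩
  have hγP : ∀ j, γ j ≤ P j := fun j => by simp only [P]; split_ifs <;> omega
  have hseg : ∀ δ : Fin 3 → ℤ, (∀ j, γ j ≤ δ j) → (∀ j, δ j ≤ P j) → δ ∈ region I q.1 := fun δ h1 h2 =>
    mem_region.2 ⟨hin.mono fun j => by have := h1 j; simp only [Pi.sub_apply]; omega,
      fun h => hPnot (h.mono h2)⟩
  have hlast : (regGraph I q.1).Reachable ⟨lo, hbox lo (fun _ => le_rfl) hlo⟩ (rep q) :=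
    (reachable_box hlo hbox).trans ((reachable_box hγP hseg).symm.trans hr)
  have hlo0 := good_of_reachable q hlast i1
  have hmem : (lo i1).toNat ∈ S := ⟨lo, _, hlast, rfl⟩
  have hle := Nat.sInf_le hmem
  rw [← hm] at hle
  simp only [lo, up, if_neg h01] at hle hlo0
  omega

theorem two_neg_of_X_mem (hI : IsMonomial I) (hx : (X 0 : MvPolynomial (Fin 3) k) ∈ I) (q : Cells I)
    {a b : Fin 3} (hab : a ≠ b) (ha : q.1 a < 0) (hb : q.1 b < 0) : False := by
  obtain ⟨hin, hnot⟩ := mem_region.1 (rep q).2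
  have hγ0 := (rep_std q).1
  have hX : ∀ v : Fin 3 → ℤ, (∀ l, 0 ≤ v l) → 1 ≤ v 0 → InI I v := fun v hv h1 => ⟨hv,
    exps_upper (show Finsupp.single 0 1 ∈ exps I by simpa [exps, X] using hx) (by
      intro l; fin_cases l <;> simp; omega)⟩
  have hz : (rep q).1 0 = 0 := by
    have := hγ0 0
    by_contra hne
    exact hnot (hX _ hγ0 (by omega))
  have h0 : q.1 0 ≤ 0 := by
    have := hin.1 0
    simp only [Pi.sub_apply] at this
    omega
  rcases lt_or_eq_of_le h0 with h0' | h0'
  · obtain ⟨j, hj0, hj⟩ : ∃ j : Fin 3, j ≠ 0 ∧ q.1 j < 0 := by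
      by_cases ha0 : a = 0
      · exact ⟨b, fun h => hab (ha0.trans h.symm), hb⟩
      · exact ⟨a, ha0, ha⟩
    have hβ := fun l => hin.1 l
    simp only [Pi.sub_apply] at hβ
    let lo : Fin 3 → ℤ := fun l => if l = j then -1 else (rep q).1 l
    have hlo : ∀ l, lo l ≤ (rep q).1 l := fun l => by
      simp only [lo]; have := hγ0 l; split_ifs with h
      · subst h; omega
      · omega
    have hbox : ∀ δ : Fin 3 → ℤ, (∀ l, lo l ≤ δ l) → (∀ l, δ l ≤ (rep q).1 l) → δ ∈ region I q.1 := by
      intro δ h1 h2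
      refine mem_region.2 ⟨hX _ (fun l => ?_) ?_, fun h => hnot (h.mono h2)⟩
      · have := h1 l; have := hβ l
        simp only [lo, Pi.sub_apply] at *
        split_ifs at * with h
        · subst h; omega
        · omega
      · have := h1 0
        simp only [lo, if_neg (Ne.symm hj0)] at this
        simp only [Pi.sub_apply]
        omega
    have := good_of_reachable q ((reachable_box hlo hbox).trans (SimpleGraph.Reachable.refl _)) j
    simp [lo] at this
  · have ha0 : a ≠ 0 := fun h => by rw [h] at ha; omega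
    have hb0 : b ≠ 0 := fun h => by rw [h] at hb; omega
    refine not_two_neg hI q (i0 := a) (i1 := b) (Ne.symm hab) ha hb fun l => ?_
    have hall : ∀ a b l : Fin 3, a ≠ 0 → b ≠ 0 → a ≠ b → l = 0 ∨ l = a ∨ l = b := by decide
    rcases hall a b l ha0 hb0 hab with rfl | rfl | rfl <;> omega

theorem smooth_iff (hI : IsStronglyStable I) :
    (X 0 : MvPolynomial (Fin 3) k) ∈ I ↔
      (sigPiece I ({1, 2} : Set (Fin 3)) = ⊥ ∧ sigPiece I ({0, 2} : Set (Fin 3)) = ⊥ ∧
        sigPiece I ({0, 1} : Set (Fin 3)) = ⊥) := by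
  constructor
  · intro hx
    have key : ∀ a b : Fin 3, a ≠ b → sigPiece I ({a, b} : Set (Fin 3)) = ⊥ := fun a b hab =>
      (iSup_eq_bot_iff hI.1 (fun α => ∀ i, α i < 0 ↔ i ∈ ({a, b} : Set (Fin 3)))).2 fun q hq =>
        two_neg_of_X_mem hI.1 hx q hab ((hq a).2 (Or.inl rfl)) ((hq b).2 (Or.inr rfl))
    exact ⟨key _ _ (by decide), key _ _ (by decide), key _ _ (by decide)⟩
  · rintro ⟨-, -, h01⟩
    by_contra hx
    obtain ⟨N, hN⟩ := exists_bound hI.1
    have hbig : ∀ β : Fin 3 →₀ ℕ, ∀ l, N ≤ β l → β ∈ exps I := fun β l hl => by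
      by_contra h
      exact absurd (hN β l h) (not_lt.2 hl)
    have hxe : e3 1 0 0 ∉ exps I := fun h => hx (by
      have e : e3 1 0 0 = Finsupp.single 0 1 := by ext l; fin_cases l <;> simp
      rw [e] at h
      simpa [exps, X] using h)
    have hexa : ∃ a, e3 a 0 0 ∈ exps I := ⟨N, hbig _ 0 le_rfl⟩
    have hexc : ∃ c, e3 0 0 c ∈ exps I := ⟨N, hbig _ 2 le_rfl⟩
    have ha2 : 2 ≤ Nat.find hexa := by
      by_contra h
      exact hxe (exps_upper (Nat.find_spec hexa) (e3_le (by omega) le_rfl le_rfl))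
    set a := Nat.find hexa with hadef
    have hexb : ∃ b, e3 (a - 1) b 0 ∈ exps I := ⟨N, hbig _ 1 le_rfl⟩
    set b := Nat.find hexb with hbdef
    set c := Nat.find hexc with hcdef
    have hb1 : 1 ≤ b := Nat.pos_of_ne_zero fun h => Nat.find_min hexa (show a - 1 < a by omega) (by
      have := Nat.find_spec hexb; rwa [← hbdef, h] at this)
    have hc1 : 1 ≤ c := Nat.pos_of_ne_zero fun h => hxe (exps_upper (Nat.find_spec hexc)
      (by rw [← hcdef, h]; exact e3_le (by omega) le_rfl le_rfl))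
    have hmin : ∀ i, 0 < e3 (a - 1) b 0 i → e3 (a - 1) b 0 - Finsupp.single i 1 ∉ exps I := by
      intro i hi
      fin_cases i
      · intro h
        have h' := hI.2 _ h 0 1 (by decide) (by simp; omega)
        refine Nat.find_min hexb (show b - 1 < b by omega) ?_
        convert h' using 1
        ext l; fin_cases l <;> simp [Finsupp.single_apply]
        omega
      · intro h
        refine Nat.find_min hexb (show b - 1 < b by omega) ?_
        convert h using 1
        exact (e3_sub_1 _ _ _).symm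
      · simp at hi
    have hγ : toZ (e3 0 0 (c - 1)) ∈ Std I :=
      ⟨toZ_nonneg _, fun h => Nat.find_min hexc (show c - 1 < c by omega) (inI_toZ.1 h)⟩
    have hc : e3 0 0 c ∈ exps I := Nat.find_spec hexc
    have hsoc : ∀ i, InI I (toZ (e3 0 0 (c - 1)) + ev i) := by
      intro i
      rw [show toZ (e3 0 0 (c - 1)) + ev i = toZ (e3 0 0 (c - 1) + Finsupp.single i 1) by funext l; simp [toZ]]
      refine inI_toZ.2 ?_
      fin_cases i
      · convert hI.2 _ hc 0 2 (by decide) (by simp; omega) using 1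
        ext l; fin_cases l <;> simp [Finsupp.single_apply]
      · convert hI.2 _ hc 1 2 (by decide) (by simp; omega) using 1
        ext l; fin_cases l <;> simp [Finsupp.single_apply]
      · convert hc using 1
        ext l; fin_cases l <;> simp [Finsupp.single_apply]
        omega
    obtain ⟨q, hq⟩ := cell_of_socle hγ hsoc (Nat.find_spec hexb) hmin
    refine sigPiece_ne_bot hI.1 q (fun i => ?_) h01
    rw [hq]
    fin_cases i <;> simp [toZ] <;> first | omega | exact Nat.find_min hexa (show a - 1 < a by omega)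

end Groth.HilbPn
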