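import Groth.Agent.HilbPn.Props

/-! Monomial ideals in three variables. -/

set_option autoImplicit false

universe u

open MvPolynomial W4c1hilbpn

namespace Groth.HilbPn

attribute [local instance] Classical.propDecidable

variable {k : Type u} [Field k] {I : Ideal (MvPolynomial (Fin 3) k)}

@[simp] theorem e3_zero (a b c : ℕ) : e3 a b c 0 = a := rfl
@[simp] theorem e3_one (a b c : ℕ) : e3 a b c 1 = b := rfl
@[simp] theorem e3_two (a b c : ℕ) : e3 a b c 2 = c := rfl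

theorem e3_le {a b c a' b' c' : ℕ} (ha : a ≤ a') (hb : b ≤ b') (hc : c ≤ c') : e3 a b c ≤ e3 a' b' c' := by
  intro i
  fin_cases i
  · exact ha
  · exact hb
  · exact hc

theorem e3_eq (β : Fin 3 →₀ ℕ) : e3 (β 0) (β 1) (β 2) = β := by
  ext i; fin_cases i <;> rfl

theorem sig_witness (hI : IsMonomial I) [Module.Finite k (MvPolynomial (Fin 3) k ⧸ I)] {N : Set (Fin 3)}
    {β γ0 : Fin 3 →₀ ℕ} (hβ : β ∈ exps I) (hmin : ∀ i, 0 < β i → β - Finsupp.single i 1 ∉ exps I)
    (hγ0 : γ0 ∉ exps I)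
    (hpat : ∀ δ : Fin 3 →₀ ℕ, δ ∉ exps I → γ0 ≤ δ → ∀ i, δ i < β i ↔ i ∈ N) :
    sigPiece I N ≠ ⊥ := by
  obtain ⟨δ, hδ, hle, hsoc⟩ := exists_socle hI (γ := toZ γ0)
    ⟨toZ_nonneg _, fun h => hγ0 (inI_toZ.1 h)⟩
  obtain ⟨q, hq⟩ := cell_of_socle hδ hsoc hβ hmin
  refine sigPiece_ne_bot hI q fun i => ?_
  have h := hpat (toN δ) (fun h => hδ.2 ⟨hδ.1, h⟩) (fun j => by
    have := hle j
    simp only [toZ] at this
    simp only [toN_apply]
    omega) i
  simp only [toN_apply] at h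
  rw [← h, hq]
  have := hδ.1 i
  simp only [Pi.sub_apply, toZ]
  omega

theorem e3_sub_0 (a b c : ℕ) : e3 a b c - Finsupp.single 0 1 = e3 (a - 1) b c := by
  ext i; fin_cases i <;> simp [e3]
theorem e3_sub_1 (a b c : ℕ) : e3 a b c - Finsupp.single 1 1 = e3 a (b - 1) c := by
  ext i; fin_cases i <;> simp [e3]
theorem e3_sub_2 (a b c : ℕ) : e3 a b c - Finsupp.single 2 1 = e3 a b (c - 1) := by
  ext i; fin_cases i <;> simp [e3]

theorem three_pieces (hI : IsMonomial I) [Module.Finite k (MvPolynomial (Fin 3) k ⧸ I)]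
    (a1 a2 b1 b3 c2 c3 : ℕ) (ha1 : 0 < a1) (ha2 : 0 < a2) (hb1 : 0 < b1) (hb3 : 0 < b3)
    (hc2 : 0 < c2) (hc3 : 0 < c3)
    (hA : e3 a1 a2 0 ∈ exps I ∧ e3 (a1 - 1) a2 0 ∉ exps I ∧ e3 a1 (a2 - 1) 0 ∉ exps I)
    (hB : e3 b1 0 b3 ∈ exps I ∧ e3 (b1 - 1) 0 b3 ∉ exps I ∧ e3 b1 0 (b3 - 1) ∉ exps I)
    (hC : e3 0 c2 c3 ∈ exps I ∧ e3 0 (c2 - 1) c3 ∉ exps I ∧ e3 0 c2 (c3 - 1) ∉ exps I)
    (hcase : (b1 ≤ a1 ∧ c2 ≤ a2) ∨ (a1 ≤ b1 ∧ c3 ≤ b3) ∨ (a2 ≤ c2 ∧ b3 ≤ c3)) :
    sigPiece I ({0, 1} : Set (Fin 3)) ≠ ⊥ ∨ sigPiece I ({0, 2} : Set (Fin 3)) ≠ ⊥ ∨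
      sigPiece I ({1, 2} : Set (Fin 3)) ≠ ⊥ := by
  have hup : ∀ {a b c : ℕ} {δ : Fin 3 →₀ ℕ}, e3 a b c ∈ exps I → δ ∉ exps I →
      a ≤ δ 0 → b ≤ δ 1 → c ≤ δ 2 → False := fun hm hδ ha hb hc =>
    hδ (exps_upper hm ((e3_le ha hb hc).trans (e3_eq _).le))
  rcases hcase with ⟨h1, h2⟩ | ⟨h1, h2⟩ | ⟨h1, h2⟩
  · refine Or.inl (sig_witness hI hA.1 (fun i hi => ?_) (γ0 := e3 0 0 (max b3 c3)) (fun h => ?_) ?_)
    · fin_cases i
      · simpa [e3_sub_0] using hA.2.1
      · simpa [e3_sub_1] using hA.2.2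
      · simp [e3] at hi
    · rcases max_choice b3 c3 with hm | hm
      · exact hB.2.1 (exps_upper h (e3_le (Nat.zero_le _) le_rfl hm.le))
      · exact hC.2.1 (exps_upper h (e3_le le_rfl (Nat.zero_le _) hm.le))
    · intro δ hδ hle i
      have hz : max b3 c3 ≤ δ 2 := hle 2
      have hx : δ 0 < a1 := not_le.1 fun h => hup hB.1 hδ (h1.trans h) (Nat.zero_le _) ((le_max_left _ _).trans hz)
      have hy : δ 1 < a2 := not_le.1 fun h => hup hC.1 hδ (Nat.zero_le _) (h2.trans h) ((le_max_right _ _).trans hz)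
      fin_cases i <;> simp [hx, hy]
  · refine Or.inr (Or.inl (sig_witness hI hB.1 (fun i hi => ?_) (γ0 := e3 0 (max a2 c2) 0) (fun h => ?_) ?_))
    · fin_cases i
      · simpa [e3_sub_0] using hB.2.1
      · simp [e3] at hi
      · simpa [e3_sub_2] using hB.2.2
    · rcases max_choice a2 c2 with hm | hm
      · exact hA.2.1 (exps_upper h (e3_le (Nat.zero_le _) hm.le le_rfl))
      · exact hC.2.2 (exps_upper h (e3_le le_rfl hm.le (Nat.zero_le _)))
    · intro δ hδ hle i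
      have hy : max a2 c2 ≤ δ 1 := hle 1
      have hx : δ 0 < b1 := not_le.1 fun h => hup hA.1 hδ (h1.trans h) ((le_max_left _ _).trans hy) (Nat.zero_le _)
      have hz : δ 2 < b3 := not_le.1 fun h => hup hC.1 hδ (Nat.zero_le _) ((le_max_right _ _).trans hy) (h2.trans h)
      fin_cases i <;> simp [hx, hz]
  · refine Or.inr (Or.inr (sig_witness hI hC.1 (fun i hi => ?_) (γ0 := e3 (max a1 b1) 0 0) (fun h => ?_) ?_))
    · fin_cases i
      · simp [e3] at hi
      · simpa [e3_sub_1] using hC.2.1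
      · simpa [e3_sub_2] using hC.2.2
    · rcases max_choice a1 b1 with hm | hm
      · exact hA.2.2 (exps_upper h (e3_le hm.le (Nat.zero_le _) le_rfl))
      · exact hB.2.2 (exps_upper h (e3_le hm.le le_rfl (Nat.zero_le _)))
    · intro δ hδ hle i
      have hx : max a1 b1 ≤ δ 0 := hle 0
      have hy : δ 1 < c2 := not_le.1 fun h => hup hA.1 hδ ((le_max_left _ _).trans hx) (h1.trans h) (Nat.zero_le _)
      have hz : δ 2 < c3 := not_le.1 fun h => hup hB.1 hδ ((le_max_right _ _).trans hx) (Nat.zero_le _) (h2.trans h)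
      fin_cases i <;> simp [hy, hz]

theorem stair_le (hI : IsStronglyStable I) [Module.Finite k (MvPolynomial (Fin 3) k ⧸ I)] (i j : ℕ) :
    stairZ I (i + 1) j ≤ stairZ I i (j + 1) ∧ stairY I (i + 1) j ≤ stairY I i (j + 1) := by
  have hfin := nonExps_finite hI.1
  constructor
  · have : Finite {c : ℕ // e3 i (j + 1) c ∉ exps I} := by
      haveI : Finite {β : Fin 3 →₀ ℕ // β ∉ exps I} := hfin.to_subtype
      exact Finite.of_injective (fun c => (⟨_, c.2⟩ : {β : Fin 3 →₀ ℕ // β ∉ exps I}))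
        fun a b h => Subtype.ext (by simpa using DFunLike.congr_fun (congrArg Subtype.val h) 2)
    refine Nat.card_le_card_of_injective (fun c => ⟨c.1, fun h => c.2 ?_⟩)
      fun a b h => Subtype.ext (congrArg Subtype.val h :)
    convert hI.2 _ h 0 1 (by decide) (by simp) using 1
    ext l; fin_cases l <;> simp [Finsupp.single_apply]
  · have : Finite {b : ℕ // e3 i b (j + 1) ∉ exps I} := by
      haveI : Finite {β : Fin 3 →₀ ℕ // β ∉ exps I} := hfin.to_subtype
      exact Finite.of_injective (fun c => (⟨_, c.2⟩ : {β : Fin 3 →₀ ℕ // β ∉ exps I}))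
        fun a b h => Subtype.ext (by simpa using DFunLike.congr_fun (congrArg Subtype.val h) 1)
    refine Nat.card_le_card_of_injective (fun c => ⟨c.1, fun h => c.2 ?_⟩)
      fun a b h => Subtype.ext (congrArg Subtype.val h :)
    convert hI.2 _ h 0 2 (by decide) (by simp) using 1
    ext l; fin_cases l <;> simp [Finsupp.single_apply]

/-- Exponents of `x^a` times a monomial in the last two variables. -/
noncomputable def lift (a : ℕ) (β : Fin 2 →₀ ℕ) : Fin 3 →₀ ℕ :=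
  Finsupp.single 0 a + β.mapDomain Fin.succ

theorem lift_eq (a : ℕ) (β : Fin 2 →₀ ℕ) : lift a β = e3 a (β 0) (β 1) := by
  ext l
  fin_cases l
  · simp [lift, Finsupp.mapDomain_notin_range]
  · have := Finsupp.mapDomain_apply (Fin.succ_injective 2) β 0
    simp [lift] at this ⊢
    exact this
  · have := Finsupp.mapDomain_apply (Fin.succ_injective 2) β 1
    simp [lift] at this ⊢
    exact this

theorem mem_sliceX (hI : IsMonomial I) (a : ℕ) (f : MvPolynomial (Fin 2) k) :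
    f ∈ sliceX I a ↔ ∀ β ∈ f.support, lift a β ∈ exps I := by
  rw [sliceX, Ideal.mem_comap, Submodule.mem_colon_singleton]
  have hcoef : ∀ β : Fin 2 →₀ ℕ, coeff (lift a β)
      ((MvPolynomial.rename Fin.succ).toRingHom f • (X 0 : MvPolynomial (Fin 3) k) ^ a) = coeff β f := by
    intro β
    rw [smul_eq_mul, X_pow_eq_monomial, mul_comm, lift, coeff_monomial_mul, one_mul]
    exact coeff_rename_mapDomain _ (Fin.succ_injective 2) _ _
  constructor
  · intro h β hβ
    refine hI _ h _ (mem_support_iff.2 ?_)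
    rw [hcoef]
    exact mem_support_iff.1 hβ
  · intro h
    refine mem_of_coeff_eq_zero fun δ hδ => ?_
    rw [smul_eq_mul, X_pow_eq_monomial, mul_comm, coeff_monomial_mul']
    split_ifs with hle
    · rw [one_mul]
      by_contra hne
      obtain ⟨β, hβ, hc⟩ := coeff_rename_ne_zero _ _ _ hne
      refine hδ ?_
      have := h β (mem_support_iff.2 hc)
      rwa [lift, hβ, add_tsub_cancel_of_le hle] at this
    · rfl

theorem exps_sliceX (hI : IsMonomial I) (a : ℕ) (β : Fin 2 →₀ ℕ) :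
    β ∈ exps (sliceX I a) ↔ e3 a (β 0) (β 1) ∈ exps I := by
  show monomial β (1 : k) ∈ sliceX I a ↔ _
  rw [mem_sliceX hI, support_monomial, if_neg one_ne_zero, ← lift_eq]
  simp

theorem sliceX_stable (hI : IsStronglyStable I) (a : ℕ) :
    IsStronglyStable (sliceX I a) ∧
      (sliceX I a).colon {(X 0 : MvPolynomial (Fin 2) k)} ≤ sliceX I (a + 1) := by
  refine ⟨⟨fun p hp β hβ => (exps_sliceX hI.1 a β).2 (by rw [← lift_eq]; exact (mem_sliceX hI.1 a p).1 hp β hβ),
    fun β hβ i j hij hj => ?_⟩, fun f hf => ?_⟩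
  · obtain ⟨rfl, rfl⟩ : i = 0 ∧ j = 1 := by
      fin_cases i <;> fin_cases j <;> simp at hij ⊢
    rw [exps_sliceX hI.1] at hβ ⊢
    have := hI.2 _ hβ 1 2 (by decide) (by simpa using hj)
    convert this using 1
    ext l; fin_cases l <;> simp [Finsupp.single_apply]
  · rw [mem_sliceX hI.1]
    intro β hβ
    rw [Submodule.mem_colon_singleton, mem_sliceX hI.1] at hf
    have h := hf (β + Finsupp.single 0 1) (by
      rw [mem_support_iff, smul_eq_mul, coeff_mul_X]
      exact mem_support_iff.1 hβ)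
    rw [lift_eq] at h
    rw [lift_eq]
    have := hI.2 _ h 0 1 (by decide) (by simp)
    convert this using 1
    ext l; fin_cases l <;> simp [Finsupp.single_apply]

end Groth.HilbPn
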