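import Groth.Agent.HilbPn.Cocycle
import Groth.Agent.HilbPn.Three

/-! Duality between the multidegrees `α` and `-α - 1` in three variables. -/

set_option autoImplicit false

universe u

open MvPolynomial W4c1hilbpn

namespace Groth.HilbPn

attribute [local instance] Classical.propDecidable

variable {k : Type u} [Field k] {I : Ideal (MvPolynomial (Fin 3) k)}

theorem fin3_facts : ∀ l : Fin 3, l + 2 ≠ l + 1 ∧ l ≠ l + 1 ∧ l ≠ l + 2 ∧ l + 1 + 1 = l + 2 ∧ l + 1 + 2 = l ∧
    l + 2 + 1 = l ∧ l + 2 + 2 = l + 1 := by decide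

theorem fin3_third : ∀ l i : Fin 3, i ≠ l + 1 → i ≠ l + 2 → i = l := by decide

theorem fin3_pair : ∀ i j : Fin 3, i ≠ j →
    ∃ l : Fin 3, (i = l + 1 ∧ j = l + 2) ∨ (j = l + 1 ∧ i = l + 2) := by decide

theorem sum_rot (f : Fin 3 → ℤ) (i : Fin 3) : ∑ j, f j = f i + f (i + 1) + f (i + 2) := by
  rw [Fin.sum_univ_three]
  fin_cases i <;> simp <;> ring

variable (I) in
/-- Cochains of degree two. -/
abbrev K2 (α : Fin 3 → ℤ) := Σ l : Fin 3, Pr I (α + ev (l + 1) + ev (l + 2))

variable (I) in
/-- The differential in degree one. -/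
noncomputable def d1 (α : Fin 3 → ℤ) : Matrix (K2 I α) (K1 I α) k := fun y x =>
  if x.1 = y.1 + 1 then (if x.2.1 = y.2.1 then 1 else 0) - (if x.2.1 = y.2.1 + ev (y.1 + 2) then 1 else 0)
  else if x.1 = y.1 + 2 then -((if x.2.1 = y.2.1 then 1 else 0) - (if x.2.1 = y.2.1 + ev (y.1 + 1) then 1 else 0))
  else 0

theorem d1_mulVec {α : Fin 3 → ℤ} [∀ i, Fintype (Pr I (α + ev i))] (g : K1 I α → k) (y : K2 I α) :
    (d1 I α).mulVec g y = (cmp g (y.1 + 1) y.2.1 - cmp g (y.1 + 1) (y.2.1 + ev (y.1 + 2))) -
      (cmp g (y.1 + 2) y.2.1 - cmp g (y.1 + 2) (y.2.1 + ev (y.1 + 1))) := by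
  have hF : ∑ x, d1 I α y x * g x = ∑ i : Fin 3, ∑ u : Pr I (α + ev i), d1 I α y ⟨i, u⟩ * g ⟨i, u⟩ :=
    Fintype.sum_sigma _
  rw [Matrix.mulVec, dotProduct, hF]
  obtain ⟨l, w⟩ := y
  obtain ⟨h21, h01, h02, -, -, -, -⟩ := fin3_facts l
  have hall := fin3_third l
  rw [Finset.sum_eq_add (l + 1) (l + 2) h21.symm]
  · simp only [d1, if_true, if_neg h21, neg_mul, sub_mul, Finset.sum_neg_distrib, Finset.sum_sub_distrib, cmp,
      sum_ite_pr]
    ring
  · intro i _ hi
    obtain rfl := hall i hi.1 hi.2
    refine Finset.sum_eq_zero fun u _ => ?_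
    simp only [d1, if_neg h01, if_neg h02, zero_mul]
  · intro h; exact absurd (Finset.mem_univ _) h
  · intro h; exact absurd (Finset.mem_univ _) h

theorem ker_d1 {α : Fin 3 → ℤ} [∀ i, Fintype (Pr I (α + ev i))] :
    LinearMap.ker (Matrix.mulVecLin (d1 I α)) = cocycles I α := by
  ext g
  constructor
  · intro h w i j hw hs
    by_cases hij : i = j
    · subst hij; rfl
    · obtain ⟨l, hl⟩ := fin3_pair i j hij
      rcases hl with ⟨rfl, rfl⟩ | ⟨rfl, rfl⟩
      · have hy : w ∈ Std I ∧ w + (α + ev (l + 1) + ev (l + 2)) ∈ Std I := ⟨hw, by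
          rwa [show w + (α + ev (l + 1) + ev (l + 2)) = w + ev (l + 1) + ev (l + 2) + α by abel]⟩
        have := congrFun (LinearMap.mem_ker.1 h) ⟨l, ⟨w, hy⟩⟩
        rw [Matrix.mulVecLin_apply, d1_mulVec, Pi.zero_apply] at this
        rw [← sub_eq_zero, ← this]
        ring
      · have hy : w ∈ Std I ∧ w + (α + ev (l + 1) + ev (l + 2)) ∈ Std I := ⟨hw, by
          rwa [show w + (α + ev (l + 1) + ev (l + 2)) = w + ev (l + 2) + ev (l + 1) + α by abel]⟩
        have := congrFun (LinearMap.mem_ker.1 h) ⟨l, ⟨w, hy⟩⟩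
        rw [Matrix.mulVecLin_apply, d1_mulVec, Pi.zero_apply] at this
        symm
        rw [← sub_eq_zero, ← this]
        ring
  · intro h
    refine LinearMap.mem_ker.2 (funext fun y => ?_)
    rw [Matrix.mulVecLin_apply, d1_mulVec, Pi.zero_apply]
    have hs : y.2.1 + ev (y.1 + 1) + ev (y.1 + 2) + α ∈ Std I := by
      have := y.2.2.2
      rwa [show y.2.1 + (α + ev (y.1 + 1) + ev (y.1 + 2)) = y.2.1 + ev (y.1 + 1) + ev (y.1 + 2) + α by abel] at this
    have := h y.2.1 (y.1 + 1) (y.1 + 2) y.2.2.1 hs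
    rw [← sub_eq_zero] at this
    rw [← this]
    ring

/-- The dual multidegree. -/
noncomputable def dual (α : Fin 3 → ℤ) : Fin 3 → ℤ := fun i => -α i - 1

theorem dual_dual (α : Fin 3 → ℤ) : dual (dual α) = α := by funext i; simp [dual]

theorem ev_sum (i : Fin 3) : ev i + ev (i + 1) + ev (i + 2) = fun _ => 1 := by
  funext j
  fin_cases i <;> fin_cases j <;> simp [toZ, Finsupp.single_apply]

theorem dual_one (α : Fin 3 → ℤ) (i : Fin 3) : dual α + ev (i + 1) + ev (i + 2) = -(α + ev i) := by
  funext j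
  have := congrFun (ev_sum i) j
  simp only [Pi.add_apply, Pi.neg_apply, dual] at this ⊢
  omega

theorem dual_two (α : Fin 3 → ℤ) (i : Fin 3) : dual α + ev i = -(α + ev (i + 1) + ev (i + 2)) := by
  funext j
  have := congrFun (ev_sum i) j
  simp only [Pi.add_apply, Pi.neg_apply, dual] at this ⊢
  omega

variable (I) in
/-- Swapping the two members of a pair. -/
noncomputable def swapPr {β β' : Fin 3 → ℤ} (h : β' = -β) : Pr I β ≃ Pr I β' where
  toFun u := ⟨u.1 + β, u.2.2, by rw [h, add_neg_cancel_right]; exact u.2.1⟩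
  invFun v := ⟨v.1 + β', v.2.2, by rw [show v.1 + β' + β = v.1 by subst h; abel]; exact v.2.1⟩
  left_inv u := Subtype.ext (by simp [h])
  right_inv v := Subtype.ext (by simp [h])

variable (I) in
/-- Degree one at `α` is degree two at the dual. -/
noncomputable def sigma12 (α : Fin 3 → ℤ) : K1 I α ≃ K2 I (dual α) :=
  Equiv.sigmaCongrRight fun i => swapPr I (dual_one α i)

variable (I) in
/-- Degree two at `α` is degree one at the dual. -/
noncomputable def sigma21 (α : Fin 3 → ℤ) : K2 I α ≃ K1 I (dual α) :=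
  Equiv.sigmaCongrRight fun i => swapPr I (dual_two α i)

theorem d1_dual (α : Fin 3 → ℤ) :
    (d1 I (dual α)).submatrix (sigma12 I α) (sigma21 I α) = (d1 I α).transpose := by
  ext x y
  obtain ⟨i, u⟩ := x
  obtain ⟨l, w⟩ := y
  show d1 I (dual α) ⟨i, swapPr I (dual_one α i) u⟩ ⟨l, swapPr I (dual_two α l) w⟩ = d1 I α ⟨l, w⟩ ⟨i, u⟩
  simp only [d1, swapPr, Equiv.coe_fn_mk]
  by_cases h1 : i = l + 1
  · subst h1
    obtain ⟨-, -, -, e3, e2', -, -⟩ := fin3_facts l
    have e1 : l ≠ l + 1 + 1 := by rw [e3]; exact (fin3_facts l).2.2.1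
    have e2 : l = l + 1 + 2 := e2'.symm
    rw [if_pos rfl, if_neg e1, if_pos e2, neg_sub]
    congr 1
    · refine if_congr ?_ rfl rfl
      constructor <;> intro h <;> funext j <;> have := congrFun h j <;>
        have hh := congrFun (congrArg ev e3) j <;> simp only [Pi.add_apply] at this hh ⊢ <;> omega
    · refine if_congr ?_ rfl rfl
      constructor <;> intro h <;> funext j <;> have := congrFun h j <;>
        have hh := congrFun (congrArg ev e3) j <;> simp only [Pi.add_apply] at this hh ⊢ <;> omega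
  · by_cases h2 : i = l + 2
    · subst h2
      obtain ⟨-, -, -, -, -, e1', e3⟩ := fin3_facts l
      have e1 : l = l + 2 + 1 := e1'.symm
      rw [if_neg h1, if_pos rfl, if_pos e1, neg_sub]
      congr 1
      · refine if_congr ?_ rfl rfl
        constructor <;> intro h <;> funext j <;> have := congrFun h j <;>
          have hh := congrFun (congrArg ev e3) j <;> simp only [Pi.add_apply] at this hh ⊢ <;> omega
      · refine if_congr ?_ rfl rfl
        constructor <;> intro h <;> funext j <;> have := congrFun h j <;>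
          have hh := congrFun (congrArg ev e3) j <;> simp only [Pi.add_apply] at this hh ⊢ <;> omega
    · obtain rfl := fin3_third l i h1 h2
      rw [if_neg h1, if_neg h2, if_neg (fin3_facts i).2.1, if_neg (fin3_facts i).2.2.1]

variable (I) in
/-- The number of pairs of standard monomials at difference `β`. -/
noncomputable def nPr (β : Fin 3 → ℤ) : ℤ := Nat.card (Pr I β)

variable (I) in
/-- The dimension of a graded piece. -/
noncomputable def tdim (α : Fin 3 → ℤ) : ℤ := Nat.card (Good I α)

variable (I) in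
/-- The indicator of standard monomials. -/
noncomputable def stdInd (α : Fin 3 → ℤ) : ℤ := if α ∈ Std I then 1 else 0

theorem tdim_sub_dual [Module.Finite k (MvPolynomial (Fin 3) k ⧸ I)] (hI : IsMonomial I) (α : Fin 3 → ℤ) :
    tdim I α - tdim I (dual α) = stdInd I α - stdInd I (dual α) - nPr I α
      + (∑ i : Fin 3, nPr I (α + ev i)) - (∑ i : Fin 3, nPr I (α + ev (i + 1) + ev (i + 2)))
      + nPr I (α + fun _ => 1) := by
  haveI : ∀ β : Fin 3 → ℤ, Finite (Pr I β) := fun β => std_finite' hI β
  haveI : ∀ β : Fin 3 → ℤ, Fintype (Pr I β) := fun β => Fintype.ofFinite _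
  have hmain : ∀ β : Fin 3 → ℤ, (Nat.card (Good I β) + (d0 I β).rank) + (d1 I β).rank = Nat.card (K1 I β) := by
    intro β
    have h := LinearMap.finrank_range_add_finrank_ker (Matrix.mulVecLin (d1 I β))
    rw [ker_d1, finrank_cocycles hI, Module.finrank_fintype_fun_eq_card, ← Nat.card_eq_fintype_card] at h
    simp only [Matrix.rank] at h ⊢
    omega
  have hr1 : (d1 I (dual α)).rank = (d1 I α).rank := by
    rw [← Matrix.rank_submatrix (d1 I (dual α)) (sigma12 I α) (sigma21 I α), d1_dual, Matrix.rank_transpose]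
  have hK : ∀ β : Fin 3 → ℤ, (Nat.card (K1 I β) : ℤ) = ∑ i : Fin 3, nPr I (β + ev i) := fun β => by
    rw [Nat.card_sigma, Nat.cast_sum]
    rfl
  have e0 : nPr I (dual α) = nPr I (α + fun _ => 1) := by
    refine congrArg Nat.cast (Nat.card_congr (swapPr I ?_))
    funext j; simp [dual]; omega
  have e2 : ∀ i, nPr I (dual α + ev i) = nPr I (α + ev (i + 1) + ev (i + 2)) := fun i => by
    refine congrArg Nat.cast (Nat.card_congr (swapPr I (dual_two α i))).symm
  have h1 := hmain α
  have h2 := hmain (dual α)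
  rw [hr1] at h2
  have h3 := rank_d0 hI α
  have h4 := rank_d0 hI (dual α)
  have k1 := hK α
  have k2 := hK (dual α)
  simp only [e2] at k2
  rw [show Nat.card (K0 I α) = Nat.card (Pr I α) from rfl] at h3
  rw [show Nat.card (K0 I (dual α)) = Nat.card (Pr I (dual α)) from rfl] at h4
  rw [← e0]
  simp only [tdim, stdInd, nPr] at *
  split_ifs at h3 h4 ⊢ <;> omega

theorem good_finite [Module.Finite k (MvPolynomial (Fin 3) k ⧸ I)] (hI : IsMonomial I) :
    (Function.support (tdim I)).Finite := by
  haveI := cells_finite hI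
  refine (Set.finite_range (Sigma.fst : Cells I → _)).subset fun α hα => ?_
  rw [Function.mem_support, tdim, ne_eq, Nat.cast_eq_zero, Nat.card_eq_zero] at hα
  push Not at hα
  obtain ⟨C⟩ := hα.1
  exact ⟨⟨α, C⟩, rfl⟩

theorem nPr_finite [Module.Finite k (MvPolynomial (Fin 3) k ⧸ I)] (hI : IsMonomial I) :
    (Function.support (nPr I)).Finite := by
  have hS := std_finite hI
  refine ((hS.prod hS).image fun p => p.2 - p.1).subset fun β hβ => ?_
  rw [Function.mem_support, nPr, ne_eq, Nat.cast_eq_zero, Nat.card_eq_zero] at hβ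
  push Not at hβ
  obtain ⟨u⟩ := hβ.1
  exact ⟨(u.1, u.1 + β), ⟨u.2.1, u.2.2⟩, by simp⟩

theorem stdInd_finite [Module.Finite k (MvPolynomial (Fin 3) k ⧸ I)] (hI : IsMonomial I) :
    (Function.support (stdInd I)).Finite :=
  (std_finite hI).subset fun α hα => by
    by_contra h
    exact hα (if_neg h)

theorem support_ite {f : (Fin 3 → ℤ) → ℤ} (hf : (Function.support f).Finite) (p : (Fin 3 → ℤ) → Prop) :
    (Function.support fun α => if p α then f α else 0).Finite :=
  hf.subset fun α hα => by
    intro h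
    simp [h] at hα

theorem support_shift {f : (Fin 3 → ℤ) → ℤ} (hf : (Function.support f).Finite) (v : Fin 3 → ℤ) :
    (Function.support fun α => f (α + v)).Finite :=
  (hf.image fun β => β - v).subset fun α hα => ⟨α + v, hα, add_sub_cancel_right _ _⟩

/-- The three-variable duality summed over a set of multidegrees stable under shifts in one direction. -/
theorem sum_duality [Module.Finite k (MvPolynomial (Fin 3) k ⧸ I)] (hI : IsMonomial I) (i : Fin 3)
    (p : (Fin 3 → ℤ) → Prop) (hp : ∀ α, p (α + ev i) ↔ p α) (hdual : ∀ α, p α → ∃ j, α j ≥ 0) :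
    ∑ᶠ α, (if p α then tdim I α else 0) =
      ∑ᶠ α, (if p α then tdim I (dual α) else 0) + ∑ᶠ α, (if p α then stdInd I α else 0) := by
  let G : (Fin 3 → ℤ) → ℤ := fun α =>
    nPr I (α + ev (i + 1)) + nPr I (α + ev (i + 2)) - nPr I α - nPr I (α + ev (i + 1) + ev (i + 2))
  have hG : (Function.support G).Finite := by
    refine ((((support_shift (nPr_finite hI) (ev (i + 1))).union (support_shift (nPr_finite hI) (ev (i + 2)))).union
      (nPr_finite hI)).union (support_shift (nPr_finite hI) (ev (i + 1) + ev (i + 2)))).subset fun α hα => ?_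
    by_contra h
    simp only [Set.mem_union, Function.mem_support, not_or, not_not] at h
    simp only [G, Function.mem_support] at hα
    rw [add_assoc α] at hα
    omega
  have hdualfin : (Function.support fun α => tdim I (dual α)).Finite :=
    ((good_finite hI).image dual).subset fun α hα => ⟨dual α, hα, dual_dual α⟩
  have hpoint : ∀ α, (if p α then tdim I α else 0) = ((if p α then tdim I (dual α) else 0) +
      (if p α then stdInd I α else 0)) + ((if p α then G α else 0) - (if p (α + ev i) then G (α + ev i) else 0)) := by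
    intro α
    simp only [hp]
    split_ifs with h
    · have hd : stdInd I (dual α) = 0 := if_neg fun hh => by
        obtain ⟨j, hj⟩ := hdual α h
        have := hh.1 j
        simp only [dual] at this
        omega
      have h1 := tdim_sub_dual hI α
      have hone : α + (fun _ => (1 : ℤ)) = α + ev i + ev (i + 1) + ev (i + 2) := by
        rw [← ev_sum i]; abel
      rw [hd, hone] at h1
      rw [sum_rot _ i, sum_rot _ i] at h1
      obtain ⟨-, -, -, f11, f12, f21, f22⟩ := fin3_facts i
      simp only [f11, f12, f21, f22] at h1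
      rw [add_right_comm α (ev (i + 2)) (ev i)] at h1
      simp only [G]
      omega
    · simp
  rw [finsum_congr hpoint, finsum_add_distrib, finsum_add_distrib (support_ite hdualfin p) (support_ite (stdInd_finite hI) p),
    finsum_sub_distrib (support_ite hG p)]
  · have e : (∑ᶠ α, if p (α + ev i) then G (α + ev i) else 0) = ∑ᶠ α, if p α then G α else 0 :=
      finsum_comp_equiv (Equiv.addRight (ev i)) (f := fun α => if p α then G α else 0)
    rw [e, sub_self, add_zero]
  · exact (support_shift (support_ite hG p) (ev i))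
  · exact ((support_ite hdualfin p).union (support_ite (stdInd_finite hI) p)).subset (Function.support_add _ _)
  · exact ((support_ite hG p).union (support_shift (support_ite hG p) (ev i))).subset (Function.support_sub _ _)

theorem finsum_tdim [Module.Finite k (MvPolynomial (Fin 3) k ⧸ I)] (hI : IsMonomial I) (p : (Fin 3 → ℤ) → Prop) :
    ∑ᶠ α, (if p α then tdim I α else 0) = (Nat.card {q : Cells I // p q.1} : ℤ) := by
  haveI := cells_finite hI
  haveI := Fintype.ofFinite (Cells I)
  have hGood : ∀ α, Finite (Good I α) := fun α =>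
    Finite.of_injective (fun C => (⟨α, C⟩ : Cells I)) fun a b h => eq_of_heq (Sigma.mk.inj_iff.1 h).2
  haveI : ∀ α, Fintype (Good I α) := fun α => Fintype.ofFinite _
  set A := (Finset.univ.image (Sigma.fst : Cells I → _)).filter p
  rw [finsum_eq_sum_of_support_subset (s := A)]
  · rw [Finset.sum_congr rfl fun α hα => if_pos (Finset.mem_filter.1 hα).2]
    unfold tdim
    rw [← Nat.cast_sum]
    congr 1
    rw [← Finset.sum_coe_sort, ← Nat.card_sigma]
    refine Nat.card_congr
      { toFun := fun z => ⟨⟨z.1.1, z.2⟩, (Finset.mem_filter.1 z.1.2).2⟩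
        invFun := fun q => ⟨⟨q.1.1, Finset.mem_filter.2 ⟨Finset.mem_image.2 ⟨q.1, Finset.mem_univ _, rfl⟩, q.2⟩⟩, q.1.2⟩
        left_inv := fun z => rfl
        right_inv := fun q => rfl }
  · intro α hα
    rw [Function.mem_support] at hα
    split_ifs at hα with h
    · simp only [tdim, ne_eq, Nat.cast_eq_zero, Nat.card_eq_zero] at hα
      push Not at hα
      obtain ⟨C⟩ := hα.1
      exact Finset.mem_coe.2 (Finset.mem_filter.2 ⟨Finset.mem_image.2 ⟨⟨α, C⟩, Finset.mem_univ _, rfl⟩, h⟩)
    · exact absurd rfl hα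

theorem finsum_stdInd [Module.Finite k (MvPolynomial (Fin 3) k ⧸ I)] (hI : IsMonomial I) (p : (Fin 3 → ℤ) → Prop) :
    ∑ᶠ α, (if p α then stdInd I α else 0) = (Nat.card {α : Fin 3 → ℤ // α ∈ Std I ∧ p α} : ℤ) := by
  have hfin : {α : Fin 3 → ℤ | α ∈ Std I ∧ p α}.Finite := (std_finite hI).subset fun α h => h.1
  rw [finsum_eq_sum_of_support_subset (s := hfin.toFinset)]
  · rw [Finset.sum_congr rfl fun α hα => by
      obtain ⟨h1, h2⟩ := hfin.mem_toFinset.1 hα
      rw [if_pos h2, stdInd, if_pos h1], Finset.sum_const, nsmul_one]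
    congr 1
    exact (Nat.card_eq_card_finite_toFinset hfin).symm
  · intro α hα
    rw [Function.mem_support] at hα
    split_ifs at hα with h
    · simp only [stdInd] at hα
      split_ifs at hα with h1
      · exact hfin.mem_toFinset.2 ⟨h1, h⟩
      · exact absurd rfl hα
    · exact absurd rfl hα

/-- The duality count: dimensions over a shift-stable set and over its dual. -/
theorem card_duality [Module.Finite k (MvPolynomial (Fin 3) k ⧸ I)] (hI : IsMonomial I) (i : Fin 3)
    (p : (Fin 3 → ℤ) → Prop) (hp : ∀ α, p (α + ev i) ↔ p α) (hdual : ∀ α, p α → ∃ j, α j ≥ 0) :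
    Nat.card {q : Cells I // p q.1} =
      Nat.card {q : Cells I // p (dual q.1)} + Nat.card {α : Fin 3 → ℤ // α ∈ Std I ∧ p α} := by
  have h := sum_duality hI i p hp hdual
  rw [finsum_tdim hI p, finsum_stdInd hI p] at h
  have e : (∑ᶠ α, if p α then tdim I (dual α) else 0) = ∑ᶠ α, if p (dual α) then tdim I α else 0 := by
    rw [← finsum_comp_equiv (Function.Involutive.toPerm dual dual_dual)]
    refine finsum_congr fun α => ?_
    show (if p (dual α) then tdim I (dual (dual α)) else 0) = _
    rw [dual_dual]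
  rw [e, finsum_tdim hI fun α => p (dual α)] at h
  exact_mod_cast h

end Groth.HilbPn
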