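import Groth.Prelude.Def_W4c6puncthilbintroLift
import Groth.Agent.EGA43Flat.Nilpotent
import Mathlib.RingTheory.RingHom.Flat

/-! First-order liftings of an ideal are the ideals `liftIdeal I φ`. -/

set_option autoImplicit false
set_option linter.style.haveILetI false

universe u

open TensorProduct TrivSqZeroExt W4c6puncthilbintro

attribute [local instance] W4c6puncthilbintro.dualAlgebra

namespace Groth.HilbPn.FirstOrder

variable {A : Type u} [CommRing A] {R : Type u} [CommRing R] [Algebra A R]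

/-- The kernel of the reduction. -/
def epsIdeal (A : Type u) [CommRing A] : Ideal (DualNumber A) := RingHom.ker (fstHom A A A)

theorem mem_epsIdeal {x : DualNumber A} : x ∈ epsIdeal A ↔ x.fst = 0 := Iff.rfl

theorem eq_mul_eps {x : DualNumber R} (hx : x.fst = 0) : x = inl x.snd * DualNumber.eps := by
  ext <;> simp [hx]

theorem epsIdeal_sq (a b : DualNumber A) (ha : a ∈ epsIdeal A) (hb : b ∈ epsIdeal A) : a * b = 0 := by
  rw [mem_epsIdeal] at ha hb
  ext <;> simp [ha, hb]

theorem algebraMap_eps : algebraMap (DualNumber A) (DualNumber R) DualNumber.eps = DualNumber.eps :=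
  dualMap_eps A R

theorem algebraMap_inl (a : A) :
    algebraMap (DualNumber A) (DualNumber R) (inl a) = inl (algebraMap A R a) :=
  (dualMap_inl A R a).trans (TrivSqZeroExt.algebraMap_eq_inl' A R R a)

theorem fst_algebraMap (c : DualNumber A) :
    (algebraMap (DualNumber A) (DualNumber R) c).fst = algebraMap A R c.fst := by
  conv_lhs => rw [← inl_fst_add_inr_snd_eq c, map_add, show inr c.snd = inl c.snd * (DualNumber.eps : DualNumber A) by
    ext <;> simp, map_mul, algebraMap_inl, algebraMap_inl, algebraMap_eps]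
  simp

theorem eps_smul_mk (J : Ideal (DualNumber R)) (x : DualNumber R) :
    (DualNumber.eps : DualNumber A) • Ideal.Quotient.mk J x = Ideal.Quotient.mk J (DualNumber.eps * x) := by
  show Ideal.Quotient.mk J (algebraMap (DualNumber A) (DualNumber R) DualNumber.eps * x) = _
  rw [algebraMap_eps]

variable {I : Ideal R} (φ : I →ₗ[R] R ⧸ I)

theorem mem_liftIdeal {x : DualNumber R} :
    x ∈ liftIdeal I φ ↔ ∃ h : x.fst ∈ I, Ideal.Quotient.mk I x.snd = φ ⟨x.fst, h⟩ := Iff.rfl

theorem exists_lift_mem (a : R) (ha : a ∈ I) :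
    ∃ b : R, Ideal.Quotient.mk I b = φ ⟨a, ha⟩ ∧ (inl a + inr b : DualNumber R) ∈ liftIdeal I φ := by
  obtain ⟨b, hb⟩ := Ideal.Quotient.mk_surjective (φ ⟨a, ha⟩)
  refine ⟨b, hb, (mem_liftIdeal φ).2 ⟨by simpa using ha, ?_⟩⟩
  rw [show (⟨(inl a + inr b : DualNumber R).fst, _⟩ : I) = ⟨a, ha⟩ from Subtype.ext (by simp)]
  simpa using hb

theorem map_fst_liftIdeal : Ideal.map (fstHom A R R) (liftIdeal I φ) = I := by
  refine le_antisymm (Ideal.map_le_iff_le_comap.2 fun x hx => ((mem_liftIdeal φ).1 hx).1) fun a ha => ?_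
  obtain ⟨b, -, hb⟩ := exists_lift_mem φ a ha
  have := Ideal.mem_map_of_mem (fstHom A R R) hb
  simpa using this

theorem liftIdeal_injective : Function.Injective (liftIdeal I) := fun φ ψ h => LinearMap.ext fun ⟨a, ha⟩ => by
  obtain ⟨b, hb, hmem⟩ := exists_lift_mem φ a ha
  rw [h] at hmem
  obtain ⟨h', hb'⟩ := (mem_liftIdeal ψ).1 hmem
  rw [show (⟨(inl a + inr b : DualNumber R).fst, h'⟩ : I) = ⟨a, ha⟩ from Subtype.ext (by simp)] at hb'
  rw [← hb, ← hb']
  simp

variable [Module.Flat A (R ⧸ I)]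

theorem flat_liftIdeal : Module.Flat (DualNumber A) (DualNumber R ⧸ liftIdeal I φ) := by
  set J := liftIdeal I φ
  set E := epsIdeal A
  have hann : ∀ m : DualNumber R ⧸ J, (DualNumber.eps : DualNumber A) • m = 0 →
      ∃ m', m = (DualNumber.eps : DualNumber A) • m' := by
    intro m hm
    obtain ⟨x, rfl⟩ := Ideal.Quotient.mk_surjective m
    rw [eps_smul_mk, Ideal.Quotient.eq_zero_iff_mem] at hm
    obtain ⟨h, he⟩ := (mem_liftIdeal φ).1 hm
    have hx : x.fst ∈ I := by
      have e0 : (⟨_, h⟩ : I) = 0 := Subtype.ext (by simp)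
      rw [e0, map_zero, Ideal.Quotient.eq_zero_iff_mem] at he
      simpa using he
    obtain ⟨b, -, hb⟩ := exists_lift_mem φ x.fst hx
    refine ⟨Ideal.Quotient.mk J (inl (x.snd - b)), ?_⟩
    rw [eps_smul_mk, Ideal.Quotient.eq]
    convert hb using 1
    ext <;> simp
  -- reduction modulo `ε`
  let q : DualNumber A ⧸ E →+* A :=
    Ideal.Quotient.lift E (fstHom A A A).toRingHom fun a ha => ha
  have hq : Function.Bijective q := by
    refine ⟨(injective_iff_map_eq_zero _).2 fun y hy => ?_, fun a => ⟨Ideal.Quotient.mk E (inl a), by simp [q]⟩⟩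
    obtain ⟨y, rfl⟩ := Ideal.Quotient.mk_surjective y
    exact Ideal.Quotient.eq_zero_iff_mem.2 (mem_epsIdeal.2 (by simpa [q] using hy))
  letI : Algebra (DualNumber A ⧸ E) A := q.toAlgebra
  haveI : Module.Flat (DualNumber A ⧸ E) A :=
    Module.Flat.of_linearEquiv (LinearEquiv.ofBijective (Algebra.linearMap (DualNumber A ⧸ E) A) hq).symm
  letI : Module (DualNumber A ⧸ E) (R ⧸ I) := Module.compHom _ q
  haveI : IsScalarTower (DualNumber A ⧸ E) A (R ⧸ I) :=
    IsScalarTower.of_algebraMap_smul fun s y => rfl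
  haveI : Module.Flat (DualNumber A ⧸ E) (R ⧸ I) := Module.Flat.trans (DualNumber A ⧸ E) A (R ⧸ I)
  letI : Module (DualNumber A) (R ⧸ I) := Module.compHom _ (fstHom A A A).toRingHom
  haveI : IsScalarTower (DualNumber A) (DualNumber A ⧸ E) (R ⧸ I) :=
    IsScalarTower.of_algebraMap_smul (R := DualNumber A) (A := DualNumber A ⧸ E) (M := R ⧸ I) fun s y => by
      show q (Ideal.Quotient.mk E s) • y = (fstHom A A A s) • y
      simp [q]
  let g : (DualNumber R ⧸ J) →ₗ[DualNumber A] R ⧸ I :=
    { toFun := Ideal.Quotient.lift J ((Ideal.Quotient.mk I).comp (fstHom A R R).toRingHom)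
        (fun x hx => Ideal.Quotient.eq_zero_iff_mem.2 ((mem_liftIdeal φ).1 hx).1)
      map_add' := map_add _
      map_smul' := fun c y => by
        obtain ⟨y, rfl⟩ := Ideal.Quotient.mk_surjective y
        show Ideal.Quotient.mk I ((algebraMap (DualNumber A) (DualNumber R) c * y).fst) =
          c.fst • Ideal.Quotient.mk I y.fst
        rw [fst_mul, fst_algebraMap, map_mul]
        exact (Algebra.smul_def c.fst _).symm }
  let G := g.liftBaseChange (DualNumber A ⧸ E)
  have hG : Function.Bijective G := by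
    have hsurj : ∀ z : (DualNumber A ⧸ E) ⊗[DualNumber A] (DualNumber R ⧸ J), ∃ m, z = 1 ⊗ₜ m :=
      fun z => by
        induction z using TensorProduct.induction_on with
        | zero => exact ⟨0, (tmul_zero _ _).symm⟩
        | tmul c m =>
          obtain ⟨c, rfl⟩ := Ideal.Quotient.mk_surjective c
          refine ⟨c • m, ?_⟩
          exact (congrArg (· ⊗ₜ[DualNumber A] m) (Algebra.algebraMap_eq_smul_one (A := DualNumber A ⧸ E) c)).trans
            (smul_tmul c 1 m)
        | add a b ha hb =>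
          obtain ⟨m, rfl⟩ := ha
          obtain ⟨m', rfl⟩ := hb
          exact ⟨m + m', (tmul_add _ _ _).symm⟩
    refine ⟨(injective_iff_map_eq_zero _).2 fun z hz => ?_, fun y => ?_⟩
    · obtain ⟨m, rfl⟩ := hsurj z
      rw [LinearMap.liftBaseChange_tmul] at hz
      replace hz : g m = 0 := (one_smul (DualNumber A ⧸ E) (g m)).symm.trans hz
      obtain ⟨x, rfl⟩ := Ideal.Quotient.mk_surjective m
      have hx : x.fst ∈ I := Ideal.Quotient.eq_zero_iff_mem.1 hz
      obtain ⟨b, -, hb⟩ := exists_lift_mem φ x.fst hx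
      have he : Ideal.Quotient.mk J x = (DualNumber.eps : DualNumber A) • Ideal.Quotient.mk J (inl (x.snd - b)) := by
        rw [eps_smul_mk, Ideal.Quotient.eq]
        convert hb using 1
        ext <;> simp
      rw [he]
      refine ((smul_tmul (R := DualNumber A) (DualNumber.eps : DualNumber A) (1 : DualNumber A ⧸ E)
        (Ideal.Quotient.mk J (inl (x.snd - b)))).symm).trans ?_
      rw [show (DualNumber.eps : DualNumber A) • (1 : DualNumber A ⧸ E) = 0 from
        (Algebra.algebraMap_eq_smul_one (A := DualNumber A ⧸ E) (DualNumber.eps : DualNumber A)).symm.trans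
          (Ideal.Quotient.eq_zero_iff_mem.2 (mem_epsIdeal.2 DualNumber.fst_eps)), zero_tmul]
    · obtain ⟨y, rfl⟩ := Ideal.Quotient.mk_surjective y
      refine ⟨1 ⊗ₜ Ideal.Quotient.mk J (inl y), ?_⟩
      rw [LinearMap.liftBaseChange_tmul]
      refine (one_smul (DualNumber A ⧸ E) _).trans ?_
      show Ideal.Quotient.mk I (inl y : DualNumber R).fst = _
      rw [fst_inl]
  haveI : Module.Flat (DualNumber A ⧸ E) ((DualNumber A ⧸ E) ⊗[DualNumber A] (DualNumber R ⧸ J)) :=
    Module.Flat.of_linearEquiv (LinearEquiv.ofBijective G hG)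
  refine EGA43Flat.flat_of_flat_quotient_of_rTensor_injective (I := E)
    ⟨2, ?_⟩ ?_
  · rw [pow_two, Ideal.zero_eq_bot, eq_bot_iff, Ideal.mul_le]
    exact fun a ha b hb => Ideal.mem_bot.2 (epsIdeal_sq a b ha hb)
  · rw [injective_iff_map_eq_zero]
    let e : E := ⟨DualNumber.eps, mem_epsIdeal.2 DualNumber.fst_eps⟩
    have hgen : ∀ z : E ⊗[DualNumber A] (DualNumber R ⧸ J), ∃ m, z = e ⊗ₜ m := fun z => by
      induction z using TensorProduct.induction_on with
      | zero => exact ⟨0, (tmul_zero _ _).symm⟩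
      | tmul c m =>
        refine ⟨(inl c.1.snd : DualNumber A) • m, ?_⟩
        refine (congrArg (· ⊗ₜ[DualNumber A] m) ?_).trans (smul_tmul (inl c.1.snd : DualNumber A) e m)
        exact Subtype.ext (eq_mul_eps c.2)
      | add a b ha hb =>
        obtain ⟨m, rfl⟩ := ha
        obtain ⟨m', rfl⟩ := hb
        exact ⟨m + m', (tmul_add _ _ _).symm⟩
    intro z hz
    obtain ⟨m, rfl⟩ := hgen z
    have hm : (DualNumber.eps : DualNumber A) • m = 0 := by
      have := congrArg (TensorProduct.lid (DualNumber A) _) hz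
      simpa [e] using this
    obtain ⟨m', rfl⟩ := hann m hm
    refine (smul_tmul (DualNumber.eps : DualNumber A) e m').symm.trans ?_
    rw [show (DualNumber.eps : DualNumber A) • e = 0 from Subtype.ext DualNumber.eps_mul_eps, zero_tmul]

omit [Module.Flat A (R ⧸ I)] in
theorem exists_eq_liftIdeal (J : Ideal (DualNumber R)) (hflat : Module.Flat (DualNumber A) (DualNumber R ⧸ J))
    (hJ : Ideal.map (fstHom A R R) J = I) : ∃ φ : I →ₗ[R] R ⧸ I, J = liftIdeal I φ := by
  have hfst : ∀ x ∈ J, x.fst ∈ I := fun x hx => hJ ▸ Ideal.mem_map_of_mem (fstHom A R R) hx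
  have hex : ∀ a ∈ I, ∃ x ∈ J, x.fst = a := fun a ha =>
    (Ideal.mem_map_iff_of_surjective _ fun y => ⟨inl y, fst_inl R y⟩).1 (hJ.symm ▸ ha)
  have htor : ∀ b : R, (inr b : DualNumber R) ∈ J → b ∈ I := by
    intro b hb
    set E := epsIdeal A
    let e : E := ⟨DualNumber.eps, mem_epsIdeal.2 DualNumber.fst_eps⟩
    let θ : E →ₗ[DualNumber A] (DualNumber R ⧸ J) →ₗ[DualNumber A]
        (DualNumber R ⧸ J) ⧸ LinearMap.range (LinearMap.lsmul (DualNumber A) (DualNumber R ⧸ J) DualNumber.eps) :=
      { toFun := fun c => (inl c.1.snd : DualNumber A) • Submodule.mkQ _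
        map_add' := fun c d => by rw [← add_smul, ← inl_add]; rfl
        map_smul' := fun r c => by
          refine LinearMap.ext fun m => ?_
          simp only [SetLike.val_smul, smul_eq_mul, LinearMap.smul_apply, RingHom.id_apply, smul_smul]
          rw [← sub_eq_zero, ← sub_smul,
            show (inl (r * c.1).snd - r * inl c.1.snd : DualNumber A) = -(inl (r.snd * c.1.snd) * DualNumber.eps) by
              ext <;> simp [mem_epsIdeal.1 c.2],
            neg_smul, neg_eq_zero, mul_smul, ← map_smul (Submodule.mkQ _),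
            show Submodule.mkQ _ ((DualNumber.eps : DualNumber A) • m) = 0 from
              (Submodule.Quotient.mk_eq_zero _).2 (LinearMap.mem_range.2 ⟨m, rfl⟩), smul_zero] }
    have h0 : e ⊗ₜ[DualNumber A] Ideal.Quotient.mk J (inl b) = 0 := by
      apply Module.Flat.rTensor_preserves_injective_linearMap (M := DualNumber R ⧸ J) E.subtype
        Subtype.val_injective
      apply (TensorProduct.lid (DualNumber A) _).injective
      rw [LinearMap.rTensor_tmul, map_zero, map_zero, TensorProduct.lid_tmul]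
      show (DualNumber.eps : DualNumber A) • Ideal.Quotient.mk J (inl b) = 0
      rw [eps_smul_mk, Ideal.Quotient.eq_zero_iff_mem]
      convert hb using 1
      ext <;> simp
    have h1 := congrArg (TensorProduct.lift θ) h0
    rw [TensorProduct.lift.tmul, map_zero] at h1
    simp only [θ, e, LinearMap.coe_mk, AddHom.coe_mk, DualNumber.snd_eps, inl_one, one_smul,
      Submodule.mkQ_apply, Submodule.Quotient.mk_eq_zero, LinearMap.mem_range] at h1
    obtain ⟨m, hm⟩ := h1
    obtain ⟨m, rfl⟩ := Ideal.Quotient.mk_surjective m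
    rw [LinearMap.lsmul_apply, eps_smul_mk, Ideal.Quotient.eq] at hm
    simpa using hfst _ hm
  choose x hxJ hxa using fun a : I => hex a.1 a.2
  have hdiff : ∀ y ∈ J, ∀ y' ∈ J, y.fst = y'.fst → Ideal.Quotient.mk I y.snd = Ideal.Quotient.mk I y'.snd :=
    fun y hy y' hy' h => Ideal.Quotient.eq.2 (htor _ (by
      convert J.sub_mem hy hy' using 1
      ext <;> simp [h]))
  let φ : I →ₗ[R] R ⧸ I :=
    { toFun := fun a => Ideal.Quotient.mk I (x a).snd
      map_add' := fun a b => by
        rw [← map_add, ← snd_add]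
        exact hdiff _ (hxJ _) _ (J.add_mem (hxJ a) (hxJ b)) (by rw [fst_add, hxa, hxa, hxa]; rfl)
      map_smul' := fun r a => by
        rw [RingHom.id_apply, hdiff _ (hxJ (r • a)) _ (J.mul_mem_left (inl r) (hxJ a))
          (by rw [fst_mul, fst_inl, hxa, hxa]; rfl)]
        simp [Algebra.smul_def] }
  refine ⟨φ, le_antisymm (fun y hy => ?_) fun y hy => ?_⟩
  · exact (mem_liftIdeal φ).2 ⟨hfst y hy, hdiff _ hy _ (hxJ _) (hxa ⟨y.fst, hfst y hy⟩).symm⟩
  · obtain ⟨h, hy⟩ := (mem_liftIdeal φ).1 hy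
    have hd : y.snd - (x ⟨y.fst, h⟩).snd ∈ I := Ideal.Quotient.eq.1 hy
    obtain ⟨z, hz, hz'⟩ := hex _ hd
    have : y = x ⟨y.fst, h⟩ + DualNumber.eps * z := by
      ext
      · simp [hxa]
      · simp [hz']
    rw [this]
    exact J.add_mem (hxJ _) (J.mul_mem_left _ hz)

end Groth.HilbPn.FirstOrder
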