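import Groth.Agent.HilbPn.Cocycle

/-! Dimension counts for monomial ideals of any colength. -/

set_option autoImplicit false

universe u

open MvPolynomial W4c1hilbpn

namespace Groth.HilbPn

attribute [local instance] Classical.propDecidable

variable {k : Type u} [Field k] {n : ℕ} {I : Ideal (MvPolynomial (Fin n) k)}

/-- The dimension of a sum of graded pieces with finitely many good components. -/
theorem finrank_iSup_of_finite (hI : IsMonomial I) (P : (Fin n → ℤ) → Prop)
    [Finite {q : Cells I // P q.1}] :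
    Module.finrank k ↥(⨆ α : {α // P α}, tPiece I α.1) = Nat.card {q : Cells I // P q.1} := by
  haveI := Fintype.ofFinite {q : Cells I // P q.1}
  set A := (Finset.univ : Finset {q : Cells I // P q.1}).image fun q => q.1.1 with hA
  have hzero : ∀ φ ∈ (⨆ α : {α // P α}, tPiece I α.1), ∀ q : Cells I, ¬ P q.1 → coord hI φ q = 0 := by
    intro φ h q hq
    refine Submodule.iSup_induction (motive := fun ψ => coord hI ψ q = 0) _ h
      (fun α ψ hψ => coord_eq_zero_of_mem hI hψ q fun hh => hq (by rw [hh]; exact α.2)) (by simp) ?_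
    intro a b ha hb
    simp only [map_add, Pi.add_apply, ha, hb, add_zero]
  let r : ↥(⨆ α : {α // P α}, tPiece I α.1) →ₗ[k] ({q : Cells I // P q.1} → k) :=
    (LinearMap.funLeft k k Subtype.val).comp ((coord hI).comp (Submodule.subtype _))
  have hr : Function.Bijective r := by
    constructor
    · intro x y hxy
      refine Subtype.ext (coord_injective hI (funext fun q => ?_))
      by_cases hq : P q.1
      · exact congrFun hxy ⟨q, hq⟩
      · rw [hzero _ x.2 q hq, hzero _ y.2 q hq]
    · intro g
      refine ⟨⟨∑ α ∈ A, ofGood hI α fun C => if h : P α then g ⟨⟨α, C⟩, h⟩ else 0, ?_⟩, funext fun q => ?_⟩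
      · refine Submodule.sum_mem _ fun α hα => ?_
        obtain ⟨q, -, rfl⟩ := Finset.mem_image.1 hα
        exact Submodule.mem_iSup_of_mem (⟨q.1.1, q.2⟩ : {α // P α}) (ofGood_mem hI q.1.1 _)
      · show coord hI (∑ α ∈ A, ofGood hI α fun C => if h : P α then g ⟨⟨α, C⟩, h⟩ else 0) q.1 = g q
        rw [map_sum, Finset.sum_apply, Finset.sum_eq_single q.1.1]
        · rw [coord_ofGood, dif_pos rfl, dif_pos q.2]
        · intro α _ hα
          rw [coord_ofGood, dif_neg (Ne.symm hα)]
        · intro h
          exact absurd (Finset.mem_image.2 ⟨q, Finset.mem_univ q, rfl⟩) h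
  rw [(LinearEquiv.ofBijective r hr).finrank_eq, Module.finrank_fintype_fun_eq_card, Nat.card_eq_fintype_card]

/-- Every good component contains a point over a minimal exponent of the ideal. -/
theorem exists_gen_point (q : Cells I) :
    ∃ (γ : Fin n → ℤ) (h : γ ∈ region I q.1), (regGraph I q.1).Reachable ⟨γ, h⟩ (rep q) ∧ InI I (γ - q.1) ∧
      ∀ i, ¬ InI I (γ - q.1 - ev i) := by
  let S : Set ℕ := {m | ∃ (γ : Fin n → ℤ) (h : γ ∈ region I q.1),
    (regGraph I q.1).Reachable ⟨γ, h⟩ (rep q) ∧ deg γ = m}
  have hS : S.Nonempty := ⟨_, _, (rep q).2, SimpleGraph.Reachable.refl _, rfl⟩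
  obtain ⟨γ, hγ, hr, hm⟩ := Nat.sInf_mem hS
  obtain ⟨hin, hnot⟩ := mem_region.1 hγ
  refine ⟨γ, hγ, hr, hin, fun i hi => ?_⟩
  have hmem : γ - ev i ∈ region I q.1 := mem_region.2 ⟨by rwa [sub_right_comm], fun h => hnot (h.mono fun l => by
    have := ev_nonneg i l; simp only [Pi.sub_apply]; omega)⟩
  have hr' : (regGraph I q.1).Reachable ⟨γ - ev i, hmem⟩ (rep q) := by
    refine (SimpleGraph.Adj.reachable ?_).trans hr
    rw [SimpleGraph.induce_adj]
    have := step_adj (γ - ev i) i
    rwa [sub_add_cancel] at this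
  have hle := Nat.sInf_le (show deg (γ - ev i) ∈ S from ⟨_, hmem, hr', rfl⟩)
  have hd : deg γ = deg (γ - ev i) + 1 := by
    conv_lhs => rw [← sub_add_cancel γ (ev i)]
    exact deg_add_ev (good_of_reachable q hr') i
  omega

/-- A good component stays good along any path. -/
theorem reachable_good (q : Cells I) {x y : region I q.1} (hx : (regGraph I q.1).Reachable x (rep q))
    (h : (regGraph I q.1).Reachable y x) : ∀ i, 0 ≤ y.1 i :=
  good_of_reachable q (h.trans hx)

/-- A unit step inside a region. -/
theorem reachable_step {α a b : Fin n → ℤ} (ha : a ∈ region I α) (hb : b ∈ region I α) (i : Fin n)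
    (h : b = a + ev i) : (regGraph I α).Reachable ⟨a, ha⟩ ⟨b, hb⟩ := by
  subst h
  exact SimpleGraph.Adj.reachable (step_adj a i)

/-- A property invariant under steps is constant on components. -/
theorem inv_of_step {α : Fin n → ℤ} (p : (Fin n → ℤ) → Prop)
    (hstep : ∀ (a : Fin n → ℤ) (i : Fin n), a ∈ region I α → a + ev i ∈ region I α → (p (a + ev i) ↔ p a))
    {a b : region I α} (h : (regGraph I α).Reachable a b) : p a.1 ↔ p b.1 := by
  obtain ⟨w⟩ := h
  induction w with
  | nil => rfl
  | @cons x y z hxy _ ih =>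
    refine Iff.trans ?_ ih
    obtain ⟨i, h | h⟩ := adj_cases hxy
    · rw [show y.1 = x.1 + ev i from h]
      exact (hstep _ i x.2 ((congrArg (· ∈ region I α) (show y.1 = _ from h)).mp y.2)).symm
    · rw [show x.1 = y.1 + ev i from h]
      exact hstep _ i y.2 ((congrArg (· ∈ region I α) (show x.1 = _ from h)).mp x.2)

end Groth.HilbPn
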