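import Mathlib

/-! For an algebra generated by two elements, `dim Hom(L, N) ≤ dim N + dim Hom(N, A/L)`, hence a bound
`dim Hom(L, A/L') ≤ dim A/L' + dim A/L`. -/

set_option autoImplicit false
set_option linter.style.haveILetI false

universe u

namespace Groth.HilbPn.HomBound

variable {k : Type u} [Field k]

section Linear

variable {M N : Type u} [AddCommGroup M] [Module k M] [FiniteDimensional k M]
  [AddCommGroup N] [Module k N] [FiniteDimensional k N]

/-- The second differential of the Koszul complex of two pairs of endomorphisms. -/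
noncomputable def dd1 (Y Z : M →ₗ[k] M) (Y' Z' : N →ₗ[k] N) :
    ((M →ₗ[k] N) × (M →ₗ[k] N)) →ₗ[k] (M →ₗ[k] N) :=
  (LinearMap.llcomp k M N N Z' - LinearMap.lcomp k N Z).coprod
    (LinearMap.lcomp k N Y - LinearMap.llcomp k M N N Y')

omit [FiniteDimensional k M] [FiniteDimensional k N] in
theorem dd1_apply (Y Z : M →ₗ[k] M) (Y' Z' : N →ₗ[k] N) (D : (M →ₗ[k] N) × (M →ₗ[k] N)) :
    dd1 Y Z Y' Z' D = (Z'.comp D.1 - D.1.comp Z) + (D.2.comp Y - Y'.comp D.2) := rfl

/-- The trace pairing. -/
noncomputable def traceDual : (N →ₗ[k] M) →ₗ[k] Module.Dual k (M →ₗ[k] N) :=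
  LinearMap.mk₂ k (fun ψ p => LinearMap.trace k M (ψ.comp p))
    (fun a b p => by simp [LinearMap.add_comp]) (fun c a p => by simp [LinearMap.smul_comp])
    (fun a p p' => by simp [LinearMap.comp_add]) (fun c a p => by simp [LinearMap.comp_smul])

theorem traceDual_bijective : Function.Bijective (traceDual (k := k) (M := M) (N := N)) := by
  have hinj : Function.Injective (traceDual (k := k) (M := M) (N := N)) := by
    rw [injective_iff_map_eq_zero]
    intro ψ hψ
    refine LinearMap.ext fun n => (Module.forall_dual_apply_eq_zero_iff k (ψ n)).1 fun l => ?_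
    have h : LinearMap.trace k M (ψ.comp (l.smulRight n)) = 0 := LinearMap.congr_fun hψ (l.smulRight n)
    rwa [show ψ.comp (l.smulRight n) = l.smulRight (ψ n) from LinearMap.ext fun x => by simp,
      LinearMap.trace_smulRight] at h
  refine ⟨hinj, (LinearMap.injective_iff_surjective_of_finrank_eq_finrank ?_).1 hinj⟩
  rw [Subspace.dual_finrank_eq, Module.finrank_linearMap, Module.finrank_linearMap, mul_comm]

theorem finrank_ker_dd1_le (Y Z : M →ₗ[k] M) (Y' Z' : N →ₗ[k] N) (H : Submodule k (N →ₗ[k] M))
    (hH : ∀ ψ, ψ.comp Y' = Y.comp ψ → ψ.comp Z' = Z.comp ψ → ψ ∈ H) :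
    Module.finrank k (LinearMap.ker (dd1 Y Z Y' Z')) ≤
      Module.finrank k (M →ₗ[k] N) + Module.finrank k H := by
  set d := dd1 Y Z Y' Z'
  have h1 := d.finrank_range_add_finrank_ker
  have h2 := Subspace.finrank_add_finrank_dualAnnihilator_eq (LinearMap.range d)
  have h3 : Module.finrank k (LinearMap.range d).dualAnnihilator ≤ Module.finrank k H := by
    let e := LinearEquiv.ofBijective _ (traceDual_bijective (k := k) (M := M) (N := N))
    have hle : ((LinearMap.range d).dualAnnihilator).map (e.symm : Module.Dual k (M →ₗ[k] N) →ₗ[k] _) ≤ H := by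
      rintro _ ⟨l, hl, rfl⟩
      have hψ : traceDual (e.symm l) = l := e.apply_symm_apply l
      have key : ∀ D, LinearMap.trace k M ((e.symm l).comp (d D)) = 0 := fun D => by
        have := (Submodule.mem_dualAnnihilator l).1 hl (d D) (LinearMap.mem_range_self d D)
        rw [← hψ] at this
        exact this
      set ψ := e.symm l
      refine hH ψ ?_ ?_
      · refine sub_eq_zero.1 ((injective_iff_map_eq_zero _).1
          (traceDual_bijective (k := k) (M := M) (N := N)).1 _ (LinearMap.ext fun p => ?_))
        show LinearMap.trace k M ((ψ.comp Y' - Y.comp ψ).comp p) = 0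
        have := key (0, -p)
        rw [dd1_apply] at this
        simp only [LinearMap.comp_zero, LinearMap.zero_comp, sub_zero, zero_add, LinearMap.neg_comp,
          LinearMap.comp_neg, sub_neg_eq_add, LinearMap.comp_add, map_add, map_neg] at this
        rw [LinearMap.sub_comp, map_sub, LinearMap.comp_assoc, LinearMap.comp_assoc,
          LinearMap.trace_comp_comm' (ψ.comp p) Y, LinearMap.comp_assoc, sub_eq_add_neg, add_comm]
        exact this
      · refine sub_eq_zero.1 ((injective_iff_map_eq_zero _).1
          (traceDual_bijective (k := k) (M := M) (N := N)).1 _ (LinearMap.ext fun p => ?_))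
        show LinearMap.trace k M ((ψ.comp Z' - Z.comp ψ).comp p) = 0
        have := key (p, 0)
        rw [dd1_apply] at this
        simp only [LinearMap.comp_zero, LinearMap.zero_comp, sub_zero, add_zero, LinearMap.comp_sub,
          map_sub] at this
        rw [LinearMap.sub_comp, map_sub, LinearMap.comp_assoc, LinearMap.comp_assoc,
          LinearMap.trace_comp_comm' (ψ.comp p) Z, LinearMap.comp_assoc]
        exact this
    refine le_trans (le_of_eq ?_) (Submodule.finrank_mono hle)
    exact (e.symm.submoduleMap (LinearMap.range d).dualAnnihilator).finrank_eq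
  rw [Module.finrank_prod] at h1
  omega

end Linear

variable {A : Type u} [CommRing A] [Algebra k A]

theorem finite_hom {L N : Type u} [AddCommGroup L] [Module A L] [Module.Finite A L] [AddCommGroup N]
    [Module A N] [Module k N] [IsScalarTower k A N] [Module.Finite k N] :
    Module.Finite k (L →ₗ[A] N) := by
  obtain ⟨n, f, hf⟩ := Module.Finite.exists_fin' A L
  exact Module.Finite.of_injective
    ({ toFun := fun φ i => φ (f (Pi.single i 1))
       map_add' := fun _ _ => rfl
       map_smul' := fun _ _ => rfl } : (L →ₗ[A] N) →ₗ[k] (Fin n → N))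
    fun a b h => by
      refine LinearMap.ext fun x => ?_
      obtain ⟨v, rfl⟩ := hf x
      rw [← LinearMap.comp_apply a, ← LinearMap.comp_apply b,
        show a.comp f = b.comp f from (Pi.basisFun A (Fin n)).ext fun i => by
          simpa using congrFun h i]

theorem finrank_hom_le_of_generators {y z : A} (hgen : Algebra.adjoin k ({y, z} : Set A) = ⊤) (L : Ideal A)
    [Module.Finite k (A ⧸ L)] [Module.Finite A L] (N : Type u) [AddCommGroup N] [Module A N] [Module k N]
    [IsScalarTower k A N] [Module.Finite k N] :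
    Module.finrank k (↥L →ₗ[A] N) ≤ Module.finrank k N + Module.finrank k (N →ₗ[A] (A ⧸ L)) := by
  haveI : Module.Finite k (↥L →ₗ[A] N) := finite_hom
  obtain ⟨s, hs⟩ := (Submodule.mkQ L |>.restrictScalars k).exists_rightInverse_of_surjective
    (LinearMap.range_eq_top.2 (Submodule.mkQ_surjective L))
  have hs' : ∀ m, Submodule.Quotient.mk (s m) = m := fun m => LinearMap.congr_fun hs m
  let P := (A ⧸ L) →ₗ[k] N
  let mL : ∀ a : A, (A ⧸ L) →ₗ[k] A ⧸ L := fun a => Algebra.lsmul k k (A ⧸ L) a
  let mN : ∀ a : A, N →ₗ[k] N := fun a => Algebra.lsmul k k N a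
  -- the defect of `s` to commute with multiplication by `a`
  let δ : ∀ a : A, (A ⧸ L) →ₗ[k] L := fun a =>
    (LinearMap.mulLeft k a ∘ₗ s - s ∘ₗ mL a).codRestrict (L.restrictScalars k) fun m => by
      show a * s m - s (a • m) ∈ L
      rw [← Submodule.Quotient.eq, hs']
      exact (Submodule.Quotient.mk_smul L a (s m)).trans (by rw [hs'])
  have hδ : ∀ a m, (δ a m : A) = a * s m - s (a • m) := fun a m => rfl
  let Θ : ∀ a : A, (↥L →ₗ[A] N) →ₗ[k] P := fun a =>
    { toFun := fun φ => φ.restrictScalars k ∘ₗ δ a
      map_add' := fun _ _ => rfl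
      map_smul' := fun _ _ => rfl }
  let Γ : (↥L →ₗ[A] N) × P →ₗ[k] P × P :=
    ((Θ y).coprod (LinearMap.llcomp k (A ⧸ L) N N (mN y) - LinearMap.lcomp k N (mL y))).prod
      ((Θ z).coprod (LinearMap.llcomp k (A ⧸ L) N N (mN z) - LinearMap.lcomp k N (mL z)))
  have hrange : LinearMap.range Γ ≤ LinearMap.ker (dd1 (mL y) (mL z) (mN y) (mN z)) := by
    rintro _ ⟨⟨φ, p⟩, rfl⟩
    rw [LinearMap.mem_ker, dd1_apply]
    refine LinearMap.ext fun m => ?_
    show (z • (φ (δ y m) + (y • p m - p (y • m))) - (φ (δ y (z • m)) + (y • p (z • m) - p (y • (z • m))))) +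
      ((φ (δ z (y • m)) + (z • p (y • m) - p (z • (y • m)))) - y • (φ (δ z m) + (z • p m - p (z • m)))) = 0
    have key : z • δ y m - δ y (z • m) + (δ z (y • m) - y • δ z m) = 0 := by
      refine Subtype.ext ?_
      simp only [Submodule.coe_add, Submodule.coe_sub, Submodule.coe_smul, hδ, smul_eq_mul,
        ZeroMemClass.coe_zero, smul_smul, mul_comm z y]
      ring
    have h := congrArg φ key
    simp only [map_add, map_sub, map_smul, map_zero] at h
    rw [smul_comm z y m]
    simp only [smul_add, smul_sub, smul_comm z y (p m)]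
    rw [← h]
    abel
  -- an element of the kernel comes from a linear map on `A`
  let res : A →ₗ[k] L :=
    (LinearMap.id - s ∘ₗ (Submodule.mkQ L).restrictScalars k).codRestrict (L.restrictScalars k) fun a => by
      show a - s (Submodule.Quotient.mk a) ∈ L
      rw [← Submodule.Quotient.eq, hs']
  let ext' : (↥L →ₗ[A] N) × P →ₗ[k] (A →ₗ[k] N) :=
    { toFun := fun w => w.1.restrictScalars k ∘ₗ res - w.2 ∘ₗ (Submodule.mkQ L).restrictScalars k
      map_add' := fun a b => LinearMap.ext fun x => by
        show (a.1 (res x) + b.1 (res x)) - (a.2 (Submodule.Quotient.mk x) + b.2 (Submodule.Quotient.mk x)) =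
          (a.1 (res x) - a.2 (Submodule.Quotient.mk x)) + (b.1 (res x) - b.2 (Submodule.Quotient.mk x))
        abel
      map_smul' := fun c a => LinearMap.ext fun x => by
        show c • a.1 (res x) - c • a.2 (Submodule.Quotient.mk x) = c • (a.1 (res x) - a.2 (Submodule.Quotient.mk x))
        rw [smul_sub] }
  have hlin : ∀ w, Γ w = 0 → ∀ (b a : A), ext' w (b * a) = b • ext' w a := by
    intro w hw b
    obtain ⟨φ, p⟩ := w
    have hb : b ∈ Algebra.adjoin k ({y, z} : Set A) := by rw [hgen]; trivial
    induction hb using Algebra.adjoin_induction with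
    | mem g hg =>
      intro a
      have hg0 : ∀ m, φ (δ g m) + (g • p m - p (g • m)) = 0 := by
        intro m
        rcases hg with rfl | rfl
        · exact LinearMap.congr_fun (congrArg Prod.fst hw) m
        · exact LinearMap.congr_fun (congrArg Prod.snd hw) m
      set m : A ⧸ L := Submodule.Quotient.mk a
      have hgm : (Submodule.Quotient.mk (g * a) : A ⧸ L) = g • m := rfl
      show φ ⟨g * a - s (Submodule.Quotient.mk (g * a)), _⟩ - p (Submodule.Quotient.mk (g * a)) =
        g • (φ ⟨a - s m, _⟩ - p m)
      rw [smul_sub, ← map_smul]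
      have e : (⟨g * a - s (Submodule.Quotient.mk (g * a)), by rw [← Submodule.Quotient.eq, hs']⟩ : L) =
          g • (⟨a - s m, by rw [← Submodule.Quotient.eq, hs']⟩ : L) + δ g m := by
        refine Subtype.ext ?_
        simp only [Submodule.coe_add, Submodule.coe_smul, hδ, smul_eq_mul, hgm]
        ring
      rw [e, map_add, hgm]
      have := hg0 m
      rw [← sub_eq_zero, ← this]
      abel
    | algebraMap r =>
      intro a
      rw [← Algebra.smul_def, map_smul, algebraMap_smul]
    | add b c _ _ hb hc => intro a; rw [add_mul, map_add, hb, hc, add_smul]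
    | mul b c _ _ hb hc => intro a; rw [mul_assoc, hb, hc, smul_smul]
  have hker : Module.finrank k (LinearMap.ker Γ) ≤ Module.finrank k N := by
    refine LinearMap.finrank_le_finrank_of_injective
      (f := (LinearMap.applyₗ (1 : A)).comp (ext' ∘ₗ (LinearMap.ker Γ).subtype)) ?_
    rw [injective_iff_map_eq_zero]
    rintro ⟨⟨φ, p⟩, hw⟩ (h : ext' (φ, p) 1 = 0)
    have hall : ∀ a, ext' (φ, p) a = 0 := fun a => by
      rw [← mul_one a, hlin _ (LinearMap.mem_ker.1 hw), h, smul_zero]
    have hp : p = 0 := by
      refine LinearMap.ext fun m => ?_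
      have h0 : φ (res (s m)) - p (Submodule.Quotient.mk (s m)) = 0 := hall (s m)
      rw [show res (s m) = 0 from Subtype.ext (show s m - s (Submodule.Quotient.mk (s m)) = 0 by rw [hs', sub_self]),
        map_zero, hs', zero_sub, neg_eq_zero] at h0
      exact h0
    subst hp
    refine Subtype.ext (Prod.ext (LinearMap.ext fun l => ?_) rfl)
    have h0 : φ (res (l : A)) - (0 : P) (Submodule.Quotient.mk (l : A)) = 0 := hall l.1
    rw [LinearMap.zero_apply, sub_zero, show res (l : A) = l from Subtype.ext
      (show (l : A) - s (Submodule.Quotient.mk (l : A)) = l by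
        rw [(Submodule.Quotient.mk_eq_zero L).2 l.2, map_zero, sub_zero])] at h0
    exact h0
  let H : Submodule k (N →ₗ[k] A ⧸ L) :=
    LinearMap.range (LinearMap.restrictScalarsₗ k A N (A ⧸ L) k)
  have h1 := Γ.finrank_range_add_finrank_ker
  have h2 := Submodule.finrank_mono hrange
  have h3 := finrank_ker_dd1_le (mL y) (mL z) (mN y) (mN z) H (fun ψ hy hz => by
    have hcomm : ∀ b : A, ∀ n, ψ (b • n) = b • ψ n := by
      intro b
      have hb : b ∈ Algebra.adjoin k ({y, z} : Set A) := by rw [hgen]; trivial
      induction hb using Algebra.adjoin_induction with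
      | mem g hg =>
        rcases hg with rfl | rfl
        · exact fun n => LinearMap.congr_fun hy n
        · exact fun n => LinearMap.congr_fun hz n
      | algebraMap r => intro n; rw [algebraMap_smul, algebraMap_smul, map_smul]
      | add b c _ _ hb hc => intro n; rw [add_smul, map_add, hb, hc, add_smul]
      | mul b c _ _ hb hc => intro n; rw [mul_smul, hb, hc, mul_smul]
    exact ⟨{ toFun := ψ, map_add' := map_add ψ, map_smul' := hcomm }, rfl⟩)
  haveI : Module.Finite k (N →ₗ[A] A ⧸ L) :=
    Module.Finite.of_injective (LinearMap.restrictScalarsₗ k A N (A ⧸ L) k) (LinearMap.restrictScalars_injective k)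
  have h4 : Module.finrank k H ≤ Module.finrank k (N →ₗ[A] A ⧸ L) := LinearMap.finrank_range_le _
  rw [Module.finrank_prod] at h1
  have h2' : Module.finrank k (LinearMap.range Γ) ≤ Module.finrank k P + Module.finrank k H := h2.trans h3
  omega

theorem finrank_hom_quot_le {y z : A} (hgen : Algebra.adjoin k ({y, z} : Set A) = ⊤) (L L' : Ideal A)
    [Module.Finite k (A ⧸ L)] [Module.Finite k (A ⧸ L')] [Module.Finite A L] :
    Module.finrank k (↥L →ₗ[A] A ⧸ L') ≤ Module.finrank k (A ⧸ L') + Module.finrank k (A ⧸ L) := by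
  refine (finrank_hom_le_of_generators hgen L (A ⧸ L')).trans (Nat.add_le_add_left ?_ _)
  refine LinearMap.finrank_le_finrank_of_injective (f :=
    ({ toFun := fun φ => φ (Submodule.Quotient.mk 1), map_add' := fun _ _ => rfl, map_smul' := fun _ _ => rfl } :
      ((A ⧸ L') →ₗ[A] A ⧸ L) →ₗ[k] A ⧸ L)) fun a b h => ?_
  refine Submodule.linearMap_qext _ (LinearMap.ext_ring ?_)
  exact h

end Groth.HilbPn.HomBound
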