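import Groth.Agent.Misc13.CIGorenstein
import Groth.Agent.Calg6.CMSop
import Groth.Agent.Matlis.Duality
import Groth.Agent.Ega4Algebra1.GlobalDim
import Mathlib.RingTheory.Ideal.Colon

/-! The length of `Hom(I, R/J)` over a regular local ring of dimension two. -/

set_option autoImplicit false
set_option linter.style.haveILetI false

universe u

open IsLocalRing

namespace Groth.HilbPn.HomColon

variable {R : Type u} [CommRing R]

/-- If `f * x = g * y` for a regular pair `f, g`, then `x` and `y` are multiples of a common element. -/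
theorem exists_of_mul_eq {f g : R} (hreg : RingTheory.Sequence.IsWeaklyRegular R [f, g]) {x y : R}
    (h : f * x = g * y) : ∃ z, x = g * z ∧ y = f * z := by
  obtain ⟨h1, h2⟩ := (Groth.Misc13.CIGor.weaklyRegular_pair_iff f g).1 hreg
  obtain ⟨z, hz⟩ := Ideal.mem_span_singleton.1
    (h2 y (by rw [← h]; exact Ideal.mul_mem_right _ _ (Ideal.mem_span_singleton_self f)))
  refine ⟨z, h1 ?_, hz⟩
  show f * x = f * (g * z)
  rw [h, hz]; ring

theorem pi_exists_of_mul_eq {f g : R} (hreg : RingTheory.Sequence.IsWeaklyRegular R [f, g]) {ι : Type*}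
    {x y : ι → R} (h : f • x = g • y) : ∃ z : ι → R, x = g • z ∧ y = f • z := by
  choose z hz using fun i => exists_of_mul_eq hreg (congrFun h i)
  exact ⟨z, funext fun i => (hz i).1, funext fun i => (hz i).2⟩

/-! ### Regular local rings of dimension two -/

variable [IsRegularLocalRing R]

theorem spanFinrank_eq_two (hdim : ringKrullDim R = 2) : (maximalIdeal R).spanFinrank = 2 := by
  have := IsRegularLocalRing.spanFinrank_maximalIdeal (R := R)
  rw [hdim] at this
  exact_mod_cast this

omit [IsRegularLocalRing R] in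
theorem isArtinianRing_quotient {I : Ideal R} (hI : Module.length R (R ⧸ I) < ⊤) :
    IsArtinianRing (R ⧸ I) := by
  have h := (isFiniteLength_iff_isNoetherian_isArtinian.1 (Module.length_ne_top_iff.1 hI.ne)).2
  exact isArtinian_of_tower R h

theorem ne_bot_of_length (hdim : ringKrullDim R = 2) {I : Ideal R} (hI : Module.length R (R ⧸ I) < ⊤) :
    I ≠ ⊥ := by
  rintro rfl
  haveI := isArtinianRing_quotient hI
  have : IsArtinianRing R := (RingEquiv.quotientBot R).surjective.isArtinianRing
  have h0 : ringKrullDim R = 0 := ringKrullDimZero_iff_ringKrullDim_eq_zero.1 inferInstance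
  rw [hdim] at h0
  norm_num at h0

theorem exists_pow_le {I : Ideal R} (hI : Module.length R (R ⧸ I) < ⊤) :
    ∃ n : ℕ, maximalIdeal R ^ n ≤ I := by
  haveI := isArtinianRing_quotient hI
  rcases eq_or_ne I ⊤ with rfl | hne
  · exact ⟨0, le_top⟩
  haveI := Groth.Ega4Algebra1.isLocalRing_quotient_of_le I (IsLocalRing.le_maximalIdeal hne)
  obtain ⟨n, hn⟩ := IsArtinianRing.isNilpotent_jacobson_bot (R := R ⧸ I)
  rw [IsLocalRing.jacobson_eq_maximalIdeal ⊥ bot_ne_top] at hn
  refine ⟨n, ?_⟩
  have hmap : (maximalIdeal R).map (Ideal.Quotient.mk I) ≤ maximalIdeal (R ⧸ I) := by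
    refine Ideal.map_le_iff_le_comap.2 fun x hx => ?_
    rw [Ideal.mem_comap, mem_maximalIdeal, mem_nonunits_iff]
    intro hu
    haveI : IsLocalHom (Ideal.Quotient.mk I) :=
      IsLocalHom.of_surjective _ Ideal.Quotient.mk_surjective
    exact hx (hu.of_map _ _)
  rw [← Ideal.mk_ker (I := I), ← Ideal.map_eq_bot_iff_le_ker, Ideal.map_pow, eq_bot_iff]
  exact (Ideal.pow_right_mono hmap n).trans (le_of_eq hn)

/-- A regular pair inside `I ⊓ J` cutting out an Artinian ring. -/
theorem exists_pair (hdim : ringKrullDim R = 2) {I J : Ideal R} (hI : Module.length R (R ⧸ I) < ⊤)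
    (hJ : Module.length R (R ⧸ J) < ⊤) :
    ∃ f g : R, Ideal.span {f, g} ≤ I ⊓ J ∧ f ∈ maximalIdeal R ∧ g ∈ maximalIdeal R ∧
      RingTheory.Sequence.IsWeaklyRegular R [f, g] ∧ IsArtinianRing (R ⧸ Ideal.span {f, g}) := by
  classical
  obtain ⟨p, hp⟩ := exists_pow_le hI
  obtain ⟨q, hq⟩ := exists_pow_le hJ
  set N := p + q + 1
  obtain ⟨s, hs, hspan⟩ := (IsNoetherian.noetherian (maximalIdeal R)).exists_span_finset_card_eq_spanFinrank
  rw [spanFinrank_eq_two hdim, Finset.card_eq_two] at hs
  obtain ⟨x, y, -, rfl⟩ := hs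
  rw [Finset.coe_pair] at hspan
  have hx : x ∈ maximalIdeal R := hspan ▸ Submodule.subset_span (Or.inl rfl)
  have hy : y ∈ maximalIdeal R := hspan ▸ Submodule.subset_span (Or.inr rfl)
  have hxy : (Ideal.span {x ^ N, y ^ N} : Ideal R) ≤ maximalIdeal R ^ N := by
    rw [Ideal.span_le]
    rintro z (rfl | rfl)
    · exact Ideal.pow_mem_pow hx N
    · exact Ideal.pow_mem_pow hy N
  have hpow : maximalIdeal R ^ (N + N) ≤ (Ideal.span {x ^ N, y ^ N} : Ideal R) := by
    have : maximalIdeal R = Ideal.span {x} ⊔ Ideal.span {y} := by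
      rw [← Ideal.span_union, Set.singleton_union]; exact hspan.symm
    rw [this]
    refine Ideal.sup_pow_add_le_pow_sup_pow.trans (le_of_eq ?_)
    rw [Ideal.span_singleton_pow, Ideal.span_singleton_pow, ← Ideal.span_union, Set.singleton_union]
  have hfm : Ideal.span {x ^ N, y ^ N} ≤ maximalIdeal R :=
    hxy.trans (Ideal.pow_le_self (by omega))
  haveI := Groth.Ega4Algebra1.isLocalRing_quotient_of_le _ hfm
  have hart : IsArtinianRing (R ⧸ Ideal.span {x ^ N, y ^ N}) := by
    haveI : Ring.KrullDimLE 0 (R ⧸ Ideal.span {x ^ N, y ^ N}) := Ring.krullDimLE_zero_iff.2 fun P hP => by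
      have h1 : maximalIdeal R ≤ P.comap (Ideal.Quotient.mk _) :=
        (Ideal.IsPrime.comap (Ideal.Quotient.mk _) (hK := hP)).le_of_pow_le (hpow.trans fun z hz => by
          rw [Ideal.mem_comap, Ideal.Quotient.eq_zero_iff_mem.2 hz]; exact P.zero_mem)
      have h2 : maximalIdeal (R ⧸ Ideal.span {x ^ N, y ^ N}) ≤ P := by
        intro z hz
        obtain ⟨z, rfl⟩ := Ideal.Quotient.mk_surjective z
        refine h1 ?_
        rw [mem_maximalIdeal, mem_nonunits_iff] at hz ⊢
        exact fun hu => hz (hu.map _)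
      exact le_antisymm (IsLocalRing.le_maximalIdeal hP.ne_top) h2 ▸ maximalIdeal.isMaximal _
    exact isArtinianRing_iff_isNoetherianRing_krullDimLE_zero.2 ⟨inferInstance, inferInstance⟩
  refine ⟨x ^ N, y ^ N, le_inf ((hxy.trans (Ideal.pow_le_pow_right (by omega))).trans hp)
    ((hxy.trans (Ideal.pow_le_pow_right (by omega))).trans hq), hfm (Ideal.subset_span (Or.inl rfl)),
    hfm (Ideal.subset_span (Or.inr rfl)), ?_, hart⟩
  refine Groth.Calg6.isWeaklyRegular_of_supportDim_add_length_le _ R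
    (Groth.Calg6.isCohenMacaulayModule_of_isRegularLocalRing R) ?_ ?_
  · intro z hz
    simp only [List.mem_cons, List.not_mem_nil, or_false] at hz
    rcases hz with rfl | rfl
    · exact hfm (Ideal.subset_span (Or.inl rfl))
    · exact hfm (Ideal.subset_span (Or.inr rfl))
  · have e : (Ideal.ofList [x ^ N, y ^ N] • ⊤ : Submodule R R) = Ideal.span {x ^ N, y ^ N} := by
      rw [Ideal.smul_eq_mul, Ideal.mul_top, Ideal.ofList_cons, Ideal.ofList_cons, Ideal.ofList_nil,
        sup_bot_eq, ← Ideal.span_union, Set.singleton_union]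
    rw [Module.supportDim_self_eq_ringKrullDim,
      Module.supportDim_eq_of_equiv (Submodule.quotEquivOfEq _ _ e),
      Module.supportDim_quotient_eq_ringKrullDim, hdim,
      show ringKrullDim (R ⧸ Ideal.span {x ^ N, y ^ N}) = 0 from
        ringKrullDimZero_iff_ringKrullDim_eq_zero.1 inferInstance]
    simp

/-- The quotient by a regular pair, when Artinian, is an injective hull of its residue field. -/
theorem exists_hull {f g : R} (hf : f ∈ maximalIdeal R) (hg : g ∈ maximalIdeal R)
    (hreg : RingTheory.Sequence.IsWeaklyRegular R [f, g])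
    [IsLocalRing (R ⧸ (Ideal.span {f, g} : Ideal R))] [IsArtinianRing (R ⧸ (Ideal.span {f, g} : Ideal R))] :
    ∃ ι : ResidueField (R ⧸ (Ideal.span {f, g} : Ideal R)) →ₗ[R ⧸ (Ideal.span {f, g} : Ideal R)]
      (R ⧸ (Ideal.span {f, g} : Ideal R)), InjHull.IsInjectiveHull ι := by
  set A := R ⧸ (Ideal.span {f, g} : Ideal R)
  obtain ⟨n, hn⟩ := Groth.Misc13.CIGor.exists_injLT_quotient_pair hf hg hreg
  obtain ⟨m, hm⟩ := IsArtinianRing.isNilpotent_jacobson_bot (R := A)
  rw [IsLocalRing.jacobson_eq_maximalIdeal ⊥ bot_ne_top] at hm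
  have hinj : Module.Injective A A := GrothGoren.injective_self_of_injLT (fun x hx hxr => by
    have h0 : x ^ m = 0 := by
      have := Ideal.pow_mem_pow hx m
      rwa [hm] at this
    exact one_ne_zero (α := A) ((hxr.pow m) (by simp [h0]))) n
    (GrothGoren.injLT_mono (Nat.le_succ n) hn)
  have hind : InjHull.IsIndecomposable A A := by
    refine ⟨inferInstance, fun P Q hPQ => ?_⟩
    by_contra h
    push Not at h
    have hP : P ≠ ⊤ := fun hP => h.2 (by simpa [hP] using hPQ.inf_eq_bot)
    have hQ : Q ≠ ⊤ := fun hQ => h.1 (by simpa [hQ] using hPQ.inf_eq_bot)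
    exact (maximalIdeal.isMaximal A).ne_top (top_le_iff.1 (hPQ.sup_eq_top ▸
      sup_le (IsLocalRing.le_maximalIdeal hP) (IsLocalRing.le_maximalIdeal hQ)))
  obtain ⟨p, hp, ι, hι⟩ := GrothMatlis.exists_prime_hull hind hinj
  haveI : p.IsMaximal := IsArtinianRing.isMaximal_of_isPrime p
  obtain rfl : p = maximalIdeal A := IsLocalRing.eq_maximalIdeal inferInstance
  exact ⟨ι, hι⟩

/-- An `m`-primary ideal has a resolution `0 → R^c → R^(c+1) → I → 0`. -/
theorem exists_resolution (hdim : ringKrullDim R = 2) {I : Ideal R} (hI : I ≠ ⊥) :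
    ∃ (b c : ℕ) (ε : (Fin b → R) →ₗ[R] I) (φ : (Fin c → R) →ₗ[R] (Fin b → R)),
      Function.Surjective ε ∧ Function.Injective φ ∧ LinearMap.range φ = LinearMap.ker ε ∧ b = c + 1 := by
  haveI := Groth.Ega4Algebra1.isDomain_of_isRegularLocalRing R
  obtain ⟨b, ε, hε⟩ := Groth.Ega4Algebra1.exists_surjective_fin R I
  have h3 : Groth.Ega4Algebra1.PdLT R (R ⧸ I) 3 :=
    Groth.Ega4Algebra1.pdLT_of_isRegularLocalRing R 2 (spanFinrank_eq_two hdim) (R ⧸ I)
  have h2 : Groth.Ega4Algebra1.PdLT R I 2 :=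
    Groth.Ega4Algebra1.PdLT.of_equiv (LinearEquiv.ofEq _ _ (Submodule.ker_mkQ I))
      ((Groth.Ega4Algebra1.PdLT.ker_iff (Submodule.mkQ I) (Submodule.mkQ_surjective I) 1).1 h3)
  haveI : Module.Projective R (LinearMap.ker ε) := Groth.Ega4Algebra1.PdLT.one_iff.1
    ((Groth.Ega4Algebra1.PdLT.ker_iff ε hε 0).1 h2)
  haveI : Module.Free R (LinearMap.ker ε) := Module.free_of_flat_of_isLocalRing
  let B := Module.finBasis R (LinearMap.ker ε)
  refine ⟨b, _, ε, (LinearMap.ker ε).subtype ∘ₗ B.equivFun.symm.toLinearMap, hε, ?_, ?_, ?_⟩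
  · exact (Submodule.injective_subtype _).comp B.equivFun.symm.injective
  · rw [LinearMap.range_comp_of_range_eq_top _ (LinearEquiv.range _), Submodule.range_subtype]
  · haveI : Nontrivial I := Submodule.nontrivial_iff_ne_bot.2 hI
    have h1 : Module.finrank R I = 1 :=
      le_antisymm ((Submodule.finrank_le _).trans (le_of_eq (Module.finrank_self R)))
        Module.finrank_pos
    have := Submodule.finrank_quotient_add_finrank (LinearMap.ker ε)
    rw [(ε.quotKerEquivOfSurjective hε).finrank_eq, h1, Module.finrank_fin_fun] at this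
    omega

/-! ### The exact sequence for `Hom(I, N)` and the duality -/

section Hom

omit [IsRegularLocalRing R]

/-- The length of `Hom(I, N)` through a resolution `0 → R^c → R^b → I → 0`. -/
theorem length_hom_add {I : Ideal R} {b c : ℕ} {ε : (Fin b → R) →ₗ[R] I}
    {φ : (Fin c → R) →ₗ[R] (Fin b → R)} (hε : Function.Surjective ε)
    (hex : LinearMap.range φ = LinearMap.ker ε) (N : Type u) [AddCommGroup N] [Module R N] :
    Module.length R (↥I →ₗ[R] N) + (c : ℕ∞) * Module.length R N =
      (b : ℕ∞) * Module.length R N +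
        Module.length R (((Fin c → R) →ₗ[R] N) ⧸ LinearMap.range (LinearMap.lcomp R N φ)) := by
  set T := LinearMap.range (LinearMap.lcomp R N φ)
  have hlen : ∀ d : ℕ, Module.length R ((Fin d → R) →ₗ[R] N) = (d : ℕ∞) * Module.length R N := fun d => by
    rw [← ((Pi.basisFun R (Fin d)).constr R).length_eq, Module.length_pi_of_fintype, Finset.sum_const,
      Finset.card_univ, Fintype.card_fin, nsmul_eq_mul]
  have h1 : Module.length R ((Fin c → R) →ₗ[R] N) =
      Module.length R T + Module.length R (((Fin c → R) →ₗ[R] N) ⧸ T) :=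
    Module.length_eq_add_of_exact T.subtype T.mkQ T.injective_subtype T.mkQ_surjective
      (LinearMap.exact_subtype_mkQ T)
  have h2 : Module.length R ((Fin b → R) →ₗ[R] N) = Module.length R (↥I →ₗ[R] N) + Module.length R T := by
    refine Module.length_eq_add_of_exact (LinearMap.lcomp R N ε) (LinearMap.lcomp R N φ).rangeRestrict
      (fun u v huv => LinearMap.ext fun x => ?_) (LinearMap.surjective_rangeRestrict _) ?_
    · obtain ⟨w, rfl⟩ := hε x
      exact LinearMap.congr_fun huv w
    · refine fun ψ => ⟨fun hψ => ?_, ?_⟩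
      · have h0 : LinearMap.ker ε ≤ LinearMap.ker ψ := by
          rw [← hex]
          rintro _ ⟨w, rfl⟩
          exact LinearMap.congr_fun (congrArg Subtype.val hψ) w
        refine ⟨(LinearMap.ker ε).liftQ ψ h0 ∘ₗ (ε.quotKerEquivOfSurjective hε).symm.toLinearMap,
          LinearMap.ext fun w => ?_⟩
        show (LinearMap.ker ε).liftQ ψ h0 ((ε.quotKerEquivOfSurjective hε).symm (ε w)) = ψ w
        rw [show (ε.quotKerEquivOfSurjective hε).symm (ε w) = Submodule.Quotient.mk w from
          (LinearEquiv.symm_apply_eq _).2 rfl, Submodule.liftQ_apply]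
      · rintro ⟨η, rfl⟩
        refine Subtype.ext (LinearMap.ext fun w => ?_)
        have : ε (φ w) = 0 := LinearMap.mem_ker.1 (hex ▸ LinearMap.mem_range_self φ w)
        show η (ε (φ w)) = 0
        rw [this, map_zero]
  rw [← hlen c, ← hlen b, h1, h2, add_assoc]

variable (Fd : Ideal R)

/-- Reduction of a vector. -/
noncomputable abbrev red (d : ℕ) : (Fin d → R) →ₗ[R] (Fin d → R ⧸ Fd) :=
  LinearMap.compLeft (Ideal.Quotient.mkₐ R Fd).toLinearMap (Fin d)

theorem red_surjective (d : ℕ) : Function.Surjective (red Fd d) :=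
  (Ideal.Quotient.mk_surjective (I := Fd)).comp_left

theorem red_eq_zero_iff {d : ℕ} {v : Fin d → R} : red Fd d v = 0 ↔ ∀ i, v i ∈ Fd := by
  simp [funext_iff, Ideal.Quotient.eq_zero_iff_mem]

/-- The submodule of `(R/F)^c` by which the cokernel of the dual map into `(R/J)^c` is cut out. -/
noncomputable def cutSub (J : Ideal R) {b c : ℕ} (P : Matrix (Fin b) (Fin c) R) :
    Submodule (R ⧸ Fd) (Fin c → R ⧸ Fd) :=
  LinearMap.range (P.map (Ideal.Quotient.mk Fd)).transpose.mulVecLin ⊔
    Submodule.pi Set.univ fun _ => J.map (Ideal.Quotient.mk Fd)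

theorem red_mulVec {b c : ℕ} (M : Matrix (Fin b) (Fin c) R) (w : Fin c → R) :
    (M.map (Ideal.Quotient.mk Fd)).mulVec (red Fd c w) = red Fd b (M.mulVec w) := by
  funext i
  exact (RingHom.map_mulVec (Ideal.Quotient.mk Fd) M w i).symm

/-- The cokernel of the dual map, as a quotient of `(R/F)^c`. -/
theorem exists_coker_equiv {J : Ideal R} (hFJ : Fd ≤ J) {b c : ℕ} (P : Matrix (Fin b) (Fin c) R) :
    Nonempty ((((Fin c → R) →ₗ[R] (R ⧸ J)) ⧸ LinearMap.range (LinearMap.lcomp R (R ⧸ J) P.mulVecLin)) ≃ₗ[R]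
      ((Fin c → R ⧸ Fd) ⧸ cutSub Fd J P)) := by
  classical
  set T := LinearMap.range (LinearMap.lcomp R (R ⧸ J) P.mulVecLin)
  let pj : ∀ d : ℕ, (Fin d → R) →ₗ[R] ((Fin d → R) →ₗ[R] (R ⧸ J)) := fun d =>
    ((Pi.basisFun R (Fin d)).constr R).toLinearMap ∘ₗ LinearMap.compLeft (Submodule.mkQ J) (Fin d)
  have hpj : ∀ d, Function.Surjective (pj d) := fun d =>
    ((Pi.basisFun R (Fin d)).constr R).surjective.comp (Submodule.mkQ_surjective J).comp_left
  have hev : ∀ d (v : Fin d → R) (j : Fin d), pj d v (Pi.single j 1) = Submodule.Quotient.mk (v j) :=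
    fun d v j => by
      rw [← Pi.basisFun_apply]
      exact (Pi.basisFun R (Fin d)).constr_basis R _ j
  have hcomp : ∀ w : Fin b → R, (pj b w).comp P.mulVecLin = pj c (P.transpose.mulVec w) := fun w => by
    refine (Pi.basisFun R (Fin c)).ext fun j => ?_
    rw [Pi.basisFun_apply, hev, LinearMap.comp_apply, Matrix.mulVecLin_apply, Matrix.mulVec_single_one,
      pi_eq_sum_univ' (P.col j), map_sum]
    simp only [map_smul, hev, Matrix.mulVec, dotProduct, Matrix.transpose_apply, Matrix.col_apply,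
      ← Submodule.Quotient.mk_smul, smul_eq_mul]
    exact (map_sum (Submodule.mkQ J) _ _).symm
  let ρ : (Fin c → R) →ₗ[R] ((Fin c → R ⧸ Fd) ⧸ cutSub Fd J P) :=
    ((cutSub Fd J P).mkQ.restrictScalars R) ∘ₗ red Fd c
  have hρ : Function.Surjective ρ := (Submodule.mkQ_surjective _).comp (red_surjective Fd c)
  have hcm : ∀ x : R, Ideal.Quotient.mk Fd x ∈ J.map (Ideal.Quotient.mk Fd) ↔ x ∈ J := fun x => by
    rw [← Ideal.mem_comap, Ideal.comap_map_of_surjective _ Ideal.Quotient.mk_surjective,
      ← RingHom.ker_eq_comap_bot, Ideal.mk_ker, sup_eq_left.2 hFJ]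
  have hker : LinearMap.ker (T.mkQ ∘ₗ pj c) = LinearMap.ker ρ := by
    ext v
    rw [LinearMap.mem_ker, LinearMap.mem_ker, LinearMap.comp_apply, Submodule.mkQ_apply,
      Submodule.Quotient.mk_eq_zero]
    show _ ↔ Submodule.Quotient.mk (red Fd c v) = 0
    rw [Submodule.Quotient.mk_eq_zero]
    constructor
    · rintro ⟨ψ, hψ⟩
      obtain ⟨w, rfl⟩ := hpj b ψ
      rw [LinearMap.lcomp_apply', hcomp] at hψ
      refine Submodule.mem_sup.2 ⟨_, ⟨red Fd b w, rfl⟩, red Fd c v - red Fd c (P.transpose.mulVec w),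
        fun j _ => ?_, ?_⟩
      · have h := congrArg (fun l => l (Pi.single j 1)) hψ
        simp only [hev] at h
        rw [Submodule.Quotient.eq] at h
        show Ideal.Quotient.mk Fd (v j) - Ideal.Quotient.mk Fd (P.transpose.mulVec w j) ∈ _
        rw [← map_sub]
        exact (hcm _).2 (by simpa using J.neg_mem h)
      · rw [Matrix.mulVecLin_apply, ← Matrix.transpose_map, red_mulVec]
        abel
    · intro h
      obtain ⟨_, ⟨w', rfl⟩, z, hz, hzv⟩ := Submodule.mem_sup.1 h
      obtain ⟨w, rfl⟩ := red_surjective Fd b w'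
      rw [Matrix.mulVecLin_apply, ← Matrix.transpose_map, red_mulVec] at hzv
      refine ⟨pj b w, ?_⟩
      rw [LinearMap.lcomp_apply', hcomp]
      refine (Pi.basisFun R (Fin c)).ext fun j => ?_
      rw [Pi.basisFun_apply, hev, hev, Submodule.Quotient.eq]
      have hz' := hz j (Set.mem_univ j)
      rw [show z j = Ideal.Quotient.mk Fd (v j) - Ideal.Quotient.mk Fd (P.transpose.mulVec w j) from
        eq_sub_of_add_eq' (congrFun hzv j), ← map_sub] at hz'
      simpa using J.neg_mem ((hcm _).1 hz')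
  exact ⟨((T.mkQ ∘ₗ pj c).quotKerEquivOfSurjective ((Submodule.mkQ_surjective T).comp (hpj c))).symm.trans
    ((Submodule.quotEquivOfEq _ _ hker).trans (ρ.quotKerEquivOfSurjective hρ))⟩

/-- The dual of the cokernel is `(I : J) / I`. -/
theorem length_dual_cutSub {f g : R} (hreg : RingTheory.Sequence.IsWeaklyRegular R [f, g]) {I J : Ideal R}
    (hfI : f ∈ I) (hgI : g ∈ I)
    {b c : ℕ} {ε : (Fin b → R) →ₗ[R] I} (hε : Function.Surjective ε) (P : Matrix (Fin b) (Fin c) R)
    (hinj : Function.Injective P.mulVecLin) (hex : LinearMap.range P.mulVecLin = LinearMap.ker ε) :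
    Module.length R (((Fin c → R ⧸ Ideal.span {f, g}) ⧸ cutSub (Ideal.span {f, g}) J P)
        →ₗ[R ⧸ Ideal.span {f, g}] (R ⧸ Ideal.span {f, g})) + Module.length R (R ⧸ I.colon J) =
      Module.length R (R ⧸ I) := by
  classical
  set Fd : Ideal R := Ideal.span {f, g}
  set U := cutSub Fd J P
  obtain ⟨a, ha⟩ := hε ⟨g, hgI⟩
  obtain ⟨a', ha'⟩ := hε ⟨-f, I.neg_mem hfI⟩
  have hεa : (ε a : R) = g := by rw [ha]
  have hεa' : (ε a' : R) = -f := by rw [ha']
  obtain ⟨v1, hv1⟩ : ∃ v1, P.mulVecLin v1 = f • a + g • a' := by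
    rw [← LinearMap.mem_range, hex, LinearMap.mem_ker]
    refine Subtype.ext ?_
    simp only [map_add, map_smul, Submodule.coe_add, Submodule.coe_smul, smul_eq_mul, hεa, hεa',
      ZeroMemClass.coe_zero]
    ring
  -- membership in `(f, g) R^d`
  have hmem : ∀ {d : ℕ} {v : Fin d → R}, (∀ i, v i ∈ Fd) → ∃ u w : Fin d → R, v = f • u + g • w := by
    intro d v hv
    choose u w huw using fun i => Ideal.mem_span_pair.1 (hv i)
    exact ⟨u, w, funext fun i => by simp [← huw i, mul_comm]⟩
  have hmem' : ∀ {d : ℕ} (u w : Fin d → R) (i : Fin d), (f • u + g • w) i ∈ Fd := fun u w i =>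
    Ideal.mem_span_pair.2 ⟨u i, w i, by simp [mul_comm]⟩
  have key : ∀ t : R, (∀ i, t * v1 i ∈ Fd) ↔ t ∈ I := by
    intro t
    constructor
    · intro h
      obtain ⟨u, w, huw⟩ := hmem (v := t • v1) h
      have h1 : f • (t • a - P.mulVecLin u) = g • (P.mulVecLin w - t • a') := by
        have h' := congrArg P.mulVecLin huw
        rw [map_smul, hv1, map_add, map_smul, map_smul] at h'
        rw [smul_sub, smul_sub, sub_eq_sub_iff_add_eq_add, smul_comm f t a, smul_comm g t a', ← smul_add,
          h']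
        exact add_comm _ _
      obtain ⟨z, hz, -⟩ := pi_exists_of_mul_eq hreg h1
      have h2 := congrArg (fun x => (ε x : R)) hz
      have hu : ε (P.mulVecLin u) = 0 := LinearMap.mem_ker.1 (hex ▸ LinearMap.mem_range_self _ u)
      simp only [map_sub, map_smul, hu, sub_zero, Submodule.coe_smul, smul_eq_mul, hεa] at h2
      obtain ⟨r, hr1, -⟩ := exists_of_mul_eq hreg (x := 0) (y := t - (ε z : R))
        (by rw [mul_zero, mul_sub, ← h2, mul_comm, sub_self])
      obtain ⟨-, hreg2⟩ := (Groth.Misc13.CIGor.weaklyRegular_pair_iff f g).1 hreg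
      have hgt : g * t = g * (ε z : R) := by rw [mul_comm, h2]
      have hdiv := hreg2 (t - (ε z : R)) (by rw [mul_sub, hgt, sub_self]; exact zero_mem _)
      obtain ⟨r, hr⟩ := Ideal.mem_span_singleton.1 hdiv
      rw [sub_eq_iff_eq_add] at hr
      rw [hr]
      exact I.add_mem (I.mul_mem_right r hfI) (ε z).2
    · intro ht
      obtain ⟨z, hz⟩ := hε ⟨t, ht⟩
      have hεz : (ε z : R) = t := by rw [hz]
      obtain ⟨u, hu⟩ : ∃ u, P.mulVecLin u = t • a - g • z := by
        rw [← LinearMap.mem_range, hex, LinearMap.mem_ker]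
        refine Subtype.ext ?_
        simp only [map_sub, map_smul, Submodule.coe_sub, Submodule.coe_smul, smul_eq_mul, hεa, hεz,
          ZeroMemClass.coe_zero]
        ring
      obtain ⟨w, hw⟩ : ∃ w, P.mulVecLin w = t • a' + f • z := by
        rw [← LinearMap.mem_range, hex, LinearMap.mem_ker]
        refine Subtype.ext ?_
        simp only [map_add, map_smul, Submodule.coe_add, Submodule.coe_smul, smul_eq_mul, hεa', hεz,
          ZeroMemClass.coe_zero]
        ring
      have he : t • v1 = f • u + g • w := hinj (by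
        rw [map_smul, hv1, map_add, map_smul, map_smul, hu, hw]
        simp only [smul_add, smul_sub, smul_comm f g z, smul_comm t f a, smul_comm t g a']
        abel)
      intro i
      rw [show t * v1 i = (t • v1) i from rfl, he]
      exact hmem' u w i
  -- elements of `(R/F)^c` killed by `P`
  have lift : ∀ v : Fin c → R, (∀ i, P.mulVecLin v i ∈ Fd) →
      ∃ t : R, ∀ i, v i - t * v1 i ∈ Fd := by
    intro v hv
    obtain ⟨p, q, hpq⟩ := hmem hv
    have h0 : ε (P.mulVecLin v) = 0 := LinearMap.mem_ker.1 (hex ▸ LinearMap.mem_range_self _ v)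
    have h1 : f * (ε p : R) = g * (-(ε q : R)) := by
      rw [hpq, map_add, map_smul, map_smul] at h0
      have := congrArg Subtype.val h0
      simp only [Submodule.coe_add, Submodule.coe_smul, smul_eq_mul, ZeroMemClass.coe_zero] at this
      rw [mul_neg]; exact eq_neg_of_add_eq_zero_left this
    obtain ⟨t, ht1, ht2⟩ := exists_of_mul_eq hreg h1
    obtain ⟨u, hu⟩ : ∃ u, P.mulVecLin u = p - t • a := by
      rw [← LinearMap.mem_range, hex, LinearMap.mem_ker]
      refine Subtype.ext ?_
      simp only [map_sub, map_smul, Submodule.coe_sub, Submodule.coe_smul, smul_eq_mul, hεa, ht1,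
        ZeroMemClass.coe_zero]
      ring
    obtain ⟨w, hw⟩ : ∃ w, P.mulVecLin w = q - t • a' := by
      rw [← LinearMap.mem_range, hex, LinearMap.mem_ker]
      refine Subtype.ext ?_
      have : (ε q : R) = -(f * t) := by rw [← ht2, neg_neg]
      simp only [map_sub, map_smul, Submodule.coe_sub, Submodule.coe_smul, smul_eq_mul, hεa', this,
        ZeroMemClass.coe_zero]
      ring
    refine ⟨t, fun i => ?_⟩
    have he : v - t • v1 = f • u + g • w := hinj (by
      rw [map_sub, map_smul, hpq, hv1, map_add, map_smul, map_smul, hu, hw]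
      simp only [smul_add, smul_sub, smul_comm t f a, smul_comm t g a']
      abel)
    rw [show v i - t * v1 i = (v - t • v1) i from rfl, he]
    exact hmem' u w i
  -- the functional attached to `t`
  have hvanish : ∀ t ∈ I.colon J, ∀ x ∈ U, dotProduct (red Fd c (t • v1)) x = 0 := by
    intro t ht x hx
    obtain ⟨_, ⟨w, rfl⟩, z, hz, rfl⟩ := Submodule.mem_sup.1 hx
    rw [dotProduct_add]
    have h1 : dotProduct (red Fd c (t • v1)) (((P.map (Ideal.Quotient.mk Fd)).transpose).mulVecLin w) = 0 := by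
      rw [Matrix.mulVecLin_apply, Matrix.mulVec_transpose, ← dotProduct_comm, ← Matrix.dotProduct_mulVec,
        red_mulVec]
      have : red Fd b (P.mulVec (t • v1)) = 0 := by
        rw [red_eq_zero_iff, ← Matrix.mulVecLin_apply, map_smul, hv1]
        exact fun i => Ideal.mul_mem_left _ t (hmem' a a' i)
      rw [this, dotProduct_zero]
    rw [h1, zero_add, dotProduct]
    refine Finset.sum_eq_zero fun i _ => ?_
    obtain ⟨j, hj, hji⟩ := (Ideal.mem_map_iff_of_surjective _ Ideal.Quotient.mk_surjective).1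
      (hz i (Set.mem_univ i))
    rw [← hji]
    show Ideal.Quotient.mk Fd (t * v1 i) * Ideal.Quotient.mk Fd j = 0
    rw [← map_mul, Ideal.Quotient.eq_zero_iff_mem, mul_right_comm]
    exact (key _).2 (by simpa using Submodule.mem_colon.1 ht j hj) i
  let θ : ↥(I.colon J) →ₗ[R] (((Fin c → R ⧸ Fd) ⧸ U) →ₗ[R ⧸ Fd] (R ⧸ Fd)) :=
    { toFun := fun t => U.liftQ (dotProductBilin (R ⧸ Fd) (R ⧸ Fd) (red Fd c (t.1 • v1)))
        (fun x hx => LinearMap.mem_ker.2 (hvanish t.1 t.2 x hx))
      map_add' := fun s t => Submodule.linearMap_qext _ (LinearMap.ext fun x => by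
        simp [add_smul, map_add])
      map_smul' := fun r t => Submodule.linearMap_qext _ (LinearMap.ext fun x => by
        simp only [SetLike.val_smul, smul_assoc, map_smul, RingHom.id_apply, LinearMap.comp_apply,
          Submodule.mkQ_apply, Submodule.liftQ_apply, dotProductBilin_apply_apply, LinearMap.smul_apply,
          smul_dotProduct]) }
  have hθs : Function.Surjective θ := by
    intro h
    choose v hv using fun j => Ideal.Quotient.mk_surjective (h (U.mkQ (Pi.single j 1)))
    have hh : ∀ x : Fin c → R ⧸ Fd, h (U.mkQ x) = dotProduct (red Fd c v) x := fun x => by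
      conv_lhs => rw [pi_eq_sum_univ' x]
      simp only [map_sum, map_smul, ← hv, smul_eq_mul, dotProduct]
      exact Finset.sum_congr rfl fun i _ => mul_comm _ _
    have hU : ∀ x ∈ U, dotProduct (red Fd c v) x = 0 := fun x hx => by
      rw [← hh, Submodule.mkQ_apply, (Submodule.Quotient.mk_eq_zero U).2 hx, map_zero]
    obtain ⟨t, ht⟩ := lift v fun i => by
      have h1 := hU _ (Submodule.mem_sup_left ⟨Pi.single i 1, rfl⟩)
      rw [Matrix.mulVecLin_apply, Matrix.mulVec_transpose, ← dotProduct_comm, ← Matrix.dotProduct_mulVec,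
        red_mulVec, single_one_dotProduct] at h1
      exact Ideal.Quotient.eq_zero_iff_mem.1 h1
    have htJ : t ∈ I.colon J := Submodule.mem_colon.2 fun j hj => by
      rw [smul_eq_mul]
      refine (key _).1 fun i => ?_
      have h1 := hU (Pi.single i (Ideal.Quotient.mk Fd j)) (Submodule.mem_sup_right fun l _ => by
        rcases eq_or_ne l i with rfl | hl
        · rw [Pi.single_eq_same]; exact Ideal.mem_map_of_mem _ hj
        · rw [Pi.single_eq_of_ne hl]; exact zero_mem _)
      rw [dotProduct_single] at h1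
      have h2 : v i * j ∈ Fd := Ideal.Quotient.eq_zero_iff_mem.1 (by rw [map_mul]; exact h1)
      have h3 : (v i - t * v1 i) * j ∈ Fd := Ideal.mul_mem_right _ _ (ht i)
      have h4 := Ideal.sub_mem _ h2 h3
      convert h4 using 1
      ring
    refine ⟨⟨t, htJ⟩, Submodule.linearMap_qext _ (LinearMap.ext fun x => ?_)⟩
    show dotProduct (red Fd c (t • v1)) x = h (U.mkQ x)
    rw [hh, show red Fd c (t • v1) = red Fd c v from funext fun i => (Ideal.Quotient.eq.2 (ht i)).symm]
  let ψ : ↥(I.colon J) →ₗ[R] R ⧸ I := I.mkQ ∘ₗ (I.colon J).subtype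
  have hkerθ : LinearMap.ker θ = LinearMap.ker ψ := by
    ext ⟨t, ht⟩
    rw [LinearMap.mem_ker, LinearMap.mem_ker]
    show _ ↔ Submodule.Quotient.mk t = 0
    rw [Submodule.Quotient.mk_eq_zero, ← key]
    constructor
    · intro h i
      have h1 := LinearMap.congr_fun h (Submodule.Quotient.mk (Pi.single i 1))
      change dotProduct (red Fd c (t • v1)) (Pi.single i 1) = 0 at h1
      rw [dotProduct_single, mul_one] at h1
      exact Ideal.Quotient.eq_zero_iff_mem.1 h1
    · intro h
      refine Submodule.linearMap_qext _ (LinearMap.ext fun x => ?_)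
      show dotProduct (red Fd c (t • v1)) x = 0
      rw [(red_eq_zero_iff Fd).2 (show ∀ i, (t • v1) i ∈ Fd from h), zero_dotProduct]
  have hle : I ≤ I.colon J := fun x hx => Submodule.mem_colon.2 fun p _ => I.mul_mem_right p hx
  rw [(θ.quotKerEquivOfSurjective hθs).symm.length_eq, (Submodule.quotEquivOfEq _ _ hkerθ).length_eq,
    ψ.quotKerEquivRange.length_eq]
  refine (Module.length_eq_add_of_exact (LinearMap.range ψ).subtype (Submodule.factor hle)
    (Submodule.injective_subtype _) (Submodule.factor_surjective hle) ?_).symm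
  rw [LinearMap.exact_iff, Submodule.range_subtype]
  ext y
  obtain ⟨y, rfl⟩ := Submodule.Quotient.mk_surjective _ y
  rw [LinearMap.mem_ker]
  show Submodule.Quotient.mk y = 0 ↔ _
  rw [Submodule.Quotient.mk_eq_zero]
  constructor
  · exact fun hy => ⟨⟨y, hy⟩, rfl⟩
  · rintro ⟨⟨z, hz⟩, hzy⟩
    have h1 : z - y ∈ I := (Submodule.Quotient.eq I).1 hzy
    simpa using (I.colon J).sub_mem hz (hle h1)

end Hom

theorem length_hom_quot_add (hdim : ringKrullDim R = 2) (I J : Ideal R)
    (hI : Module.length R (R ⧸ I) < ⊤) (hJ : Module.length R (R ⧸ J) < ⊤) :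
    Module.length R (↥I →ₗ[R] (R ⧸ J)) + Module.length R (R ⧸ I.colon J) =
      Module.length R (R ⧸ J) + Module.length R (R ⧸ I) := by
  classical
  obtain ⟨f, g, hle, hf, hg, hreg, hart⟩ := exists_pair hdim hI hJ
  have hfm : (Ideal.span {f, g} : Ideal R) ≤ maximalIdeal R := by
    rw [Ideal.span_le]
    rintro z (rfl | rfl)
    exacts [hf, hg]
  haveI := Groth.Ega4Algebra1.isLocalRing_quotient_of_le _ hfm
  obtain ⟨ι, hι⟩ := exists_hull hf hg hreg
  obtain ⟨b, c, ε, φ, hε, hφ, hex, rfl⟩ := exists_resolution hdim (ne_bot_of_length hdim hI)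
  obtain ⟨P, rfl⟩ : ∃ P : Matrix (Fin (c + 1)) (Fin c) R, P.mulVecLin = φ :=
    ⟨LinearMap.toMatrix' φ, by rw [← Matrix.toLin'_apply', Matrix.toLin'_toMatrix']⟩
  have h1 := length_hom_add hε hex (R ⧸ J)
  obtain ⟨e⟩ := exists_coker_equiv (Ideal.span {f, g}) (hle.trans inf_le_right) P
  rw [e.length_eq] at h1
  have hsurj : Function.Surjective (algebraMap R (R ⧸ (Ideal.span {f, g} : Ideal R))) :=
    Ideal.Quotient.mk_surjective
  have hd := length_dual_cutSub hreg (J := J) (hle.trans inf_le_left (Ideal.subset_span (Or.inl rfl)))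
    (hle.trans inf_le_left (Ideal.subset_span (Or.inr rfl))) hε P hφ hex
  rw [Module.length_eq_of_surjective hsurj, GrothMatlis.length_dual hι
    (isFiniteLength_iff_isNoetherian_isArtinian.2 ⟨inferInstance, inferInstance⟩),
    ← Module.length_eq_of_surjective hsurj] at hd
  obtain ⟨n, hn⟩ := ENat.ne_top_iff_exists.1 hJ.ne
  rw [← hn] at h1 ⊢
  push_cast at h1
  rw [add_mul, one_mul, add_assoc, add_comm _ ((c : ℕ∞) * (n : ℕ∞))] at h1
  have h2 := (ENat.addLECancellable_of_ne_top (a := (c : ℕ∞) * (n : ℕ∞))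
    (by exact_mod_cast ENat.natCast_ne_top (c * n))).inj.1 h1
  rw [h2, add_assoc, hd]

end Groth.HilbPn.HomColon
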