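import Groth.Agent.HilbPn.General
import Mathlib.RingTheory.MvPolynomial.Ideal

/-! Degree-zero homomorphisms for the ideal of two transverse coordinate linear spaces. -/

set_option autoImplicit false

universe u

open MvPolynomial W4c1hilbpn

namespace Groth.HilbPn

attribute [local instance] Classical.propDecidable

variable {k : Type u} [Field k] {m : ℕ} {I : Ideal (MvPolynomial (Fin m) k)}

theorem inI_prod_iff {A B : Finset (Fin m)}
    (hexp : ∀ β, β ∈ exps I ↔ (∃ i ∈ A, 0 < β i) ∧ ∃ j ∈ B, 0 < β j) (γ : Fin m → ℤ) :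
    InI I γ ↔ (∀ l, 0 ≤ γ l) ∧ (∃ i ∈ A, 0 < γ i) ∧ ∃ j ∈ B, 0 < γ j := by
  rw [InI, hexp]
  simp [toN_apply]

variable (m) in
/-- The degree-zero multidegrees moving one variable of `A` outside `A`. -/
noncomputable def shifts (A : Finset (Fin m)) : Finset (Fin m → ℤ) :=
  (A ×ˢ Aᶜ).image fun p => ev p.2 - ev p.1

theorem shifts_inj {i l i' l' : Fin m} (h : ev l - ev i = ev l' - ev i') (hli : l ≠ i) :
    i = i' ∧ l = l' := by
  have h1 := congrFun h i
  have h2 := congrFun h l
  constructor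
  · by_contra hne
    simp only [Pi.sub_apply, ev_self, ev_of_ne (Ne.symm hli), ev_of_ne hne] at h1
    have := ev_nonneg l' i
    omega
  · by_contra hne
    simp only [Pi.sub_apply, ev_self, ev_of_ne hli, ev_of_ne hne] at h2
    have := ev_nonneg i' l
    omega

theorem sum_ev (c : Fin m) : ∑ z, ev c z = 1 := by
  simp [toZ, Finsupp.single_apply, apply_ite, Finset.sum_ite_eq]

theorem card_shifts (A : Finset (Fin m)) : (shifts m A).card = A.card * (m - A.card) := by
  rw [shifts, Finset.card_image_of_injOn, Finset.card_product, Finset.card_compl, Fintype.card_fin]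
  intro p hp p' hp' h
  simp only [Finset.mem_coe, Finset.mem_product, Finset.mem_compl] at hp hp'
  obtain ⟨h1, h2⟩ := shifts_inj h (fun hh => hp.2 (hh ▸ hp.1))
  exact Prod.ext h1 h2

/-- Points of the region at `e_l - e_i` with no `A`-support are closed under steps. -/
theorem planes_invariant {A B : Finset (Fin m)} (hAB : Disjoint A B)
    (hexp : ∀ β, β ∈ exps I ↔ (∃ i ∈ A, 0 < β i) ∧ ∃ j ∈ B, 0 < β j)
    {i l : Fin m} (hi : i ∈ A) (hl : l ∉ A) (a : Fin m → ℤ) (p : Fin m)
    (ha : a ∈ region I (ev l - ev i)) (hb : a + ev p ∈ region I (ev l - ev i)) :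
    ((∀ x, 0 ≤ (a + ev p) x) ∧ ∀ x ∈ A, (a + ev p) x = 0) ↔ ((∀ x, 0 ≤ a x) ∧ ∀ x ∈ A, a x = 0) := by
  obtain ⟨ha1, ha2⟩ := mem_region.1 ha
  obtain ⟨hb1, hb2⟩ := mem_region.1 hb
  rw [inI_prod_iff hexp] at ha1 ha2 hb1 hb2
  simp only [Pi.sub_apply, Pi.add_apply] at ha1 hb1 hb2 ⊢
  obtain ⟨a0, ⟨x, hxA, hx⟩, ⟨y, hyB, hy⟩⟩ := ha1
  constructor
  · rintro ⟨h0, hA⟩
    by_cases hp : p ∈ A
    · exfalso
      have e1 := hA p hp
      rw [ev_self] at e1
      have hxp := hA x hxA
      have := a0 p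
      by_cases hxp' : x = p
      · subst hxp'
        have hl' := ev_of_ne (show x ≠ l from fun h => hl (h ▸ hxA))
        by_cases hxi : x = i
        · subst hxi; rw [ev_self] at hx this; omega
        · rw [ev_of_ne hxi] at hx this; omega
      · rw [ev_of_ne hxp'] at hxp
        have hlx := ev_of_ne (show x ≠ l from fun h => hl (h ▸ hxA))
        have hlp := ev_of_ne (show p ≠ l from fun h => hl (h ▸ hp))
        by_cases hpi : p = i
        · subst hpi; rw [ev_of_ne hxp'] at hx; omega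
        · rw [ev_of_ne hpi] at this; omega
    · have hAp : ∀ z ∈ A, ev p z = 0 := fun z hz => ev_of_ne fun h => hp (h ▸ hz)
      refine ⟨fun z => ?_, fun z hz => by have := hA z hz; rw [hAp z hz] at this; omega⟩
      by_cases hz : z = p
      · subst hz
        have := a0 z
        have hzi := ev_of_ne (show z ≠ i from fun h => hp (h ▸ hi))
        by_cases hzl : z = l
        · subst hzl
          rw [ev_self] at this
          omega
        · rw [ev_of_ne hzl] at this; omega
      · have := h0 z; rw [ev_of_ne hz] at this; omega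
  · rintro ⟨h0, hA⟩
    have hp : p ∉ A := by
      intro hp
      refine hb2 ⟨fun z => by have := h0 z; have := ev_nonneg p z; omega,
        ⟨p, hp, by rw [hA p hp, ev_self]; norm_num⟩, ⟨y, hyB, ?_⟩⟩
      have hyp : y ≠ p := fun h => Finset.disjoint_left.1 hAB hp (h ▸ hyB)
      have hyi : y ≠ i := fun h => Finset.disjoint_left.1 hAB hi (h ▸ hyB)
      rw [ev_of_ne hyi] at hy
      rw [ev_of_ne hyp]
      have := ev_nonneg l y
      omega
    refine ⟨fun z => by have := h0 z; have := ev_nonneg p z; omega, fun z hz => ?_⟩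
    rw [hA z hz, ev_of_ne (show z ≠ p from fun h => hp (h ▸ hz))]
    rfl

theorem planes_side {A B : Finset (Fin m)} (hAB : Disjoint A B) (hB : B.Nonempty)
    (hexp : ∀ β, β ∈ exps I ↔ (∃ i ∈ A, 0 < β i) ∧ ∃ j ∈ B, 0 < β j)
    {α : Fin m → ℤ} (hα : α ∈ shifts m A) :
    (∃ q : Cells I, q.1 = α) ∧ ∀ q q' : Cells I, q.1 = α → q'.1 = α → q = q' := by
  simp only [shifts, Finset.mem_image, Finset.mem_product, Finset.mem_compl] at hα
  obtain ⟨⟨i, l⟩, ⟨hi, hl⟩, rfl⟩ := hα
  dsimp only at hi hl ⊢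
  have hil : i ≠ l := fun h => hl (h ▸ hi)
  have hBA : ∀ j ∈ B, j ∉ A := fun j hj h => Finset.disjoint_left.1 hAB h hj
  let pt : Fin m → (Fin m → ℤ) := fun j => ev l + ev j
  have hpt : ∀ j ∈ B, pt j ∈ region I (ev l - ev i) := by
    intro j hj
    refine mem_region.2 ⟨(inI_prod_iff hexp _).2 ⟨fun z => ?_, ⟨i, hi, ?_⟩, ⟨j, hj, ?_⟩⟩, fun h => ?_⟩
    · have := ev_nonneg i z; have := ev_nonneg j z; simp only [pt, Pi.sub_apply, Pi.add_apply]; omega
    · have := ev_nonneg j i
      simp only [pt, Pi.sub_apply, Pi.add_apply, ev_of_ne hil, ev_self]; omega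
    · have := ev_nonneg i j
      simp only [pt, Pi.sub_apply, Pi.add_apply, ev_self]; omega
    · obtain ⟨-, ⟨a, ha, ha'⟩, -⟩ := (inI_prod_iff hexp _).1 h
      simp only [pt, Pi.add_apply, ev_of_ne (show a ≠ l from fun hh => hl (hh ▸ ha)),
        ev_of_ne (show a ≠ j from fun hh => hBA j hj (hh ▸ ha))] at ha'
      omega
  have hconn : ∀ (j : Fin m) (hj : j ∈ B) (j' : Fin m) (hj' : j' ∈ B),
      (regGraph I (ev l - ev i)).Reachable ⟨pt j, hpt j hj⟩ ⟨pt j', hpt j' hj'⟩ := by
    intro j hj j' hj'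
    have hmid : ev l + ev j + ev j' ∈ region I (ev l - ev i) := by
      obtain ⟨h1, h2⟩ := mem_region.1 (hpt j hj)
      refine mem_region.2 ⟨h1.mono fun z => by
        have := ev_nonneg j' z; simp only [pt, Pi.sub_apply, Pi.add_apply]; omega, fun h => ?_⟩
      obtain ⟨-, ⟨a, ha, ha'⟩, -⟩ := (inI_prod_iff hexp _).1 h
      simp only [Pi.add_apply, ev_of_ne (show a ≠ l from fun hh => hl (hh ▸ ha)),
        ev_of_ne (show a ≠ j from fun hh => hBA j hj (hh ▸ ha)),
        ev_of_ne (show a ≠ j' from fun hh => hBA j' hj' (hh ▸ ha))] at ha'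
      omega
    exact (reachable_step (hpt j hj) hmid j' rfl).trans
      (reachable_step (hpt j' hj') hmid j (by simp only [pt]; abel)).symm
  obtain ⟨j0, hj0⟩ := hB
  let C := (regGraph I (ev l - ev i)).connectedComponentMk ⟨pt j0, hpt j0 hj0⟩
  have hgood : ∀ x ∈ C.supp, ∀ z, 0 ≤ x.1 z := by
    intro x hx
    rw [SimpleGraph.ConnectedComponent.mem_supp_iff, SimpleGraph.ConnectedComponent.eq] at hx
    refine ((inv_of_step (fun v => (∀ z, 0 ≤ v z) ∧ ∀ z ∈ A, v z = 0)
      (fun a p ha hb => planes_invariant hAB hexp hi hl a p ha hb) hx).2 ⟨fun z => ?_, fun z hz => ?_⟩).1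
    · have := ev_nonneg l z; have := ev_nonneg j0 z; simp only [pt, Pi.add_apply]; omega
    · simp only [pt, Pi.add_apply, ev_of_ne (show z ≠ l from fun hh => hl (hh ▸ hz)),
        ev_of_ne (show z ≠ j0 from fun hh => hBA j0 hj0 (hh ▸ hz))]
      rfl
  have key : ∀ q : Cells I, ∀ h : q.1 = ev l - ev i, ∃ (j : Fin m) (hj : j ∈ B),
      (regGraph I q.1).Reachable (rep q) ⟨pt j, h ▸ hpt j hj⟩ := by
    intro q hq
    obtain ⟨γ, hγ, hr, hin, hmin⟩ := exists_gen_point q
    obtain ⟨h0, ⟨a, haA, ha⟩, ⟨b, hbB, hb⟩⟩ := (inI_prod_iff hexp _).1 hin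
    have hab : a ≠ b := fun h => hBA b hbB (h ▸ haA)
    have hβ : γ - q.1 = ev a + ev b := by
      funext z
      by_contra hne
      refine hmin z ((inI_prod_iff hexp _).2 ⟨fun w => ?_, ⟨a, haA, ?_⟩, ⟨b, hbB, ?_⟩⟩)
      · have := h0 w
        by_cases hw : w = z
        · subst hw
          simp only [Pi.sub_apply, Pi.add_apply, ev_self] at *
          by_cases hwa : w = a
          · subst hwa; rw [ev_self, ev_of_ne hab] at hne; omega
          · by_cases hwb : w = b
            · subst hwb; rw [ev_self, ev_of_ne hwa] at hne; omega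
            · rw [ev_of_ne hwa, ev_of_ne hwb] at hne; omega
        · simp only [Pi.sub_apply, ev_of_ne hw] at *; omega
      all_goals
        simp only [Pi.sub_apply, Pi.add_apply] at *
        by_cases hz : z = a
        · subst hz
          first
          | (rw [ev_self, ev_of_ne hab] at hne; rw [ev_self]; omega)
          | (rw [ev_of_ne (Ne.symm hab)]; omega)
        · by_cases hz' : z = b
          · subst hz'
            first
            | (rw [ev_of_ne hab]; omega)
            | (rw [ev_self, ev_of_ne (Ne.symm hab)] at hne; rw [ev_self]; omega)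
          · first
            | (rw [ev_of_ne (Ne.symm hz)]; omega)
            | (rw [ev_of_ne (Ne.symm hz')]; omega)
    have hγ0 := good_of_reachable q hr
    have hγe : γ = ev a + ev b + (ev l - ev i) := by rw [← hq, ← hβ, sub_add_cancel]
    have hai : a = i := by
      by_contra hne
      have := hγ0 i
      rw [hγe] at this
      simp only [Pi.add_apply, Pi.sub_apply, ev_self, ev_of_ne (Ne.symm hne), ev_of_ne hil,
        ev_of_ne (show i ≠ b from fun hh => hBA b hbB (hh ▸ hi))] at this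
      omega
    subst hai
    exact ⟨b, hbB, hr.symm.trans (by rw [show (⟨γ, hγ⟩ : region I q.1) = ⟨pt b, hq ▸ hpt b hbB⟩ from
      Subtype.ext (hγe.trans (by simp only [pt]; abel))])⟩
  refine ⟨⟨⟨_, C, hgood⟩, rfl⟩, fun q q' hq hq' => ?_⟩
  obtain ⟨α, D⟩ := q
  obtain ⟨α', D'⟩ := q'
  change α = _ at hq
  change α' = _ at hq'
  subst hq hq'
  obtain ⟨j, hj, h⟩ := key ⟨_, D⟩ rfl
  obtain ⟨j', hj', h'⟩ := key ⟨_, D'⟩ rfl
  refine Sigma.ext rfl (heq_of_eq (Subtype.ext ?_))
  rw [← rep_mk (I := I) ⟨_, D⟩, ← rep_mk (I := I) ⟨_, D'⟩, SimpleGraph.ConnectedComponent.eq]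
  exact h.trans ((hconn j hj j' hj').trans h'.symm)

/-- Every degree-zero cell moves one variable. -/
theorem planes_cells {A B : Finset (Fin m)} (hAB : Disjoint A B) (hA : 2 ≤ A.card) (hB : 2 ≤ B.card)
    (hexp : ∀ β, β ∈ exps I ↔ (∃ i ∈ A, 0 < β i) ∧ ∃ j ∈ B, 0 < β j)
    (q : Cells I) (hq : ∑ z, q.1 z = 0) : q.1 ∈ shifts m A ∨ q.1 ∈ shifts m B := by
  obtain ⟨γ, hγ, hr, hin, hmin⟩ := exists_gen_point q
  obtain ⟨h0, ⟨a, haA, ha⟩, ⟨b, hbB, hb⟩⟩ := (inI_prod_iff hexp _).1 hin
  have hγ0 := good_of_reachable q hr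
  have hnot := (mem_region.1 hγ).2
  have hab : a ≠ b := fun h => Finset.disjoint_left.1 hAB haA (h ▸ hbB)
  have hβ : γ - q.1 = ev a + ev b := by
    funext z
    have hz := h0 z
    by_contra hne
    refine hmin z ((inI_prod_iff hexp _).2 ⟨fun w => ?_, ⟨a, haA, ?_⟩, ⟨b, hbB, ?_⟩⟩)
    · have hw := h0 w
      by_cases hwz : w = z
      · subst hwz
        by_cases hwa : w = a
        · subst hwa; simp only [Pi.sub_apply, ev_self] at *; omega
        · by_cases hwb : w = b
          · subst hwb; simp only [Pi.sub_apply, ev_self] at *; omega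
          · simp only [Pi.sub_apply, Pi.add_apply, ev_self, ev_of_ne hwa, ev_of_ne hwb] at *; omega
      · simp only [Pi.sub_apply, ev_of_ne hwz] at *; omega
    · by_cases hza : a = z
      · subst hza; simp only [Pi.sub_apply, Pi.add_apply, ev_self, ev_of_ne hab] at *; omega
      · simp only [Pi.sub_apply, ev_of_ne hza] at *; omega
    · by_cases hzb : b = z
      · subst hzb; simp only [Pi.sub_apply, Pi.add_apply, ev_self, ev_of_ne (Ne.symm hab)] at *; omega
      · simp only [Pi.sub_apply, ev_of_ne hzb] at *; omega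
  have hsum : ∑ z, γ z = 2 := by
    have e : ∑ z, (γ - q.1) z = ∑ z, (ev a + ev b) z := by rw [hβ]
    simp only [Pi.sub_apply, Pi.add_apply, Finset.sum_sub_distrib, Finset.sum_add_distrib] at e
    have h1 : ∀ c : Fin m, ∑ z, ev c z = 1 := fun c => by
      simp [toZ, Finsupp.single_apply, apply_ite, Finset.sum_ite_eq]
    rw [h1, h1, hq] at e
    omega
  -- moving the partner through a neighbour forces it to be present
  have key : ∀ (X Y : Finset (Fin m)) (x y : Fin m), Disjoint X Y → 2 ≤ Y.card → x ∈ X → y ∈ Y →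
      (∀ β, β ∈ exps I ↔ (∃ i ∈ X, 0 < β i) ∧ ∃ j ∈ Y, 0 < β j) → γ - q.1 = ev x + ev y →
      (∀ z ∈ X, γ z = 0) → q.1 ∈ shifts m X := by
    intro X Y x y hXY hY hx hy hexp' hβ' hX
    obtain ⟨y', hy', hne⟩ := Finset.exists_mem_ne hY y
    have hγy : 1 ≤ γ y := by
      by_contra hlt
      have hup : γ + ev y' ∈ region I q.1 := mem_region.2 ⟨hin.mono fun z => by
        have := ev_nonneg y' z; simp only [Pi.sub_apply, Pi.add_apply]; omega, fun h => by
        obtain ⟨-, ⟨z, hzX, hz⟩, -⟩ := (inI_prod_iff hexp' _).1 h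
        simp only [Pi.add_apply, hX z hzX,
          ev_of_ne (show z ≠ y' from fun hh => Finset.disjoint_left.1 hXY hzX (hh ▸ hy'))] at hz
        omega⟩
      have hdown : γ + ev y' - ev y ∈ region I q.1 := by
        refine mem_region.2 ⟨(inI_prod_iff hexp' _).2 ?_, fun h => (mem_region.1 hup).2 (h.mono fun z => by
          have := ev_nonneg y z; simp only [Pi.sub_apply, Pi.add_apply]; omega)⟩
        have e : γ + ev y' - ev y - q.1 = ev x + ev y' := by
          rw [show γ + ev y' - ev y - q.1 = (γ - q.1) + ev y' - ev y by abel, hβ']; abel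
        rw [e]
        refine ⟨fun z => ?_, ⟨x, hx, ?_⟩, ⟨y', hy', ?_⟩⟩
        · have := ev_nonneg x z; have := ev_nonneg y' z; simp only [Pi.add_apply]; omega
        · have := ev_nonneg y' x; simp only [Pi.add_apply, ev_self]; omega
        · have := ev_nonneg x y'; simp only [Pi.add_apply, ev_self]; omega
      have h1 := reachable_step hγ hup y' rfl
      have h2 := (reachable_step hdown hup y (by abel)).symm
      have := good_of_reachable q (((h1.trans h2).symm).trans hr) y
      simp only [Pi.sub_apply, Pi.add_apply, ev_self, ev_of_ne (Ne.symm hne)] at this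
      omega
    obtain ⟨δ, hδ⟩ : ∃ δ : Fin m → ℤ, δ = γ - ev y := ⟨_, rfl⟩
    have hδ0 : ∀ z, 0 ≤ δ z := fun z => by
      rw [hδ, Pi.sub_apply]
      have := hγ0 z
      by_cases hz : z = y
      · subst hz; rw [ev_self]; omega
      · rw [ev_of_ne hz]; omega
    have hδs : ∑ z, δ z = 1 := by
      simp only [hδ, Pi.sub_apply, Finset.sum_sub_distrib, hsum]
      simp [toZ, Finsupp.single_apply, apply_ite, Finset.sum_ite_eq]
    obtain ⟨l, -, hl⟩ := Finset.exists_ne_zero_of_sum_ne_zero (by rw [hδs]; exact one_ne_zero)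
    have hδl : δ = ev l := by
      have hsplit := Finset.add_sum_erase Finset.univ δ (Finset.mem_univ l)
      have hrest := Finset.sum_nonneg fun z (_ : z ∈ Finset.univ.erase l) => hδ0 z
      have hl1 : δ l = 1 := by have := hδ0 l; omega
      funext z
      by_cases hz : z = l
      · subst hz; rw [hl1, ev_self]
      · have := Finset.single_le_sum (f := δ) (fun w _ => hδ0 w)
          (Finset.mem_erase.2 ⟨hz, Finset.mem_univ z⟩)
        have := hδ0 z
        rw [ev_of_ne hz]; omega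
    refine Finset.mem_image.2 ⟨(x, l), Finset.mem_product.2 ⟨hx, Finset.mem_compl.2 fun hlX => ?_⟩, ?_⟩
    · have := hX l hlX
      have e := congrFun hδl l
      rw [hδ, Pi.sub_apply, this, ev_self] at e
      have := ev_nonneg y l
      omega
    · show ev l - ev x = q.1
      rw [← hδl, hδ, show q.1 = γ - (γ - q.1) by abel, hβ']
      abel
  by_cases hAz : ∀ z ∈ A, γ z = 0
  · exact Or.inl (key A B a b hAB hB haA hbB hexp hβ hAz)
  · refine Or.inr (key B A b a hAB.symm hA hbB haA (fun β => (hexp β).trans and_comm) (by rw [hβ]; abel) ?_)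
    intro z hz
    by_contra hne
    push Not at hAz
    obtain ⟨w, hw, hw'⟩ := hAz
    exact hnot ((inI_prod_iff hexp _).2 ⟨hγ0, ⟨w, hw, by have := hγ0 w; omega⟩, ⟨z, hz, by have := hγ0 z; omega⟩⟩)

theorem planes_count (hI : IsMonomial I) {A B : Finset (Fin m)} (hAB : Disjoint A B) (hA : 2 ≤ A.card)
    (hB : 2 ≤ B.card) (hexp : ∀ β, β ∈ exps I ↔ (∃ i ∈ A, 0 < β i) ∧ ∃ j ∈ B, 0 < β j) :
    Module.finrank k ↥(⨆ α : {α : Fin m → ℤ // ∑ i, α i = 0}, tPiece I α.1) =
      A.card * (m - A.card) + B.card * (m - B.card) := by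
  set S := shifts m A ∪ shifts m B with hS
  have hdisj : Disjoint (shifts m A) (shifts m B) := by
    rw [Finset.disjoint_left]
    intro α h1 h2
    simp only [shifts, Finset.mem_image, Finset.mem_product, Finset.mem_compl] at h1 h2
    obtain ⟨⟨i, l⟩, ⟨hi, hl⟩, rfl⟩ := h1
    obtain ⟨⟨j, l'⟩, ⟨hj, hl'⟩, h⟩ := h2
    exact Finset.disjoint_left.1 hAB hi ((shifts_inj h.symm (fun hh => hl (hh ▸ hi))).1 ▸ hj)
  have hAne : A.Nonempty := Finset.card_pos.1 (by omega)
  have hBne : B.Nonempty := Finset.card_pos.1 (by omega)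
  have hside : ∀ α ∈ S, (∃ q : Cells I, q.1 = α) ∧ ∀ q q' : Cells I, q.1 = α → q'.1 = α → q = q' := by
    intro α hα
    rcases Finset.mem_union.1 hα with h | h
    · exact planes_side hAB hBne hexp h
    · exact planes_side hAB.symm hAne (fun β => (hexp β).trans and_comm) h
  have hmem : ∀ q : {q : Cells I // ∑ i, q.1 i = 0}, q.1.1 ∈ S := fun q =>
    Finset.mem_union.2 (planes_cells hAB hA hB hexp q.1 q.2)
  let f : {q : Cells I // ∑ i, q.1 i = 0} → S := fun q => ⟨q.1.1, hmem q⟩
  have hf : Function.Bijective f := by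
    refine ⟨fun q q' h => Subtype.ext ((hside _ (hmem q')).2 _ _ (congrArg Subtype.val h) rfl), fun α => ?_⟩
    obtain ⟨q, hq⟩ := (hside α.1 α.2).1
    refine ⟨⟨q, ?_⟩, Subtype.ext hq⟩
    rw [hq]
    rcases Finset.mem_union.1 α.2 with h | h <;>
    · simp only [shifts, Finset.mem_image] at h
      obtain ⟨p, -, hp⟩ := h
      rw [← hp]
      simp only [Pi.sub_apply, Finset.sum_sub_distrib, sum_ev, sub_self]
  haveI := Finite.of_injective f hf.1
  rw [finrank_iSup_of_finite hI (fun α => ∑ i, α i = 0), Nat.card_eq_of_bijective f hf, Nat.card_eq_finsetCard,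
    hS, Finset.card_union_of_disjoint hdisj, card_shifts, card_shifts]

theorem planes_pair (n c d : ℕ) (hc : 2 ≤ c) (hcd : c ≤ d) (hn : c + d ≤ n) :
    Module.finrank k ↥(⨆ α : {α : Fin (n + 1) → ℤ // ∑ i, α i = 0},
      tPiece (Ideal.span {f : MvPolynomial (Fin (n + 1)) k | ∃ i j : Fin (n + 1), i.val + 1 ≤ c ∧ n + 1 ≤ j.val + d ∧
        f = MvPolynomial.X i * MvPolynomial.X j}) α.1) = c * (n - c + 1) + d * (n - d + 1) := by
  set A : Finset (Fin (n + 1)) := (Finset.univ : Finset (Fin c)).map (Fin.castLEEmb (by omega)) with hA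
  set B : Finset (Fin (n + 1)) := (Finset.univ : Finset (Fin d)).map
    ⟨fun x => ⟨n + 1 - d + x.val, by omega⟩, fun a b h => Fin.ext (by have := congrArg Fin.val h; simp at this; omega)⟩ with hB
  have hAc : A.card = c := by simp [hA]
  have hBc : B.card = d := by simp [hB]
  have hmA : ∀ i, i ∈ A ↔ i.val + 1 ≤ c := fun i => by
    simp only [hA, Finset.mem_map, Finset.mem_univ, true_and]
    exact ⟨by rintro ⟨x, rfl⟩; show x.val + 1 ≤ c; omega, fun h => ⟨⟨i.val, by omega⟩, Fin.ext rfl⟩⟩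
  have hmB : ∀ j, j ∈ B ↔ n + 1 ≤ j.val + d := fun j => by
    simp only [hB, Finset.mem_map, Finset.mem_univ, true_and]
    exact ⟨by rintro ⟨x, rfl⟩; show n + 1 ≤ (n + 1 - d + x.val) + d; omega, fun h => ⟨⟨j.val + d - (n + 1), by omega⟩, Fin.ext (show n + 1 - d + (j.val + d - (n + 1)) = j.val by omega)⟩⟩
  have hdisj : Disjoint A B := Finset.disjoint_left.2 fun x h1 h2 => by
    rw [hmA] at h1; rw [hmB] at h2; omega
  set S : Set (Fin (n + 1) →₀ ℕ) :=
    {s | ∃ i j : Fin (n + 1), i ∈ A ∧ j ∈ B ∧ s = Finsupp.single i 1 + Finsupp.single j 1} with hS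
  have hspan : Ideal.span {f : MvPolynomial (Fin (n + 1)) k | ∃ i j : Fin (n + 1), i.val + 1 ≤ c ∧
      n + 1 ≤ j.val + d ∧ f = X i * X j} = Ideal.span ((fun s => monomial s (1 : k)) '' S) := by
    congr 1
    ext f
    constructor
    · rintro ⟨i, j, hi, hj, rfl⟩
      exact ⟨_, ⟨i, j, (hmA i).2 hi, (hmB j).2 hj, rfl⟩, by simp [X, monomial_mul]⟩
    · rintro ⟨_, ⟨i, j, hi, hj, rfl⟩, rfl⟩
      exact ⟨i, j, (hmA i).1 hi, (hmB j).1 hj, by simp [X, monomial_mul]⟩
  rw [hspan]
  have hexp : ∀ β, β ∈ exps (Ideal.span ((fun s => monomial s (1 : k)) '' S)) ↔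
      (∃ i ∈ A, 0 < β i) ∧ ∃ j ∈ B, 0 < β j := by
    intro β
    show monomial β (1 : k) ∈ Ideal.span ((fun s => monomial s (1 : k)) '' S) ↔ _
    rw [mem_ideal_span_monomial_image, support_monomial, if_neg one_ne_zero]
    simp only [Finset.mem_singleton, forall_eq]
    constructor
    · rintro ⟨_, ⟨i, j, hi, hj, rfl⟩, hle⟩
      have h1 := hle i
      have h2 := hle j
      simp [Finsupp.single_apply] at h1 h2
      exact ⟨⟨i, hi, by omega⟩, ⟨j, hj, by omega⟩⟩
    · rintro ⟨⟨i, hi, hi'⟩, ⟨j, hj, hj'⟩⟩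
      refine ⟨_, ⟨i, j, hi, hj, rfl⟩, fun z => ?_⟩
      have hij : i ≠ j := fun h => Finset.disjoint_left.1 hdisj hi (h ▸ hj)
      simp only [Finsupp.add_apply, Finsupp.single_apply]
      split_ifs with h1 h2
      · exact absurd (h1.trans h2.symm) hij
      · subst h1; omega
      · subst_vars; omega
      · exact Nat.zero_le _
  have hmon : IsMonomial (Ideal.span ((fun s => monomial s (1 : k)) '' S)) := fun p hp β hβ => by
    obtain ⟨s, hs, hle⟩ := mem_ideal_span_monomial_image.1 hp β hβ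
    rw [mem_ideal_span_monomial_image, support_monomial, if_neg one_ne_zero]
    simp only [Finset.mem_singleton, forall_eq]
    exact ⟨s, hs, hle⟩
  rw [planes_count hmon hdisj (by omega) (by omega) hexp, hAc, hBc, show n + 1 - c = n - c + 1 by omega,
    show n + 1 - d = n - d + 1 by omega]

end Groth.HilbPn
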