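import Groth.Agent.HilbPn.Props
import Mathlib.Algebra.Order.Antidiag.FinsuppEquiv

/-! The good components of a power of the irrelevant ideal. -/

set_option autoImplicit false

universe u

open MvPolynomial W4c1hilbpn

namespace Groth.HilbPn

attribute [local instance] Classical.propDecidable

variable {k : Type u} [Field k] {n : ℕ}

theorem finite_quotient {I : Ideal (MvPolynomial (Fin n) k)} (h : {β : Fin n →₀ ℕ | β ∉ exps I}.Finite) :
    Module.Finite k (MvPolynomial (Fin n) k ⧸ I) := by
  refine ⟨⟨h.toFinset.image fun β => Ideal.Quotient.mk I (monomial β (1 : k)), ?_⟩⟩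
  rw [eq_top_iff]
  rintro y -
  obtain ⟨p, rfl⟩ := Ideal.Quotient.mk_surjective y
  rw [as_sum p, map_sum]
  refine Submodule.sum_mem _ fun β _ => ?_
  by_cases hβ : β ∈ exps I
  · rw [show monomial β (coeff β p) = C (coeff β p) * monomial β 1 by rw [C_mul_monomial, mul_one],
      Ideal.Quotient.eq_zero_iff_mem.2 (I.mul_mem_left _ hβ)]
    exact zero_mem _
  · rw [show monomial β (coeff β p) = coeff β p • monomial β (1 : k) by rw [smul_monomial, smul_eq_mul, mul_one]]
    have hm : Ideal.Quotient.mk I (monomial β (1 : k)) ∈ Submodule.span k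
        (↑(h.toFinset.image fun β => Ideal.Quotient.mk I (monomial β (1 : k))) : Set _) :=
      Submodule.subset_span (Finset.mem_coe.2 (Finset.mem_image.2 ⟨β, h.mem_toFinset.2 hβ, rfl⟩))
    exact Submodule.smul_mem _ (coeff β p) hm

variable (k n) in
/-- The `r`-th power of the irrelevant ideal. -/
noncomputable abbrev mPow (r : ℕ) : Ideal (MvPolynomial (Fin n) k) :=
  Ideal.span (Set.range (X : Fin n → MvPolynomial (Fin n) k)) ^ r

theorem mem_mPow (r : ℕ) (p : MvPolynomial (Fin n) k) : p ∈ mPow k n r ↔ ∀ x ∈ p.support, r ≤ Finsupp.degree x :=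
  mem_pow_idealOfVars_iff r p

theorem mem_exps_mPow (r : ℕ) (β : Fin n →₀ ℕ) : β ∈ exps (mPow k n r) ↔ r ≤ Finsupp.degree β := by
  show monomial β (1 : k) ∈ mPow k n r ↔ _
  rw [mem_mPow, support_monomial, if_neg one_ne_zero]
  simp

theorem isMonomial_mPow (r : ℕ) : IsMonomial (mPow k n r) := fun p hp β hβ =>
  (mem_exps_mPow r β).2 ((mem_mPow r p).1 hp β hβ)

instance finite_mPow (r : ℕ) : Module.Finite k (MvPolynomial (Fin n) k ⧸ mPow k n r) := by
  refine finite_quotient ((Finset.finite_toSet ((Finset.range r).biUnion fun d =>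
    Finset.univ.finsuppAntidiag d)).subset fun β hβ => ?_)
  rw [Set.mem_setOf_eq, mem_exps_mPow, not_le] at hβ
  simp only [Finset.coe_biUnion, Set.mem_iUnion, Finset.mem_coe, Finset.mem_range, exists_prop]
  exact ⟨Finsupp.degree β, hβ, Finset.mem_finsuppAntidiag.2 ⟨(Finsupp.degree_eq_sum β).symm, Finset.subset_univ _⟩⟩

theorem inI_mPow (r : ℕ) (γ : Fin n → ℤ) : InI (mPow k n r) γ ↔ (∀ i, 0 ≤ γ i) ∧ (r : ℤ) ≤ ∑ i, γ i := by
  rw [InI, mem_exps_mPow, Finsupp.degree_eq_sum]
  refine and_congr_right fun h => ?_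
  have : ((∑ i, toN γ i : ℕ) : ℤ) = ∑ i, γ i := by
    rw [Nat.cast_sum]
    exact Finset.sum_congr rfl fun i _ => by simp [h i]
  omega

theorem sum_single (i : Fin n) : ∑ j, toZ (Finsupp.single i 1) j = 1 := by
  simp [toZ, Finsupp.single_apply, apply_ite, Finset.sum_ite_eq]

theorem sum_eq_neg_one (hn : 2 ≤ n) {r : ℕ} (q : Cells (mPow k n r)) : ∑ i, q.1 i = -1 := by
  obtain ⟨hin, hnot⟩ := mem_region.1 (rep q).2
  have h0 := (rep_std q).1
  have hlt : ∑ i, (rep q).1 i < r := lt_of_not_ge fun h => hnot ((inI_mPow r _).2 ⟨h0, h⟩)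
  have hge := ((inI_mPow r _).1 hin).2
  simp only [Pi.sub_apply, Finset.sum_sub_distrib] at hge
  by_contra hne
  obtain ⟨i, -, hi⟩ : ∃ i ∈ (Finset.univ : Finset (Fin n)), q.1 i < 0 := by
    by_contra h
    push Not at h
    have := Finset.sum_nonneg fun i hi => h i hi
    omega
  obtain ⟨j, hj⟩ : ∃ j : Fin n, j ≠ i := by
    by_cases h : i = ⟨0, by omega⟩
    · exact ⟨⟨1, by omega⟩, by rw [h]; simp [Fin.ext_iff]⟩
    · exact ⟨⟨0, by omega⟩, fun hh => h hh.symm⟩
  let S : Set ℕ := {m | ∃ (γ : Fin n → ℤ) (h : γ ∈ region (mPow k n r) q.1),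
    (regGraph (mPow k n r) q.1).Reachable ⟨γ, h⟩ (rep q) ∧ (γ i).toNat = m}
  have hS : S.Nonempty := ⟨_, _, (rep q).2, SimpleGraph.Reachable.refl _, rfl⟩
  obtain ⟨γ, hγ, hr, hm⟩ := Nat.sInf_mem hS
  obtain ⟨hin', hnot'⟩ := mem_region.1 hγ
  have hγ0 : ∀ l, 0 ≤ γ l := good_of_reachable q hr
  have hlt' : ∑ l, γ l < r := lt_of_not_ge fun h => hnot' ((inI_mPow r _).2 ⟨hγ0, h⟩)
  have hge' := ((inI_mPow r _).1 hin').2
  have hin0 := ((inI_mPow r _).1 hin').1
  simp only [Pi.sub_apply, Finset.sum_sub_distrib] at hge'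
  have key : ∀ γ' : Fin n → ℤ, ∀ h : γ' ∈ region (mPow k n r) q.1,
      (regGraph (mPow k n r) q.1).Reachable ⟨γ', h⟩ (rep q) → γ' i = γ i - 1 → False := by
    intro γ' h hr' he
    have h1 := good_of_reachable q hr' i
    have hle := Nat.sInf_le (show (γ' i).toNat ∈ S from ⟨γ', h, hr', rfl⟩)
    rw [← hm] at hle
    omega
  set e := toZ (Finsupp.single i 1) with he
  have hei : e i = 1 := by simp [he, toZ]
  have hel : ∀ l, l ≠ i → e l = 0 := fun l hl => by simp [he, toZ, Ne.symm hl]
  have hes : ∑ l, e l = 1 := sum_single i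
  by_cases hcase : (r : ℤ) + 1 ≤ ∑ l, γ l - ∑ l, q.1 l
  · have h : γ - e ∈ region (mPow k n r) q.1 := by
      refine mem_region.2 ⟨(inI_mPow r _).2 ⟨fun l => ?_, ?_⟩, fun hh => hnot' (hh.mono fun l => ?_)⟩
      · have h1 := hin0 l
        simp only [Pi.sub_apply] at h1 ⊢
        by_cases hl : l = i
        · subst hl; have := hγ0 l; omega
        · rw [hel l hl]; omega
      · simp only [Pi.sub_apply, Finset.sum_sub_distrib, hes]
        omega
      · have := toZ_nonneg (Finsupp.single i 1) l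
        simp only [Pi.sub_apply, he]; omega
    refine key _ h ((SimpleGraph.Adj.reachable ?_).trans hr) (by simp [hei])
    rw [SimpleGraph.induce_adj]
    have := step_adj (γ - e) i
    rwa [← he, sub_add_cancel] at this
  · set f := toZ (Finsupp.single j 1) with hf
    have hfi : f i = 0 := by simp [hf, toZ, hj]
    have hfs : ∑ l, f l = 1 := sum_single j
    have h1 : γ + f ∈ region (mPow k n r) q.1 := by
      refine mem_region.2 ⟨hin'.mono fun l => ?_, fun hh => ?_⟩
      · have := toZ_nonneg (Finsupp.single j 1) l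
        simp only [Pi.sub_apply, Pi.add_apply, hf]; omega
      · have := ((inI_mPow r _).1 hh).2
        simp only [Pi.add_apply, Finset.sum_add_distrib, hfs] at this
        omega
    have h2 : γ + f - e ∈ region (mPow k n r) q.1 := by
      refine mem_region.2 ⟨(inI_mPow r _).2 ⟨fun l => ?_, ?_⟩, fun hh => ?_⟩
      · have h1 := hin0 l
        have h2 := toZ_nonneg (Finsupp.single j 1) l
        rw [← hf] at h2
        simp only [Pi.sub_apply, Pi.add_apply] at h1 ⊢
        by_cases hl : l = i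
        · subst hl; have := hγ0 l; omega
        · rw [hel l hl]; omega
      · simp only [Pi.sub_apply, Pi.add_apply, Finset.sum_sub_distrib, Finset.sum_add_distrib, hes, hfs]
        omega
      · have := ((inI_mPow r _).1 hh).2
        simp only [Pi.sub_apply, Pi.add_apply, Finset.sum_sub_distrib, Finset.sum_add_distrib, hes, hfs] at this
        omega
    refine key _ h2 (((SimpleGraph.Adj.reachable ?_).trans
      (SimpleGraph.Adj.reachable (v := (⟨γ, hγ⟩ : region (mPow k n r) q.1)) (u := ⟨γ + f, h1⟩) ?_)).trans hr)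
      (by simp [hei, hfi])
    · rw [SimpleGraph.induce_adj]
      have := step_adj (γ + f - e) i
      rwa [← he, sub_add_cancel] at this
    · rw [SimpleGraph.induce_adj]
      exact (step_adj γ j).symm

/-- The nonnegative points of the region of a multidegree of total degree `-1` are isolated. -/
theorem isolated {r : ℕ} {α : Fin n → ℤ} (hs : ∑ i, α i = -1) {a b : region (mPow k n r) α}
    (ha : ∀ i, 0 ≤ a.1 i) (hab : (regGraph (mPow k n r) α).Reachable a b) : b = a := by
  have hiso : ∀ y, ¬ (regGraph (mPow k n r) α).Adj a y := by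
    intro y hadj
    obtain ⟨ha1, ha2⟩ := mem_region.1 a.2
    obtain ⟨hy1, hy2⟩ := mem_region.1 y.2
    have hlt : ∑ i, a.1 i < r := lt_of_not_ge fun h => ha2 ((inI_mPow r _).2 ⟨ha, h⟩)
    have hge := ((inI_mPow r _).1 ha1).2
    simp only [Pi.sub_apply, Finset.sum_sub_distrib] at hge
    obtain ⟨i, h | h⟩ := adj_cases hadj
    · refine hy2 ((inI_mPow r _).2 ⟨fun l => ?_, ?_⟩)
      · have := congrFun h l
        simp only [Pi.add_apply] at this
        have h1 := toZ_nonneg (Finsupp.single i 1) l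
        have h2 := ha l
        change 0 ≤ y.1 l
        change y.1 l = a.1 l + _ at this
        omega
      · have : ∑ l, y.1 l = ∑ l, a.1 l + 1 := by
          rw [← sum_single i, ← Finset.sum_add_distrib]
          exact Finset.sum_congr rfl fun l _ => congrFun h l
        omega
    · have h1 := ((inI_mPow r _).1 hy1).2
      simp only [Pi.sub_apply, Finset.sum_sub_distrib] at h1
      have : ∑ l, a.1 l = ∑ l, y.1 l + 1 := by
        rw [← sum_single i, ← Finset.sum_add_distrib]
        exact Finset.sum_congr rfl fun l _ => congrFun h l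
      omega
  obtain ⟨w⟩ := hab
  cases w with
  | nil => rfl
  | cons h _ => exact absurd h (hiso _)

/-- Good components of multidegree `α` are the points of degree `r - 1` above `α`. -/
noncomputable def goodEquiv {r : ℕ} {α : Fin n → ℤ} (hs : ∑ i, α i = -1) :
    Good (mPow k n r) α ≃ {γ : Fin n → ℤ // (∀ i, 0 ≤ γ i ∧ α i ≤ γ i) ∧ ∑ i, γ i = (r : ℤ) - 1} where
  toFun C := ⟨(rep (I := mPow k n r) ⟨α, C⟩).1, by
    have hmem : (rep (I := mPow k n r) ⟨α, C⟩).1 ∈ region (mPow k n r) α := (rep (I := mPow k n r) ⟨α, C⟩).2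
    obtain ⟨h1, h2⟩ := mem_region.1 hmem
    have h0 := (rep_std (I := mPow k n r) ⟨α, C⟩).1
    have hge := ((inI_mPow r _).1 h1).2
    simp only [Pi.sub_apply, Finset.sum_sub_distrib] at hge
    have hlt := lt_of_not_ge fun h => h2 ((inI_mPow r _).2 ⟨h0, h⟩)
    refine ⟨fun i => ⟨h0 i, ?_⟩, by omega⟩
    have := h1.1 i
    simp only [Pi.sub_apply] at this
    omega⟩
  invFun γ := ⟨(regGraph (mPow k n r) α).connectedComponentMk ⟨γ.1, mem_region.2
      ⟨(inI_mPow r _).2 ⟨fun i => by have := (γ.2.1 i).2; simp only [Pi.sub_apply]; omega, by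
        simp only [Pi.sub_apply, Finset.sum_sub_distrib]; have := γ.2.2; omega⟩,
      fun h => by have := ((inI_mPow r _).1 h).2; have := γ.2.2; omega⟩⟩, fun x hx i => by
    rw [SimpleGraph.ConnectedComponent.mem_supp_iff, SimpleGraph.ConnectedComponent.eq] at hx
    rw [isolated hs (fun l => (γ.2.1 l).1) hx.symm]
    exact (γ.2.1 i).1⟩
  left_inv C := Subtype.ext (rep_mk (I := mPow k n r) ⟨α, C⟩)
  right_inv γ := by
    apply Subtype.ext
    dsimp only
    generalize_proofs _ h1 h2
    have h := isolated hs (a := ⟨γ.1, h1⟩) (fun l => (γ.2.1 l).1)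
      (SimpleGraph.ConnectedComponent.eq.1 (rep_mk (I := mPow k n r) ⟨α, ⟨_, h2⟩⟩).symm)
    exact congrArg Subtype.val h

theorem card_good {r : ℕ} (hn : 1 ≤ n) {α : Fin n → ℤ} (hs : ∑ i, α i = -1) :
    Nat.card (Good (mPow k n r) α) =
      if ∑ i, (-α i).toNat ≤ r then (n + r - (∑ i, (-α i).toNat) - 1).choose (n - 1) else 0 := by
  rw [Nat.card_congr (goodEquiv hs)]
  set w := ∑ i, (-α i).toNat with hw
  have hsplit : ∑ i, ((α i).toNat : ℤ) = (w : ℤ) - 1 := by
    rw [hw, Nat.cast_sum, eq_sub_iff_add_eq, ← sub_eq_zero, add_sub_right_comm, ← Finset.sum_sub_distrib]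
    rw [show ∑ i, (((α i).toNat : ℤ) - ((-α i).toNat : ℤ)) = ∑ i, α i from
      Finset.sum_congr rfl fun i _ => by omega, hs]
    rfl
  split_ifs with hwr
  · rw [show (n + r - w - 1).choose (n - 1) = (Finset.univ.finsuppAntidiag (r - w) : Finset (Fin n →₀ ℕ)).card by
      rw [Finset.card_finsuppAntidiag_nat_eq_multichoose, Nat.multichoose_eq, Finset.card_univ, Fintype.card_fin]
      rw [show n + (r - w) - 1 = n + r - w - 1 by omega]
      exact (Nat.choose_symm_of_eq_add (by omega)).symm]
    rw [← Nat.card_eq_finsetCard]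
    refine Nat.card_congr
      { toFun := fun γ => ⟨toN fun i => γ.1 i - (α i).toNat, ?_⟩
        invFun := fun c => ⟨fun i => (c.1 i : ℤ) + (α i).toNat, fun i => by dsimp only; omega, ?_⟩
        left_inv := ?_
        right_inv := ?_ }
    · rw [Finset.mem_finsuppAntidiag]
      refine ⟨?_, Finset.subset_univ _⟩
      have : ((Finset.univ.sum fun i => toN (fun i => γ.1 i - (α i).toNat) i : ℕ) : ℤ) = (r : ℤ) - w := by
        rw [Nat.cast_sum, show (r : ℤ) - w = (∑ i, γ.1 i) - ∑ i, ((α i).toNat : ℤ) by rw [hsplit, γ.2.2]; ring,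
          ← Finset.sum_sub_distrib]
        exact Finset.sum_congr rfl fun i _ => by
          simp only [toN_apply]
          have := γ.2.1 i
          omega
      change ((∑ i, toN (fun i => γ.1 i - (α i).toNat) i : ℕ) : ℤ) = _ at this
      show (∑ i, toN (fun i => γ.1 i - (α i).toNat) i : ℕ) = r - w
      omega
    · have h := (Finset.mem_finsuppAntidiag.1 c.2).1
      rw [Finset.sum_add_distrib, hsplit, ← Nat.cast_sum, h]
      omega
    · intro γ
      apply Subtype.ext
      funext i
      simp only [toN_apply]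
      have := γ.2.1 i
      omega
    · intro c
      apply Subtype.ext
      ext i
      simp
  · rw [Nat.card_eq_zero]
    left
    refine ⟨fun γ => hwr ?_⟩
    have : ∑ i, ((α i).toNat : ℤ) ≤ ∑ i, γ.1 i := Finset.sum_le_sum fun i _ => by have := γ.2.1 i; omega
    rw [hsplit, γ.2.2] at this
    omega

end Groth.HilbPn
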