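import Groth.Agent.HilbPn.Power
import Groth.Agent.HilbPn.Counts

/-! Signature counts for powers of the irrelevant ideal in three variables. -/

set_option autoImplicit false

universe u

open MvPolynomial W4c1hilbpn

namespace Groth.HilbPn

attribute [local instance] Classical.propDecidable

variable {k : Type u} [Field k]

theorem card_std_mPow (r : ℕ) : Nat.card {γ : Fin 3 → ℤ // γ ∈ Std (mPow k 3 r)} = (r + 2).choose 3 := by
  cases r with
  | zero =>
    rw [Nat.card_eq_zero.2 (Or.inl ⟨fun γ => γ.2.2 ((inI_mPow 0 _).2 ⟨γ.2.1, by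
      simpa using Finset.sum_nonneg fun i _ => γ.2.1 i⟩)⟩)]
    rfl
  | succ R =>
    have h : (R + 1 + 2).choose 3 = (Finset.univ.finsuppAntidiag R : Finset (Fin 4 →₀ ℕ)).card := by
      rw [Finset.card_finsuppAntidiag_nat_eq_multichoose, Nat.multichoose_eq, Finset.card_univ, Fintype.card_fin,
        show 4 + R - 1 = R + 3 by omega]
      exact Nat.choose_symm_of_eq_add (by omega)
    rw [h, ← Nat.card_eq_finsetCard]
    refine Nat.card_congr
      { toFun := fun γ => ⟨Finsupp.equivFunOnFinite.symm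
          ![(γ.1 0).toNat, (γ.1 1).toNat, (γ.1 2).toNat, ((R : ℤ) - γ.1 0 - γ.1 1 - γ.1 2).toNat], ?_⟩
        invFun := fun v => ⟨![(v.1 0 : ℤ), (v.1 1 : ℤ), (v.1 2 : ℤ)], ?_, ?_⟩
        left_inv := ?_
        right_inv := ?_ }
    · rw [Finset.mem_finsuppAntidiag]
      refine ⟨?_, Finset.subset_univ _⟩
      have h1 : ¬ (((R + 1 : ℕ) : ℤ) ≤ ∑ i, γ.1 i) := fun hh => γ.2.2 ((inI_mPow _ _).2 ⟨γ.2.1, hh⟩)
      have := γ.2.1 0; have := γ.2.1 1; have := γ.2.1 2
      simp [Fin.sum_univ_three] at h1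
      simp [Fin.sum_univ_four]
      omega
    · intro i; fin_cases i <;> simp
    · intro hh
      have h1 := ((inI_mPow _ _).1 hh).2
      have h2 := (Finset.mem_finsuppAntidiag.1 v.2).1
      rw [Fin.sum_univ_three] at h1
      rw [Fin.sum_univ_four] at h2
      simp at h1
      omega
    · intro γ
      apply Subtype.ext
      funext i
      have := γ.2.1 0; have := γ.2.1 1; have := γ.2.1 2
      fin_cases i <;> simp <;> omega
    · intro v
      apply Subtype.ext
      have h2 := (Finset.mem_finsuppAntidiag.1 v.2).1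
      rw [Fin.sum_univ_four] at h2
      ext i
      fin_cases i <;> simp
      omega

theorem card_sig_mPow (r : ℕ) (i : Fin 3) :
    Module.finrank k ↥(sigPiece (mPow k 3 r) {i}) = (r + 3).choose 4 := by
  obtain ⟨-, h01, h02, -, -, -, -⟩ := fin3_facts i
  have hi1 : i + 1 ≠ i := Ne.symm h01
  have hi2 : i + 2 ≠ i := Ne.symm h02
  rw [finrank_sigPiece (isMonomial_mPow r),
    Nat.card_congr (Equiv.subtypeEquivRight (p := fun q : Cells (mPow k 3 r) => ∀ l, q.1 l < 0 ↔ l ∈ ({i} : Set (Fin 3)))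
      (q := fun q => (∀ l, q.1 l < 0 ↔ l ∈ ({i} : Set (Fin 3))) ∧ ∑ l, q.1 l = -1)
      fun q => ⟨fun h => ⟨h, sum_eq_neg_one (by norm_num) q⟩, fun h => h.1⟩)]
  let P : (Fin 3 → ℤ) → Prop := fun α => (∀ l, α l < 0 ↔ l ∈ ({i} : Set (Fin 3))) ∧ ∑ l, α l = -1
  have e1 : {q : Cells (mPow k 3 r) // P q.1} ≃ Σ α : {α // P α}, Good (mPow k 3 r) α.1 :=
    { toFun := fun q => ⟨⟨q.1.1, q.2⟩, q.1.2⟩
      invFun := fun z => ⟨⟨z.1.1, z.2⟩, z.1.2⟩
      left_inv := fun _ => rfl
      right_inv := fun _ => rfl }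
  rw [Nat.card_congr (e1.trans (Equiv.sigmaCongrRight fun α => goodEquiv α.2.2))]
  cases r with
  | zero =>
    rw [Nat.card_eq_zero.2 (Or.inl ⟨fun z => ?_⟩)]
    · rfl
    · have h := z.2.2.2
      have := Finset.sum_nonneg fun l (_ : l ∈ Finset.univ) => (z.2.2.1 l).1
      omega
  | succ R =>
    have h : (R + 1 + 3).choose 4 = (Finset.univ.finsuppAntidiag R : Finset (Fin 5 →₀ ℕ)).card := by
      rw [Finset.card_finsuppAntidiag_nat_eq_multichoose, Nat.multichoose_eq, Finset.card_univ, Fintype.card_fin,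
        show 5 + R - 1 = R + 4 by omega]
      exact Nat.choose_symm_of_eq_add (by omega)
    rw [h, ← Nat.card_eq_finsetCard]
    let α' : (Fin 5 →₀ ℕ) → (Fin 3 → ℤ) := fun v l =>
      if l = i then -1 - (v 3 : ℤ) - v 4 else if l = i + 1 then (v 3 : ℤ) else (v 4 : ℤ)
    let γ' : (Fin 5 →₀ ℕ) → (Fin 3 → ℤ) := fun v l =>
      if l = i then (v 0 : ℤ) else if l = i + 1 then (v 1 : ℤ) + v 3 else (v 2 : ℤ) + v 4
    have h12 : i + 2 ≠ i + 1 := (fin3_facts i).1
    refine Nat.card_congr
      { toFun := fun z => ⟨Finsupp.equivFunOnFinite.symm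
          ![(z.2.1 i).toNat, (z.2.1 (i + 1) - z.1.1 (i + 1)).toNat, (z.2.1 (i + 2) - z.1.1 (i + 2)).toNat,
            (z.1.1 (i + 1)).toNat, (z.1.1 (i + 2)).toNat], ?_⟩
        invFun := fun v => ⟨⟨α' v.1, ?_, ?_⟩, ⟨γ' v.1, ?_, ?_⟩⟩
        left_inv := ?_
        right_inv := ?_ }
    · rw [Finset.mem_finsuppAntidiag]
      refine ⟨?_, Finset.subset_univ _⟩
      have hs := z.2.2.2
      rw [sum_rot _ i] at hs
      have := z.2.2.1 i; have := z.2.2.1 (i + 1); have := z.2.2.1 (i + 2)
      have p1 : ¬ z.1.1 (i + 1) < 0 := fun hh => hi1 ((z.1.2.1 _).1 hh)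
      have p2 : ¬ z.1.1 (i + 2) < 0 := fun hh => hi2 ((z.1.2.1 _).1 hh)
      simp [Fin.sum_univ_five]
      push_cast at hs
      omega
    · intro l
      simp only [α', Set.mem_singleton_iff]
      split_ifs with h h'
      · exact ⟨fun _ => h, fun _ => by omega⟩
      · exact ⟨fun hh => by omega, fun hh => absurd hh h⟩
      · exact ⟨fun hh => by omega, fun hh => absurd hh h⟩
    · rw [sum_rot _ i]
      simp [α', hi1, hi2, h12]
      omega
    · intro l
      simp only [α', γ']
      split_ifs <;> omega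
    · have h2 := (Finset.mem_finsuppAntidiag.1 v.2).1
      rw [Fin.sum_univ_five] at h2
      rw [sum_rot _ i]
      simp [γ', hi1, hi2, h12]
      omega
    · rintro ⟨⟨α, hα⟩, ⟨γ, hγ⟩⟩
      have p1 : ¬ α (i + 1) < 0 := fun hh => hi1 ((hα.1 _).1 hh)
      have p2 : ¬ α (i + 2) < 0 := fun hh => hi2 ((hα.1 _).1 hh)
      have hs := hα.2
      rw [sum_rot _ i] at hs
      have g0 := hγ.1 i; have g1 := hγ.1 (i + 1); have g2 := hγ.1 (i + 2)
      dsimp only at g0 g1 g2
      have ea : α' (Finsupp.equivFunOnFinite.symm ![(γ i).toNat, (γ (i + 1) - α (i + 1)).toNat,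
          (γ (i + 2) - α (i + 2)).toNat, (α (i + 1)).toNat, (α (i + 2)).toNat]) = α := by
        funext l
        have := fin3_third i l
        simp [α']
        split_ifs with h h'
        · subst h; omega
        · subst h'; omega
        · obtain rfl : l = i + 2 := by
            by_contra hh; exact h (this h' hh)
          omega
      have eg : γ' (Finsupp.equivFunOnFinite.symm ![(γ i).toNat, (γ (i + 1) - α (i + 1)).toNat,
          (γ (i + 2) - α (i + 2)).toNat, (α (i + 1)).toNat, (α (i + 2)).toNat]) = γ := by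
        funext l
        have := fin3_third i l
        simp [γ']
        split_ifs with h h'
        · subst h; omega
        · subst h'; omega
        · obtain rfl : l = i + 2 := by
            by_contra hh; exact h (this h' hh)
          omega
      refine Sigma.ext (Subtype.ext ea) ?_
      refine (Subtype.heq_iff_coe_eq (fun x => ?_)).2 eg
      dsimp only
      rw [ea]
    · intro v
      apply Subtype.ext
      ext l
      fin_cases l <;> simp [α', γ', hi1, hi2, h12]

theorem mPow_counts (r : ℕ) (i : Fin 3) :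
    Module.finrank k ↥(sigPiece (mPow k 3 r) {i}) = Nat.choose (r + 3) 4 ∧
      Module.finrank k ↥(sigPiece (mPow k 3 r) ({i}ᶜ : Set (Fin 3))) = Nat.choose (r + 2) 4 ∧
        Module.finrank k (Tgt (mPow k 3 r)) = Nat.choose (r + 2) 2 * Nat.choose (r + 1) 2 := by
  have hI := isMonomial_mPow (k := k) (n := 3) r
  have hd : Module.finrank k (MvPolynomial (Fin 3) k ⧸ mPow k 3 r) = (r + 2).choose 3 := by
    rw [mk_surj_std hI, card_std_mPow]
  have hc : ∀ j, Module.finrank k ↥(sigPiece (mPow k 3 r) ({j}ᶜ : Set (Fin 3))) = (r + 2).choose 4 := fun j => by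
    have h := sig_duality hI j
    rw [card_sig_mPow, hd] at h
    have : (r + 3).choose 4 = (r + 2).choose 3 + (r + 2).choose 4 := Nat.choose_succ_succ' (r + 2) 3
    omega
  refine ⟨card_sig_mPow r i, hc i, ?_⟩
  rw [card_all hI]
  simp only [card_sig_mPow, hc, Fin.sum_univ_three]
  have f4 : ∀ m, Nat.descFactorial m 4 = 24 * m.choose 4 := fun m => Nat.descFactorial_eq_factorial_mul_choose m 4
  have f2 : ∀ m, Nat.descFactorial m 2 = 2 * m.choose 2 := fun m => Nat.descFactorial_eq_factorial_mul_choose m 2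
  have a := f4 (r + 3)
  have b := f4 (r + 2)
  have c := f2 (r + 2)
  have d := f2 (r + 1)
  cases r with
  | zero => decide
  | succ s =>
    simp [Nat.descFactorial_succ] at a b c d
    nlinarith [a, b, c, d, mul_comm (Nat.choose (s + 1 + 2) 2) (Nat.choose (s + 1 + 1) 2)]

end Groth.HilbPn
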