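import Groth.Agent.HilbPn.Basic

/-! Sign patterns of the good components; powers of the irrelevant ideal. -/

set_option autoImplicit false

universe u

open MvPolynomial W4c1hilbpn

namespace Groth.HilbPn

attribute [local instance] Classical.propDecidable

variable {k : Type u} [Field k] {n : ℕ} {I : Ideal (MvPolynomial (Fin n) k)}

theorem not_all_nonneg (q : Cells I) : ¬ ∀ i, 0 ≤ q.1 i := fun h =>
  (mem_region.1 (rep q).2).2 ((mem_region.1 (rep q).2).1.mono fun i => by
    simp only [Pi.sub_apply]; linarith [h i])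

theorem not_all_neg (hn : 2 ≤ n) (hI : IsMonomial I) [Module.Finite k (MvPolynomial (Fin n) k ⧸ I)]
    (q : Cells I) : ¬ ∀ i, q.1 i < 0 := by
  intro hneg
  obtain ⟨N, hN⟩ := exists_bound hI
  let i0 : Fin n := ⟨0, by omega⟩
  let i1 : Fin n := ⟨1, by omega⟩
  have h01 : i1 ≠ i0 := fun h => by simp [i0, i1, Fin.ext_iff] at h
  let S : Set ℕ := {m | ∃ (γ : Fin n → ℤ) (h : γ ∈ region I q.1),
    (regGraph I q.1).Reachable ⟨γ, h⟩ (rep q) ∧ (γ i1).toNat = m}
  have hS : S.Nonempty := ⟨_, _, (rep q).2, SimpleGraph.Reachable.refl _, rfl⟩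
  obtain ⟨γ, hγ, hr, hm⟩ := Nat.sInf_mem hS
  obtain ⟨hin, hnot⟩ := mem_region.1 hγ
  have hγ0 : ∀ i, 0 ≤ γ i := good_of_reachable q hr
  -- first point of `Ĩ` on the line through `γ` in direction `i0`
  let up : ℕ → (Fin n → ℤ) := fun t j => γ j + if j = i0 then (t : ℤ) else 0
  have hex : ∃ t, InI I (up t) := by
    refine ⟨N, fun j => ?_, by_contra fun hh => ?_⟩
    · have := hγ0 j; simp only [up]; split_ifs <;> omega
    · have := hN _ i0 hh
      simp [up] at this
      have := hγ0 i0
      omega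
  let t0 := Nat.find hex
  have ht0 : InI I (up t0) := Nat.find_spec hex
  have ht0pos : 0 < t0 := Nat.pos_of_ne_zero fun h => hnot (by
    convert ht0 using 1; funext j; simp [up, h])
  set s : ℤ := t0 + q.1 i0 with hs
  let P : Fin n → ℤ := fun j => γ j + if j = i0 then max s 0 else 0
  have hPnot : ¬ InI I P := by
    by_cases hs0 : 0 ≤ s
    · have hlt : s.toNat < t0 := by have := hneg i0; omega
      convert Nat.find_min hex hlt using 2
      funext j; simp only [P, up]; split_ifs
      · omega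
      · rfl
    · convert hnot using 2
      funext j; simp only [P]; split_ifs <;> omega
  let lo : Fin n → ℤ := fun j => up t0 j + q.1 j
  have hlo : ∀ j, lo j ≤ P j := fun j => by
    have := hneg j
    simp only [lo, up, P]
    split_ifs with h
    · subst h; omega
    · omega
  have hbox : ∀ δ : Fin n → ℤ, (∀ j, lo j ≤ δ j) → (∀ j, δ j ≤ P j) → δ ∈ region I q.1 := fun δ h1 h2 =>
    mem_region.2 ⟨ht0.mono fun j => by have := h1 j; simp only [lo] at this; simp only [Pi.sub_apply]; omega,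
      fun h => hPnot (h.mono h2)⟩
  have hγP : ∀ j, γ j ≤ P j := fun j => by simp only [P]; split_ifs <;> omega
  have hseg : ∀ δ : Fin n → ℤ, (∀ j, γ j ≤ δ j) → (∀ j, δ j ≤ P j) → δ ∈ region I q.1 := fun δ h1 h2 =>
    mem_region.2 ⟨hin.mono fun j => by have := h1 j; simp only [Pi.sub_apply]; omega,
      fun h => hPnot (h.mono h2)⟩
  have hlast : (regGraph I q.1).Reachable ⟨lo, hbox lo (fun _ => le_rfl) hlo⟩ (rep q) :=
    (reachable_box hlo hbox).trans ((reachable_box hγP hseg).symm.trans hr)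
  have hlo0 := good_of_reachable q hlast i1
  have hmem : (lo i1).toNat ∈ S := ⟨lo, _, hlast, rfl⟩
  have hle := Nat.sInf_le hmem
  rw [← hm] at hle
  have := hneg i1
  simp only [lo, up, if_neg h01] at hle hlo0
  omega

theorem good_iff_finite (hn : 2 ≤ n) (hI : IsMonomial I) [Module.Finite k (MvPolynomial (Fin n) k ⧸ I)]
    (α : Fin n → ℤ) (C : (regGraph I α).ConnectedComponent) :
    C.supp.Finite ↔ ∀ x ∈ C.supp, ∀ i, 0 ≤ x.1 i := by
  constructor
  · intro hfin x hx i
    by_contra hneg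
    push Not at hneg
    obtain ⟨j, hj⟩ : ∃ j : Fin n, j ≠ i := by
      by_cases h : i = ⟨0, by omega⟩
      · exact ⟨⟨1, by omega⟩, by rw [h]; simp [Fin.ext_iff]⟩
      · exact ⟨⟨0, by omega⟩, fun hh => h hh.symm⟩
    let up : ℕ → (Fin n → ℤ) := fun t l => x.1 l + if l = j then (t : ℤ) else 0
    have hbox : ∀ t, ∀ δ : Fin n → ℤ, (∀ l, x.1 l ≤ δ l) → (∀ l, δ l ≤ up t l) → δ ∈ region I α := by
      intro t δ h1 h2
      refine mem_region.2 ⟨(mem_region.1 x.2).1.mono fun l => by have := h1 l; simp only [Pi.sub_apply]; omega,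
        not_inI_of_neg ⟨i, ?_⟩⟩
      have := h2 i
      simp only [up, if_neg (Ne.symm hj)] at this
      omega
    have hle : ∀ t l, x.1 l ≤ up t l := fun t l => by simp only [up]; split_ifs <;> omega
    let f : ℕ → region I α := fun t => ⟨up t, hbox t _ (hle t) fun _ => le_rfl⟩
    have hmem : ∀ t, f t ∈ C.supp := by
      intro t
      rw [SimpleGraph.ConnectedComponent.mem_supp_iff] at hx ⊢
      rw [← hx, SimpleGraph.ConnectedComponent.eq]
      exact (reachable_box (hle t) (hbox t)).symm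
    have hinj : Function.Injective f := fun a b h => by
      have := congrFun (congrArg Subtype.val h) j
      simp [f, up] at this
      omega
    exact Set.infinite_range_of_injective hinj (hfin.subset (by rintro _ ⟨t, rfl⟩; exact hmem t))
  · intro h
    refine Set.Finite.of_finite_image ((std_finite hI).subset ?_) Subtype.val_injective.injOn
    rintro _ ⟨x, hx, rfl⟩
    exact ⟨h x hx, (mem_region.1 x.2).2⟩

theorem finrank_tPiece_eq_nBddComp (hn : 2 ≤ n) (hI : IsMonomial I)
    [Module.Finite k (MvPolynomial (Fin n) k ⧸ I)] (α : Fin n → ℤ) :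
    Module.finrank k ↥(tPiece I α) = nBddComp I α := by
  rw [finrank_tPiece hI, nBddComp]
  exact Nat.card_congr (Equiv.subtypeEquivRight fun C => (good_iff_finite hn hI α C).symm)

/-- An isolated standard monomial yields a good component. -/
theorem cell_of_socle {γ : Fin n → ℤ} {β : Fin n →₀ ℕ} (hγ : γ ∈ Std I)
    (hsoc : ∀ i, InI I (γ + toZ (Finsupp.single i 1))) (hβ : β ∈ exps I)
    (hmin : ∀ i, 0 < β i → β - Finsupp.single i 1 ∉ exps I) :
    ∃ q : Cells I, q.1 = γ - toZ β := by
  have hmem : γ ∈ region I (γ - toZ β) := mem_region.2 ⟨by rw [sub_sub_cancel]; exact inI_toZ.2 hβ, hγ.2⟩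
  have hiso : ∀ y : region I (γ - toZ β), ¬ (regGraph I (γ - toZ β)).Adj ⟨γ, hmem⟩ y := by
    intro y hadj
    obtain ⟨i, h | h⟩ := adj_cases hadj
    · exact (mem_region.1 y.2).2 (by rw [show y.1 = γ + toZ (Finsupp.single i 1) from h]; exact hsoc i)
    · have hy := (mem_region.1 y.2).1
      have he : y.1 - (γ - toZ β) = toZ β - toZ (Finsupp.single i 1) := by
        have : γ = y.1 + toZ (Finsupp.single i 1) := h
        funext j
        have := congrFun this j
        simp only [Pi.sub_apply, Pi.add_apply] at this ⊢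
        omega
      rw [he] at hy
      have h0 := hy.1 i
      simp [toZ] at h0
      refine hmin i (by omega) ?_
      convert hy.2 using 1
      ext j
      simp [toZ, Int.toNat_sub'']
  let C := (regGraph I (γ - toZ β)).connectedComponentMk ⟨γ, hmem⟩
  refine ⟨⟨γ - toZ β, C, fun x hx i => ?_⟩, rfl⟩
  rw [SimpleGraph.ConnectedComponent.mem_supp_iff, SimpleGraph.ConnectedComponent.eq] at hx
  obtain ⟨w⟩ := hx.symm
  cases w with
  | nil => exact hγ.1 i
  | cons h _ => exact absurd h (hiso _)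

/-- A standard monomial lies below a socle monomial. -/
theorem exists_socle (hI : IsMonomial I) [Module.Finite k (MvPolynomial (Fin n) k ⧸ I)] {γ : Fin n → ℤ}
    (hγ : γ ∈ Std I) : ∃ δ ∈ Std I, (∀ i, γ i ≤ δ i) ∧ ∀ i, InI I (δ + toZ (Finsupp.single i 1)) := by
  obtain ⟨δ, hle, hmax⟩ := (std_finite hI).exists_le_maximal hγ
  refine ⟨δ, hmax.1, hle, fun i => by_contra fun hnot => ?_⟩
  have hup : ∀ j, δ j ≤ (δ + toZ (Finsupp.single i 1) : Fin n → ℤ) j := fun j => by
    have := toZ_nonneg (Finsupp.single i 1) j; simp only [Pi.add_apply]; omega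
  have := hmax.2 (show (δ + toZ (Finsupp.single i 1) : Fin n → ℤ) ∈ Std I from
    ⟨fun j => (hmax.1.1 j).trans (hup j), hnot⟩) hup i
  simp [toZ] at this

theorem sigPiece_eq (N : Set (Fin n)) :
    sigPiece I N = ⨆ α : {α : Fin n → ℤ // ∀ i, α i < 0 ↔ i ∈ N}, tPiece I α.1 := rfl

theorem sigPiece_ne_bot (hI : IsMonomial I) [Module.Finite k (MvPolynomial (Fin n) k ⧸ I)] {N : Set (Fin n)}
    (q : Cells I) (hq : ∀ i, q.1 i < 0 ↔ i ∈ N) : sigPiece I N ≠ ⊥ := fun h =>
  (iSup_eq_bot_iff hI (fun α => ∀ i, α i < 0 ↔ i ∈ N)).1 h q hq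

end Groth.HilbPn
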