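import Groth.Agent.Misc7.DetVanish
import Groth.Agent.GenericFree.Presentation
import Mathlib

/-! The locus where a finite module becomes projective of given rank, and, for the graded pieces of
a finitely generated graded module, finiteness of the conditions defining the Hilbert-function stratum. -/

set_option autoImplicit false
set_option linter.style.haveILetI false

universe u

open TensorProduct

namespace Groth.HilbPn.RankStratum

variable {A : Type u} [CommRing A] {M : Type u} [AddCommGroup M] [Module A M] {q : ℕ} (x : Fin q → M)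

/-- The rows indexed by `S` are relations among the `x j`. -/
def RelRows (a : Matrix (Fin q) (Fin q) A) (S : Finset (Fin q)) : Prop :=
  ∀ i ∈ S, ∑ j, a i j • x j = 0

variable (A) in
/-- Cuts out the locus where the rank is at least `r`. -/
def closedIdeal (r : ℕ) : Ideal A :=
  Ideal.span {d | ∃ a S, RelRows x a S ∧ q < S.card + r ∧ d = a.det}

variable (A) in
/-- Cuts out the complement of the locus where the rank is at most `r`. -/
def openIdeal (r : ℕ) : Ideal A :=
  Ideal.span {d | ∃ a S, RelRows x a S ∧ q ≤ S.card + r ∧ d = a.det}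

theorem openIdeal_le_closedIdeal {n r : ℕ} (h : n < r) : openIdeal A x n ≤ closedIdeal A x r :=
  Ideal.span_mono fun _ ⟨a, S, ha, hS, hd⟩ => ⟨a, S, ha, by omega, hd⟩

variable (B : Type u) [CommRing B] [Algebra A B]

variable (A) in
/-- The presentation of `B ⊗ M`. -/
noncomputable abbrev piB : (Fin q → B) →ₗ[B] B ⊗[A] M :=
  Fintype.linearCombination B fun j => (1 : B) ⊗ₜ[A] x j

variable {x B}

theorem piB_algebraMap (v : Fin q → A) :
    piB A x B (fun j => algebraMap A B (v j)) = (1 : B) ⊗ₜ[A] ∑ j, v j • x j := by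
  rw [Fintype.linearCombination_apply, tmul_sum]
  exact Finset.sum_congr rfl fun j _ => by rw [tmul_smul, algebraMap_smul]

theorem piB_surjective (hx : Submodule.span A (Set.range x) = ⊤) : Function.Surjective (piB A x B) := by
  intro y
  induction y using TensorProduct.induction_on with
  | zero => exact ⟨0, map_zero _⟩
  | tmul c m =>
    obtain ⟨v, rfl⟩ := (Submodule.mem_span_range_iff_exists_fun A).1 (hx ▸ Submodule.mem_top : m ∈ _)
    exact ⟨c • fun j => algebraMap A B (v j), by rw [map_smul, piB_algebraMap, smul_tmul', smul_eq_mul, mul_one]⟩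
  | add y z hy hz =>
    obtain ⟨v, rfl⟩ := hy
    obtain ⟨w, rfl⟩ := hz
    exact ⟨v + w, map_add _ _ _⟩

/-- The kernel of `piB` is spanned by the relations. -/
theorem ker_piB_le (hx : Submodule.span A (Set.range x) = ⊤) :
    LinearMap.ker (piB A x B) ≤
      Submodule.span B ((fun v : Fin q → A => fun j => algebraMap A B (v j)) '' {v | ∑ j, v j • x j = 0}) := by
  set K := Submodule.span B ((fun v : Fin q → A => fun j => algebraMap A B (v j)) '' {v | ∑ j, v j • x j = 0})
  let π := Fintype.linearCombination A x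
  have hπ : Function.Surjective π := by
    rw [← LinearMap.range_eq_top, Fintype.range_linearCombination, hx]
  let ι : (Fin q → A) →ₗ[A] ((Fin q → B) ⧸ K) :=
    (K.mkQ.restrictScalars A) ∘ₗ LinearMap.compLeft (Algebra.linearMap A B) (Fin q)
  have hι : LinearMap.ker π ≤ LinearMap.ker ι := fun v hv => by
    rw [LinearMap.mem_ker]
    refine (Submodule.Quotient.mk_eq_zero K).2 (Submodule.subset_span ⟨v, ?_, rfl⟩)
    simpa [π, Fintype.linearCombination_apply] using hv
  let θ : M →ₗ[A] ((Fin q → B) ⧸ K) :=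
    (LinearMap.ker π).liftQ ι hι ∘ₗ (π.quotKerEquivOfSurjective hπ).symm.toLinearMap
  have hθ : ∀ v, θ (π v) = ι v := fun v => by
    show (LinearMap.ker π).liftQ ι hι ((π.quotKerEquivOfSurjective hπ).symm (π v)) = _
    rw [show (π.quotKerEquivOfSurjective hπ).symm (π v) = Submodule.Quotient.mk v from
      (LinearEquiv.symm_apply_eq _).2 rfl, Submodule.liftQ_apply]
  have hcomp : (θ.liftBaseChange B).comp (piB A x B) = K.mkQ := by
    refine (Pi.basisFun B (Fin q)).ext fun j => ?_
    rw [Pi.basisFun_apply, LinearMap.comp_apply, Fintype.linearCombination_apply_single, one_smul,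
      LinearMap.liftBaseChange_tmul, one_smul]
    have hxj : x j = π (Pi.single j 1) := by simp [π]
    rw [hxj, hθ]
    show Submodule.Quotient.mk (fun l => algebraMap A B ((Pi.single j 1 : Fin q → A) l)) = _
    congr 1
    funext l
    rcases eq_or_ne l j with rfl | hl
    · simp
    · simp [Pi.single_eq_of_ne hl]
  intro v hv
  have h := LinearMap.congr_fun hcomp v
  rw [LinearMap.comp_apply, LinearMap.mem_ker.1 hv, map_zero] at h
  exact (Submodule.Quotient.mk_eq_zero K).1 h.symm

theorem map_closedIdeal_eq_bot (hx : Submodule.span A (Set.range x) = ⊤) {r : ℕ}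
    [Module.Finite B (B ⊗[A] M)] [Module.Projective B (B ⊗[A] M)]
    (hr : ∀ p : PrimeSpectrum B, Module.rankAtStalk (B ⊗[A] M) p = r) :
    (closedIdeal A x r).map (algebraMap A B) = ⊥ := by
  rw [eq_bot_iff, closedIdeal, Ideal.map_span, Ideal.span_le]
  rintro _ ⟨_, ⟨a, S, ha, hS, rfl⟩, rfl⟩
  rw [SetLike.mem_coe, Ideal.mem_bot, RingHom.map_det]
  refine Groth.Misc7.DetVanish.det_eq_zero_of_rows r hr (piB A x B) (piB_surjective hx) _ S (fun i hi => ?_) hS
  exact (piB_algebraMap (a i)).trans (by rw [ha i hi, tmul_zero])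

theorem map_openIdeal_ne_bot_of_field (hx : Submodule.span A (Set.range x) = ⊤)
    (K : Type u) [Field K] [Algebra A K] {r : ℕ} (hr : Module.finrank K (K ⊗[A] M) = r) :
    (openIdeal A x r).map (algebraMap A K) ≠ ⊥ := by
  classical
  set R : Set (Fin q → K) :=
    (fun v : Fin q → A => fun j => algebraMap A K (v j)) '' {v | ∑ j, v j • x j = 0}
  have hker : Submodule.span K R = LinearMap.ker (piB A x K) := by
    refine le_antisymm (Submodule.span_le.2 ?_) (ker_piB_le hx)
    rintro _ ⟨v, hv, rfl⟩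
    exact LinearMap.mem_ker.2 ((piB_algebraMap v).trans (by rw [show ∑ j, v j • x j = 0 from hv, tmul_zero]))
  have hdim : Module.finrank K (Submodule.span K R) + r = q := by
    have := (piB A x K).finrank_range_add_finrank_ker
    rw [LinearMap.range_eq_top.2 (piB_surjective hx), finrank_top, hr, Module.finrank_fin_fun, ← hker] at this
    omega
  obtain ⟨b, hbR, hspan, hbli⟩ := exists_linearIndependent K R
  have hbR' : b ⊆ R ∪ Set.range (Pi.basisFun K (Fin q)) := hbR.trans Set.subset_union_left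
  let T := (show LinearIndepOn K id b from hbli).extend hbR'
  have hTli : LinearIndepOn K id T := LinearIndepOn.linearIndepOn_extend _ hbR'
  have hTspan : Submodule.span K T = ⊤ := by
    rw [eq_top_iff, ← (Pi.basisFun K (Fin q)).span_eq, Submodule.span_le]
    exact fun v hv => LinearIndepOn.subset_span_extend (show LinearIndepOn K id b from hbli) hbR' (Or.inr hv)
  let BT : Module.Basis T K (Fin q → K) := Module.Basis.mk hTli (by simp [hTspan])
  let e : T ≃ Fin q := BT.indexEquiv (Pi.basisFun K (Fin q))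
  haveI : Fintype T := Fintype.ofEquiv _ e.symm
  have hsubR : T ⊆ R ∪ Set.range (Pi.basisFun K (Fin q)) :=
    LinearIndepOn.extend_subset _ _
  have hint : ∀ i : Fin q, ∃ v : Fin q → A, (fun j => algebraMap A K (v j)) = BT (e.symm i) ∧
      ((e.symm i : Fin q → K) ∈ R → ∑ j, v j • x j = 0) := by
    intro i
    have hT : BT (e.symm i) = (e.symm i : Fin q → K) := Module.Basis.mk_apply _ _ _
    by_cases h : (e.symm i : Fin q → K) ∈ R
    · obtain ⟨v, hv, hv'⟩ := h
      exact ⟨v, hv'.trans hT.symm, fun _ => hv⟩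
    · obtain ⟨j, hj⟩ := (hsubR (e.symm i).2).resolve_left h
      refine ⟨Pi.single j 1, ?_, fun h' => absurd h' h⟩
      rw [hT, ← hj, Pi.basisFun_apply]
      funext l
      rcases eq_or_ne l j with rfl | hl
      · simp
      · simp [Pi.single_eq_of_ne hl]
  choose v hv hvR using hint
  let a : Matrix (Fin q) (Fin q) A := Matrix.of v
  let S : Finset (Fin q) := Finset.univ.filter fun i => (e.symm i : Fin q → K) ∈ R
  have hbT : b ⊆ T := LinearIndepOn.subset_extend _ _
  have hcard : q ≤ S.card + r := by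
    haveI : Fintype b := ((Set.toFinite T).subset hbT).fintype
    have hb : Module.finrank K (Submodule.span K R) = Fintype.card b := by
      rw [← hspan]
      have := finrank_span_eq_card (show LinearIndependent K ((↑) : b → (Fin q → K)) from hbli)
      rwa [Subtype.range_coe] at this
    have hle : Fintype.card b ≤ S.card := by
      refine Finset.card_le_card_of_injOn (s := (Finset.univ : Finset b)) (fun w => e ⟨w.1, hbT w.2⟩)
        (fun w _ => ?_) (fun w _ w' _ hw => Subtype.ext (congrArg (fun z : T => (z : Fin q → K)) (e.injective hw)))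
      simp only [S, Finset.coe_filter, Finset.mem_univ, true_and, Set.mem_ofPred_eq, Equiv.symm_apply_apply]
      exact hbR w.2
    omega
  intro h
  have hdet : algebraMap A K a.det = 0 := by
    have hm : algebraMap A K a.det ∈ (openIdeal A x r).map (algebraMap A K) :=
      Ideal.mem_map_of_mem _ (Ideal.subset_span
        ⟨a, S, fun i hi => hvR i (Finset.mem_filter.1 hi).2, hcard, rfl⟩)
    rwa [h, Ideal.mem_bot] at hm
  have hu := ((Pi.basisFun K (Fin q)).is_basis_iff_det (v := BT.reindex e)).1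
    ⟨(BT.reindex e).linearIndependent, (BT.reindex e).span_eq⟩
  refine hu.ne_zero ?_
  rw [Module.Basis.det_apply, ← hdet, RingHom.map_det, ← Matrix.det_transpose]
  congr 1
  ext i j
  show (Pi.basisFun K (Fin q)).repr (BT.reindex e i) j = algebraMap A K (v i j)
  rw [Pi.basisFun_repr, Module.Basis.reindex_apply, ← hv]

theorem map_openIdeal_eq_top (hx : Submodule.span A (Set.range x) = ⊤) {r : ℕ}
    [Module.Finite B (B ⊗[A] M)] [Module.Projective B (B ⊗[A] M)]
    (hr : ∀ p : PrimeSpectrum B, Module.rankAtStalk (B ⊗[A] M) p = r) :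
    (openIdeal A x r).map (algebraMap A B) = ⊤ := by
  by_contra h
  obtain ⟨P, hP, hle⟩ := Ideal.exists_le_maximal _ h
  letI := Ideal.Quotient.field P
  haveI : IsScalarTower A B (B ⧸ P) := inferInstance
  refine map_openIdeal_ne_bot_of_field hx (B ⧸ P) ?_ ?_ (r := r)
  · rw [← (AlgebraTensorModule.cancelBaseChange A B (B ⧸ P) (B ⧸ P) M).finrank_eq]
    have h1 := congrFun (Module.rankAtStalk_eq_finrank_of_free (R := B ⧸ P) (M := (B ⧸ P) ⊗[B] (B ⊗[A] M)))
      ⟨⊥, Ideal.isPrime_bot⟩
    rw [Module.rankAtStalk_baseChange, hr] at h1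
    exact h1.symm
  · rw [IsScalarTower.algebraMap_eq A B (B ⧸ P), ← Ideal.map_map, eq_bot_iff]
    exact (Ideal.map_mono hle).trans (le_of_eq (Ideal.map_quotient_self P))

theorem vecMul_eq_smul_sum {L : Type u} [CommRing L] {n : ℕ} (c : Fin n → L) (a : Matrix (Fin n) (Fin n) L) :
    Matrix.vecMul c a = ∑ i, c i • a i := by
  funext j
  simp [Matrix.vecMul, dotProduct]

theorem free_of_local (hx : Submodule.span A (Set.range x) = ⊤) (L : Type u) [CommRing L] [IsLocalRing L]
    [Algebra A L] {r : ℕ} (hF : (closedIdeal A x r).map (algebraMap A L) = ⊥)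
    (hG : (openIdeal A x r).map (algebraMap A L) = ⊤) :
    Module.Free L (L ⊗[A] M) ∧ Module.finrank L (L ⊗[A] M) = r := by
  classical
  obtain ⟨a, S, ha, hS, hu⟩ : ∃ a S, RelRows x a S ∧ q ≤ S.card + r ∧ IsUnit (algebraMap A L a.det) := by
    by_contra hc
    push Not at hc
    refine (IsLocalRing.maximalIdeal.isMaximal L).ne_top (top_le_iff.1 (hG ▸ ?_))
    rw [openIdeal, Ideal.map_span, Ideal.span_le]
    rintro _ ⟨_, ⟨a, S, ha, hS, rfl⟩, rfl⟩
    exact (IsLocalRing.mem_maximalIdeal _).2 (hc a S ha hS)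
  have hzero : ∀ a' S', RelRows x a' S' → q < S'.card + r → algebraMap A L a'.det = 0 := fun a' S' h h' => by
    have hm : algebraMap A L a'.det ∈ (closedIdeal A x r).map (algebraMap A L) :=
      Ideal.mem_map_of_mem _ (Ideal.subset_span ⟨a', S', h, h', rfl⟩)
    rwa [hF, Ideal.mem_bot] at hm
  have hcard : S.card + r = q := by
    by_contra hne
    exact hu.ne_zero (hzero a S ha (by omega))
  set aL : Matrix (Fin q) (Fin q) L := a.map (algebraMap A L)
  have hdet : IsUnit aL.det := by
    rw [RingHom.map_det] at hu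
    exact hu
  have hrows : ∀ c : Fin q → L, piB A x L (Matrix.vecMul c aL) = ∑ i, c i • piB A x L (aL i) := fun c => by
    rw [vecMul_eq_smul_sum c aL, map_sum]
    exact Finset.sum_congr rfl fun i _ => map_smul _ _ _
  let g : Fin q → L ⊗[A] M := fun i => piB A x L (aL i)
  have hg0 : ∀ i ∈ S, g i = 0 := fun i hi => (piB_algebraMap (a i)).trans (by rw [ha i hi, tmul_zero])
  let ψ : ((Sᶜ : Finset (Fin q)) → L) →ₗ[L] L ⊗[A] M := Fintype.linearCombination L fun i => g i.1
  have hψs : Function.Surjective ψ := fun y => by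
    obtain ⟨v, rfl⟩ := piB_surjective hx y
    refine ⟨fun i => Matrix.vecMul v aL⁻¹ i.1, ?_⟩
    conv_rhs => rw [← Matrix.vecMul_one v, ← Matrix.nonsing_inv_mul aL hdet, ← Matrix.vecMul_vecMul, hrows,
      ← Finset.sum_compl_add_sum S, Finset.sum_eq_zero (s := S) (fun i hi => by
        rw [show piB A x L (aL i) = 0 from hg0 i hi, smul_zero]), add_zero, ← Finset.sum_attach]
    rw [Fintype.linearCombination_apply, Finset.univ_eq_attach]
  have hψi : Function.Injective ψ := by
    rw [injective_iff_map_eq_zero]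
    intro c hc
    funext i0
    let cf : Fin q → L := fun i => if h : i ∈ Sᶜ then c ⟨i, h⟩ else 0
    have hcf : piB A x L (Matrix.vecMul cf aL) = 0 := by
      rw [hrows, ← Finset.sum_compl_add_sum S,
        Finset.sum_eq_zero (s := S) (fun i hi => by
          rw [show piB A x L (aL i) = 0 from hg0 i hi, smul_zero]),
        add_zero, ← Finset.sum_attach, ← hc, Fintype.linearCombination_apply, Finset.univ_eq_attach]
      exact Finset.sum_congr rfl fun i _ => by simp only [cf, dif_pos i.2]; rfl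
    have key : ∀ w ∈ LinearMap.ker (piB A x L), Matrix.vecMul w aL⁻¹ i0.1 = 0 := by
      intro w hw
      have hw' := ker_piB_le hx hw
      clear hw
      induction hw' using Submodule.span_induction with
      | mem w hw =>
        obtain ⟨v, hv, rfl⟩ := hw
        have hi0 : i0.1 ∉ S := Finset.mem_compl.1 i0.2
        have h1 := hzero (a.updateRow i0.1 v) (insert i0.1 S) (fun i hi => by
          rcases Finset.mem_insert.1 hi with rfl | hi
          · simpa [Matrix.updateRow_self] using hv
          · rw [Matrix.updateRow_ne (fun h : i = i0.1 => hi0 (by rw [← h]; exact hi))]; exact ha i hi)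
          (by rw [Finset.card_insert_of_notMem hi0]; omega)
        rw [RingHom.map_det, RingHom.mapMatrix_apply, Matrix.map_updateRow] at h1
        have h2 : (algebraMap A L) ∘ v = ∑ k, Matrix.vecMul (fun j => algebraMap A L (v j)) aL⁻¹ k • aL k := by
          rw [← vecMul_eq_smul_sum, Matrix.vecMul_vecMul, Matrix.nonsing_inv_mul aL hdet, Matrix.vecMul_one]
          rfl
        rw [h2, Matrix.det_updateRow_sum, smul_eq_mul] at h1
        exact (hdet.mul_left_eq_zero).1 h1
      | zero => simp
      | add w w' _ _ h1 h2 => rw [Matrix.add_vecMul, Pi.add_apply, h1, h2, add_zero]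
      | smul t w _ h => rw [Matrix.smul_vecMul, Pi.smul_apply, h, smul_zero]
    have := key _ (LinearMap.mem_ker.2 hcf)
    rw [Matrix.vecMul_vecMul, Matrix.mul_nonsing_inv aL hdet, Matrix.vecMul_one] at this
    simpa [cf, Finset.mem_compl.1 i0.2] using this
  let E := LinearEquiv.ofBijective ψ ⟨hψi, hψs⟩
  refine ⟨Module.Free.of_equiv E, ?_⟩
  rw [← E.finrank_eq, Module.finrank_fintype_fun_eq_card, Fintype.card_coe, Finset.card_compl, Fintype.card_fin]
  omega

theorem projective_of_ideals [IsNoetherianRing A] [Module.Finite A M]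
    (hx : Submodule.span A (Set.range x) = ⊤) {r : ℕ}
    (hF : (closedIdeal A x r).map (algebraMap A B) = ⊥) (hG : (openIdeal A x r).map (algebraMap A B) = ⊤) :
    Module.Finite B (B ⊗[A] M) ∧ Module.Projective B (B ⊗[A] M) ∧
      ∀ p : PrimeSpectrum B, Module.rankAtStalk (B ⊗[A] M) p = r := by
  haveI : Module.FinitePresentation A M := Module.finitePresentation_of_finite A M
  have key : ∀ p : Ideal B, ∀ _ : p.IsPrime,
      Module.Free (Localization.AtPrime p) (Localization.AtPrime p ⊗[B] (B ⊗[A] M)) ∧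
        Module.finrank (Localization.AtPrime p) (Localization.AtPrime p ⊗[B] (B ⊗[A] M)) = r := by
    intro p hp
    have h1 := free_of_local hx (Localization.AtPrime p) (r := r)
      (by rw [IsScalarTower.algebraMap_eq A B (Localization.AtPrime p), ← Ideal.map_map, hF, Ideal.map_bot])
      (by rw [IsScalarTower.algebraMap_eq A B (Localization.AtPrime p), ← Ideal.map_map, hG, Ideal.map_top])
    let e := AlgebraTensorModule.cancelBaseChange A B (Localization.AtPrime p) (Localization.AtPrime p) M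
    haveI := h1.1
    exact ⟨Module.Free.of_equiv e.symm, e.finrank_eq.trans h1.2⟩
  haveI : Module.Projective B (B ⊗[A] M) :=
    Module.projective_of_localization_maximal fun m hm => by
      haveI := (key m hm.isPrime).1
      haveI : Module.Free (Localization.AtPrime m) (LocalizedModule m.primeCompl (B ⊗[A] M)) :=
        Module.Free.of_equiv (LocalizedModule.equivTensorProduct m.primeCompl (B ⊗[A] M)).symm
      infer_instance
  refine ⟨inferInstance, inferInstance, fun p => ?_⟩
  rw [Module.rankAtStalk_eq_finrank_tensorProduct]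
  exact (key p.asIdeal p.isPrime).2

theorem le_rad_of_eq_top {I : Ideal A} {f : A} {q0 p : Ideal A} [p.IsPrime] (hqp : q0 ≤ p)
    (h : I.map ((algebraMap (A ⧸ q0) (Localization.Away (Ideal.Quotient.mk q0 f))).comp (Ideal.Quotient.mk q0)) = ⊤)
    (hf : f ∉ p) : ¬ I ≤ p := by
  intro hI
  rw [← Ideal.map_map] at h
  obtain ⟨⟨⟨y, hy⟩, s, n, hn⟩, hz⟩ := (IsLocalization.mem_map_algebraMap_iff
    (Submonoid.powers (Ideal.Quotient.mk q0 f)) (Localization.Away (Ideal.Quotient.mk q0 f))).1
    (h ▸ Submodule.mem_top : (1 : Localization.Away (Ideal.Quotient.mk q0 f)) ∈ _)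
  simp only [one_mul] at hz
  obtain ⟨⟨c, k, hk⟩, hc⟩ := (IsLocalization.eq_iff_exists (Submonoid.powers (Ideal.Quotient.mk q0 f)) _).1 hz
  simp only at hk hn hc
  have hm : Ideal.Quotient.mk q0 (f ^ (k + n)) ∈ I.map (Ideal.Quotient.mk q0) := by
    rw [map_pow, pow_add, hk, hn, hc]
    exact Ideal.mul_mem_left _ _ hy
  have hpp : (I.map (Ideal.Quotient.mk q0)).comap (Ideal.Quotient.mk q0) ≤ p := by
    rw [Ideal.comap_map_of_surjective _ Ideal.Quotient.mk_surjective, ← RingHom.ker_eq_comap_bot, Ideal.mk_ker]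
    exact sup_le hI hqp
  exact hf (Ideal.IsPrime.mem_of_pow_mem inferInstance _ (hpp hm))

/-! ### Graded families -/

section Family

variable (R : Type u) [CommRing R] [Algebra A R] [Algebra.FiniteType A R]
  (N : Type u) [AddCommGroup N] [Module A N] [Module R N] [IsScalarTower A R N] [Module.Finite R N]

include R in
/-- Generic freeness after reduction modulo a prime. -/
theorem exists_free_tensor (q0 : Ideal A) [q0.IsPrime] :
    ∃ f : A, f ∉ q0 ∧ Module.Free (Localization.Away (Ideal.Quotient.mk q0 f))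
      (Localization.Away (Ideal.Quotient.mk q0 f) ⊗[A ⧸ q0] ((A ⧸ q0) ⊗[A] N)) := by
  let act : (A ⧸ q0) ⊗[A] R →ₐ[A ⧸ q0] Module.End (A ⧸ q0) ((A ⧸ q0) ⊗[A] N) :=
    (LinearMap.tensorProductEnd A (A ⧸ q0) N).comp
      (Algebra.TensorProduct.map (AlgHom.id (A ⧸ q0) (A ⧸ q0)) (Algebra.lsmul A A N))
  letI : Module ((A ⧸ q0) ⊗[A] R) ((A ⧸ q0) ⊗[A] N) := Module.compHom _ act.toRingHom
  haveI : IsScalarTower (A ⧸ q0) ((A ⧸ q0) ⊗[A] R) ((A ⧸ q0) ⊗[A] N) :=
    IsScalarTower.of_algebraMap_smul (R := A ⧸ q0) (A := (A ⧸ q0) ⊗[A] R) (M := (A ⧸ q0) ⊗[A] N) fun c y => by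
      show act (algebraMap _ _ c) y = c • y
      rw [AlgHom.commutes]
      rfl
  have hact : ∀ (r : R) (c : A ⧸ q0) (m : N),
      ((1 : A ⧸ q0) ⊗ₜ[A] r : (A ⧸ q0) ⊗[A] R) • (c ⊗ₜ[A] m) = c ⊗ₜ[A] (r • m) := fun r c m => by
    show act ((1 : A ⧸ q0) ⊗ₜ[A] r) (c ⊗ₜ[A] m) = _
    simp [act, TensorProduct.liftAux_tmul]
  haveI : Module.Finite ((A ⧸ q0) ⊗[A] R) ((A ⧸ q0) ⊗[A] N) := by
    classical
    obtain ⟨s, hs⟩ := (Module.Finite.fg_top : (⊤ : Submodule R N).FG)
    refine ⟨⟨s.image fun m => (1 : A ⧸ q0) ⊗ₜ[A] m, eq_top_iff.2 ?_⟩⟩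
    rintro y -
    induction y using TensorProduct.induction_on with
    | zero => exact zero_mem _
    | tmul c m =>
      have hm : m ∈ Submodule.span R (s : Set N) := hs ▸ Submodule.mem_top
      induction hm using Submodule.span_induction generalizing c with
      | mem m hm =>
        rw [show c ⊗ₜ[A] m = c • ((1 : A ⧸ q0) ⊗ₜ[A] m) by rw [smul_tmul', smul_eq_mul, mul_one],
          ← algebraMap_smul ((A ⧸ q0) ⊗[A] R) c]
        exact Submodule.smul_mem _ _ (Submodule.subset_span (Finset.mem_image_of_mem _ hm))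
      | zero => rw [tmul_zero]; exact zero_mem _
      | add m m' _ _ h h' => rw [tmul_add]; exact add_mem (h c) (h' c)
      | smul r m _ h => rw [← hact]; exact Submodule.smul_mem _ _ (h c)
    | add y z hy hz => exact add_mem hy hz
  haveI : Algebra.FiniteType (A ⧸ q0) ((A ⧸ q0) ⊗[A] R) := inferInstance
  obtain ⟨fb, hfb, hfree, -⟩ :=
    Groth.GenericFree.GF.exists_free (R := A ⧸ q0) (Groth.GenericFree.gf_of_finiteType (R := A ⧸ q0) ((A ⧸ q0) ⊗[A] R) ((A ⧸ q0) ⊗[A] N))
  obtain ⟨f, rfl⟩ := Ideal.Quotient.mk_surjective fb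
  refine ⟨f, fun hf => hfb (Ideal.Quotient.eq_zero_iff_mem.2 hf), ?_⟩
  haveI := hfree _ hfb dvd_rfl
  exact Module.Free.of_equiv (LocalizedModule.equivTensorProduct
    (Submonoid.powers (Ideal.Quotient.mk q0 f)) ((A ⧸ q0) ⊗[A] N))

variable [IsNoetherianRing A] {ι : Type} (ℳ : ι → Submodule A N) (pr : ∀ v, N →ₗ[A] ℳ v)
  (hpr : ∀ v (y : ℳ v), pr v y = y) [∀ v, Module.Finite A (ℳ v)] (h : ι → ℕ)
  {qn : ι → ℕ} (gen : ∀ v, Fin (qn v) → ℳ v) (hgen : ∀ v, Submodule.span A (Set.range (gen v)) = ⊤)

include R hpr hgen in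
/-- Near the generic point of an irreducible closed subset, the open conditions hold together. -/
theorem exists_notMem_of_generic (q0 : Ideal A) [q0.IsPrime]
    (hle : ∀ v, closedIdeal A (gen v) (h v) ≤ q0) (hG : ∀ v, ¬ openIdeal A (gen v) (h v) ≤ q0) :
    ∃ f : A, f ∉ q0 ∧ ∀ p : Ideal A, p.IsPrime → q0 ≤ p → f ∉ p → ∀ v, ¬ openIdeal A (gen v) (h v) ≤ p := by
  obtain ⟨f, hf, hfree⟩ := exists_free_tensor R N q0
  refine ⟨f, hf, fun p hp hqp hfp v => ?_⟩
  set B := Localization.Away (Ideal.Quotient.mk q0 f)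
  have hfb : Ideal.Quotient.mk q0 f ≠ 0 := fun h0 => hf (Ideal.Quotient.eq_zero_iff_mem.1 h0)
  have hpow : Submonoid.powers (Ideal.Quotient.mk q0 f) ≤ nonZeroDivisors (A ⧸ q0) :=
    powers_le_nonZeroDivisors_of_noZeroDivisors hfb
  haveI : IsDomain B := IsLocalization.isDomain_localization hpow
  haveI : Module.Free B (B ⊗[A] N) :=
    Module.Free.of_equiv (AlgebraTensorModule.cancelBaseChange A (A ⧸ q0) B B N)
  haveI : Module.Projective B (B ⊗[A] ℳ v) :=
    Module.Projective.of_split ((ℳ v).subtype.baseChange B) ((pr v).baseChange B) (by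
      rw [← LinearMap.baseChange_comp, show (pr v).comp (ℳ v).subtype = LinearMap.id from LinearMap.ext (hpr v),
        LinearMap.baseChange_id])
  haveI : Module.FinitePresentation A (ℳ v) := Module.finitePresentation_of_finite A _
  obtain ⟨n, hn⟩ : ∃ n, ∀ P : PrimeSpectrum B, Module.rankAtStalk (B ⊗[A] ℳ v) P = n :=
    ⟨Module.rankAtStalk (B ⊗[A] ℳ v) ⟨⊥, Ideal.isPrime_bot⟩, fun P =>
      (Module.isLocallyConstant_rankAtStalk (R := B) (M := B ⊗[A] ℳ v)).apply_eq_of_isPreconnected
        isPreconnected_univ trivial trivial⟩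
  have h1 := map_openIdeal_eq_top (B := B) (hgen v) hn
  have h0 := map_closedIdeal_eq_bot (B := B) (hgen v) hn
  have hzero : ∀ {I : Ideal A}, I.map (algebraMap A B) = ⊥ → I ≤ q0 := fun {I} hI y hy => by
    have hy' : algebraMap A B y = 0 := by
      rw [← Ideal.mem_bot, ← hI]; exact Ideal.mem_map_of_mem _ hy
    rw [IsScalarTower.algebraMap_apply A (A ⧸ q0) B] at hy'
    exact Ideal.Quotient.eq_zero_iff_mem.1 ((IsLocalization.to_map_eq_zero_iff B hpow).1 hy')
  have hnh : n = h v := by
    rcases lt_trichotomy n (h v) with hlt | heq | hgt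
    · have h2 : (openIdeal A (gen v) n).map (algebraMap A B) ≤ ⊥ := by
        refine (Ideal.map_mono ((openIdeal_le_closedIdeal _ hlt).trans (hle v))).trans ?_
        rw [IsScalarTower.algebraMap_eq A (A ⧸ q0) B, ← Ideal.map_map, show algebraMap A (A ⧸ q0) =
          Ideal.Quotient.mk q0 from rfl, Ideal.map_quotient_self, Ideal.map_bot]
      rw [h1, top_le_iff] at h2
      exact absurd h2 bot_ne_top
    · exact heq
    · exact absurd (hzero (le_bot_iff.1 ((Ideal.map_mono (openIdeal_le_closedIdeal _ hgt)).trans h0.le))) (hG v)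
  subst hnh
  rw [IsScalarTower.algebraMap_eq A (A ⧸ q0) B] at h1
  exact le_rad_of_eq_top hqp h1 hfp

include R hpr hgen in
/-- Finitely many of the open conditions imply all of them on the closed stratum. -/
theorem exists_finset (I : Ideal A) : (∀ v, closedIdeal A (gen v) (h v) ≤ I) →
    ∃ V : Finset ι, ∀ p : Ideal A, p.IsPrime → I ≤ p → (∀ v ∈ V, ¬ openIdeal A (gen v) (h v) ≤ p) →
      ∀ v, ¬ openIdeal A (gen v) (h v) ≤ p := by
  classical
  induction I using IsNoetherian.induction with
  | _ I IH =>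
    intro hI
    by_cases htop : I = ⊤
    · exact ⟨∅, fun p hp hle => absurd (top_le_iff.1 (htop ▸ hle)) hp.ne_top⟩
    by_cases hprime : Ideal.IsPrime I
    · by_cases hG : ∀ v, ¬ openIdeal A (gen v) (h v) ≤ I
      · obtain ⟨f, hf, hfall⟩ := exists_notMem_of_generic R N ℳ pr hpr h gen hgen I hI hG
        obtain ⟨V, hV⟩ := IH (I ⊔ Ideal.span {f})
          (lt_of_le_of_ne le_sup_left fun he => hf (he ▸ Ideal.mem_sup_right (Ideal.mem_span_singleton_self f)))
          (fun v => (hI v).trans le_sup_left)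
        refine ⟨V, fun p hp hle hall => ?_⟩
        by_cases hfp : f ∈ p
        · exact hV p hp (sup_le hle ((Ideal.span_singleton_le_iff_mem _).2 hfp)) hall
        · exact hfall p hp hle hfp
      · push Not at hG
        obtain ⟨v, hv⟩ := hG
        exact ⟨{v}, fun p hp hle hall => absurd (hv.trans hle) (hall v (Finset.mem_singleton_self v))⟩
    · obtain ⟨y, z, hyz, hy, hz⟩ : ∃ y z, y * z ∈ I ∧ y ∉ I ∧ z ∉ I := by
        by_contra hc
        push Not at hc
        exact hprime ⟨htop, fun {y z} hyz => (em (y ∈ I)).imp id fun hy => hc y z hyz hy⟩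
      have step : ∀ w, w ∉ I → ∃ V : Finset ι, ∀ p : Ideal A, p.IsPrime → I ⊔ Ideal.span {w} ≤ p →
          (∀ v ∈ V, ¬ openIdeal A (gen v) (h v) ≤ p) → ∀ v, ¬ openIdeal A (gen v) (h v) ≤ p := fun w hw =>
        IH (I ⊔ Ideal.span {w})
          (lt_of_le_of_ne le_sup_left fun he => hw (he ▸ Ideal.mem_sup_right (Ideal.mem_span_singleton_self w)))
          (fun v => (hI v).trans le_sup_left)
      obtain ⟨V, hV⟩ := step y hy
      obtain ⟨W, hW⟩ := step z hz
      refine ⟨V ∪ W, fun p hp hle hall => ?_⟩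
      rcases hp.mem_or_mem (hle hyz) with h' | h'
      · exact hV p hp (sup_le hle ((Ideal.span_singleton_le_iff_mem _).2 h')) fun v hv =>
          hall v (Finset.mem_union_left _ hv)
      · exact hW p hp (sup_le hle ((Ideal.span_singleton_le_iff_mem _).2 h')) fun v hv =>
          hall v (Finset.mem_union_right _ hv)

include R pr hpr in
/-- The Hilbert-function stratum is cut out by two ideals. -/
theorem exists_ideals :
    ∃ a b : Ideal A, ∀ (B : Type u) [CommRing B] [Algebra A B],
      ((∀ v, Module.Finite B (B ⊗[A] ↥(ℳ v)) ∧ Module.Projective B (B ⊗[A] ↥(ℳ v)) ∧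
          ∀ p : PrimeSpectrum B, Module.rankAtStalk (B ⊗[A] ↥(ℳ v)) p = h v) ↔
        (Ideal.map (algebraMap A B) a = ⊥ ∧ Ideal.map (algebraMap A B) b = ⊤)) := by
  classical
  have hfg : ∀ v, ∃ (n : ℕ) (g : Fin n → ℳ v), Submodule.span A (Set.range g) = ⊤ := fun v =>
    Submodule.fg_iff_exists_fin_generating_family.1 Module.Finite.fg_top
  choose qn gen hgen using hfg
  set a : Ideal A := ⨆ v, closedIdeal A (gen v) (h v)
  obtain ⟨V, hV⟩ := exists_finset R N ℳ pr hpr h gen hgen a (fun v => le_iSup (fun w => closedIdeal A (gen w) (h w)) v)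
  refine ⟨a, ∏ v ∈ V, openIdeal A (gen v) (h v), fun B _ _ => ⟨fun hB => ⟨?_, ?_⟩, fun ⟨ha, hb⟩ v => ?_⟩⟩
  · rw [Ideal.map_iSup, iSup_eq_bot]
    intro v
    haveI := (hB v).1
    haveI := (hB v).2.1
    exact map_closedIdeal_eq_bot (hgen v) (hB v).2.2
  · change Ideal.mapHom (algebraMap A B) (∏ v ∈ V, openIdeal A (gen v) (h v)) = ⊤
    rw [map_prod]
    refine (Finset.prod_eq_one fun v _ => ?_).trans Ideal.one_eq_top
    haveI := (hB v).1
    haveI := (hB v).2.1
    exact (map_openIdeal_eq_top (hgen v) (hB v).2.2).trans Ideal.one_eq_top.symm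
  · refine projective_of_ideals (hgen v) (le_bot_iff.1 ?_) ?_
    · exact (Ideal.map_mono (le_iSup (fun w => closedIdeal A (gen w) (h w)) v)).trans ha.le
    · by_contra hne
      obtain ⟨P, hP, hle⟩ := Ideal.exists_le_maximal _ hne
      haveI := hP.isPrime
      refine hV (P.comap (algebraMap A B)) (Ideal.IsPrime.comap _) ?_ (fun w hw hwle => ?_) v
        (Ideal.map_le_iff_le_comap.1 hle)
      · rw [← Ideal.map_le_iff_le_comap, ha]; exact bot_le
      · refine hP.ne_top (top_le_iff.1 (hb ▸ ?_))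
        exact Ideal.map_le_iff_le_comap.2 (le_trans (Ideal.prod_le_inf.trans (Finset.inf_le hw)) hwle)

end Family

end Groth.HilbPn.RankStratum
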