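import Groth.Agent.HilbPn.Power
import Groth.Agent.HilbPn.Counts
import Groth.Agent.HilbPn.Three

/-! Colengths of the slices of a strongly stable ideal. -/

set_option autoImplicit false

universe u

open MvPolynomial W4c1hilbpn

namespace Groth.HilbPn

attribute [local instance] Classical.propDecidable

variable {k : Type u} [Field k] {I : Ideal (MvPolynomial (Fin 3) k)}

variable (I) in
/-- Standard monomials in the slice at `i`. -/
abbrev SliceStd (i : ℕ) := {p : ℕ × ℕ // e3 i p.1 p.2 ∉ exps I}

variable (I) in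
/-- The colength of a slice. -/
noncomputable def dslice (i : ℕ) : ℕ := Nat.card (SliceStd I i)

variable (I) in
/-- The least power of the last variable in a slice. -/
noncomputable def tslice (i : ℕ) : ℕ := Nat.card {c : ℕ // e3 i 0 c ∉ exps I}

theorem slice_finite (hI : IsMonomial I) [Module.Finite k (MvPolynomial (Fin 3) k ⧸ I)] (i : ℕ) :
    Finite (SliceStd I i) := by
  haveI : Finite {β : Fin 3 →₀ ℕ // β ∉ exps I} := (nonExps_finite hI).to_subtype
  refine Finite.of_injective (fun p => (⟨_, p.2⟩ : {β : Fin 3 →₀ ℕ // β ∉ exps I})) fun a b h => ?_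
  have h1 := DFunLike.congr_fun (congrArg Subtype.val h) 1
  have h2 := DFunLike.congr_fun (congrArg Subtype.val h) 2
  simp at h1 h2
  exact Subtype.ext (Prod.ext h1 h2)

theorem tslice_finite (hI : IsMonomial I) [Module.Finite k (MvPolynomial (Fin 3) k ⧸ I)] (i : ℕ) :
    Finite {c : ℕ // e3 i 0 c ∉ exps I} := by
  haveI := slice_finite hI i
  exact Finite.of_injective (fun c => (⟨(0, c.1), c.2⟩ : SliceStd I i)) fun a b h =>
    Subtype.ext (Prod.ext_iff.1 (congrArg Subtype.val h)).2

theorem lt_tslice (hI : IsMonomial I) [Module.Finite k (MvPolynomial (Fin 3) k ⧸ I)] {i c : ℕ}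
    (h : e3 i 0 c ∉ exps I) : c < tslice I i := by
  haveI := tslice_finite hI i
  have : Nat.card (Fin (c + 1)) ≤ tslice I i :=
    Nat.card_le_card_of_injective
      (fun d : Fin (c + 1) => (⟨d.1, fun hd => h (exps_upper hd (e3_le le_rfl le_rfl (by omega)))⟩ :
        {c : ℕ // e3 i 0 c ∉ exps I}))
      fun a b hab => Fin.ext (congrArg Subtype.val hab :)
  rw [Nat.card_fin] at this
  omega

theorem slice_shift (hI : IsStronglyStable I) {i b c : ℕ} (h : e3 i (b + 1) c ∈ exps I) :
    e3 (i + 1) b c ∈ exps I := by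
  convert hI.2 _ h 0 1 (by decide) (by simp) using 1
  ext l; fin_cases l <;> simp [Finsupp.single_apply]

theorem slice_collapse (hI : IsStronglyStable I) {i : ℕ} :
    ∀ {b c : ℕ}, e3 i 0 (b + c) ∈ exps I → e3 i b c ∈ exps I := by
  intro b
  induction b with
  | zero => intro c h; simpa using h
  | succ b ih =>
    intro c h
    have h' : e3 i b (c + 1) ∈ exps I := ih (by rw [show b + (c + 1) = b + 1 + c by omega]; exact h)
    convert hI.2 _ h' 1 2 (by decide) (by simp) using 1
    ext l; fin_cases l <;> simp [Finsupp.single_apply]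

theorem card_triangle (t : ℕ) : Nat.card {p : ℕ × ℕ // p.1 + p.2 < t} = (t + 1).choose 2 := by
  cases t with
  | zero => simp
  | succ T =>
    have h : (T + 1 + 1).choose 2 = (Finset.univ.finsuppAntidiag T : Finset (Fin 3 →₀ ℕ)).card := by
      rw [Finset.card_finsuppAntidiag_nat_eq_multichoose, Nat.multichoose_eq, Finset.card_univ, Fintype.card_fin,
        show 3 + T - 1 = T + 2 by omega]
      exact Nat.choose_symm_of_eq_add (by omega)
    rw [h, ← Nat.card_eq_finsetCard]
    refine Nat.card_congr
      { toFun := fun p => ⟨e3 p.1.1 p.1.2 (T - p.1.1 - p.1.2), ?_⟩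
        invFun := fun v => ⟨(v.1 0, v.1 1), ?_⟩
        left_inv := fun p => rfl
        right_inv := fun v => ?_ }
    · rw [Finset.mem_finsuppAntidiag]
      refine ⟨?_, Finset.subset_univ _⟩
      have := p.2
      rw [Fin.sum_univ_three, e3_zero, e3_one, e3_two]
      omega
    · have h2 := (Finset.mem_finsuppAntidiag.1 v.2).1
      rw [Fin.sum_univ_three] at h2
      show v.1 0 + v.1 1 < T + 1
      omega
    · apply Subtype.ext
      have h2 := (Finset.mem_finsuppAntidiag.1 v.2).1
      rw [Fin.sum_univ_three] at h2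
      ext l
      fin_cases l
      · rfl
      · rfl
      · show T - v.1 0 - v.1 1 = v.1 2
        omega

theorem dslice_le_triangle (hI : IsStronglyStable I) [Module.Finite k (MvPolynomial (Fin 3) k ⧸ I)] (i : ℕ) :
    dslice I i ≤ (tslice I i + 1).choose 2 := by
  rw [← card_triangle]
  haveI : Finite {p : ℕ × ℕ // p.1 + p.2 < tslice I i} :=
    Finite.of_injective (fun p => ((⟨p.1.1, by have := p.2; omega⟩, ⟨p.1.2, by have := p.2; omega⟩) :
      Fin (tslice I i) × Fin (tslice I i))) fun a b h => by
        simp [Fin.ext_iff] at h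
        exact Subtype.ext (Prod.ext h.1 h.2)
  exact Nat.card_le_card_of_injective
    (fun p => ⟨p.1, lt_tslice hI.1 fun h => p.2 (slice_collapse hI h)⟩) fun a b h => by
      simpa [Subtype.ext_iff] using h

theorem dslice_succ (hI : IsStronglyStable I) [Module.Finite k (MvPolynomial (Fin 3) k ⧸ I)] (i : ℕ) :
    dslice I (i + 1) + tslice I i ≤ dslice I i := by
  haveI := slice_finite hI.1 (i + 1)
  haveI := slice_finite hI.1 i
  haveI := tslice_finite hI.1 i
  rw [dslice, tslice, ← Nat.card_sum]
  refine Nat.card_le_card_of_injective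
    (Sum.elim (fun p => (⟨(p.1.1 + 1, p.1.2), fun h => p.2 (slice_shift hI h)⟩ : SliceStd I i))
      (fun c => ⟨(0, c.1), c.2⟩)) ?_
  rintro (a | a) (b | b) h <;> simp [Subtype.ext_iff, Prod.ext_iff] at h ⊢
  · exact h
  · exact h

theorem dslice_step (hI : IsStronglyStable I) [Module.Finite k (MvPolynomial (Fin 3) k ⧸ I)] {i m : ℕ}
    (h : dslice I i ≤ (m + 1).choose 2) : dslice I (i + 1) ≤ m.choose 2 := by
  have h1 := dslice_succ hI i
  have h2 := dslice_le_triangle hI i
  set t := tslice I i
  rcases le_or_gt m t with hm | hm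
  · have : (m + 1).choose 2 = m + m.choose 2 := by rw [Nat.choose_succ_succ', Nat.choose_one_right]
    omega
  · have : (t + 1).choose 2 = t + t.choose 2 := by rw [Nat.choose_succ_succ', Nat.choose_one_right]
    have := Nat.choose_le_choose 2 hm.le
    omega

theorem sum_triangles (r : ℕ) : ∑ i ∈ Finset.range r, (r - i + 1).choose 2 = (r + 2).choose 3 := by
  induction r with
  | zero => rfl
  | succ r ih =>
    rw [Finset.sum_range_succ']
    simp only [Nat.add_sub_add_right, ih, Nat.sub_zero]
    rw [Nat.choose_succ_succ' (r + 2) 2, add_comm]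

theorem sum_dslice_le (hI : IsMonomial I) [Module.Finite k (MvPolynomial (Fin 3) k ⧸ I)] (s : Finset ℕ) :
    ∑ i ∈ s, dslice I i ≤ Module.finrank k (MvPolynomial (Fin 3) k ⧸ I) := by
  haveI := fun i => slice_finite hI i
  haveI : Finite {γ : Fin 3 → ℤ // γ ∈ Std I} := (std_finite hI).to_subtype
  rw [mk_surj_std hI, ← Finset.sum_coe_sort]
  simp only [dslice]
  rw [← Nat.card_sigma]
  refine Nat.card_le_card_of_injective
    (fun z : Σ i : s, SliceStd I i.1 => (⟨toZ (e3 z.1.1 z.2.1.1 z.2.1.2), toZ_nonneg _,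
      fun h => z.2.2 (inI_toZ.1 h)⟩ : {γ : Fin 3 → ℤ // γ ∈ Std I})) ?_
  rintro ⟨⟨i, hi⟩, ⟨⟨a, b⟩, hab⟩⟩ ⟨⟨j, hj⟩, ⟨⟨c, d⟩, hcd⟩⟩ h
  have h0 := congrFun (congrArg Subtype.val h) 0
  have h1 := congrFun (congrArg Subtype.val h) 1
  have h2 := congrFun (congrArg Subtype.val h) 2
  simp [toZ] at h0 h1 h2
  subst h0 h1 h2
  rfl

theorem finrank_slice (hI : IsMonomial I) [Module.Finite k (MvPolynomial (Fin 3) k ⧸ I)] (i : ℕ) :
    Module.finrank k (MvPolynomial (Fin 2) k ⧸ sliceX I i) = dslice I i := by
  have hmon : IsMonomial (sliceX I i) := fun p hp β hβ =>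
    (exps_sliceX hI i β).2 (by rw [← lift_eq]; exact (mem_sliceX hI i p).1 hp β hβ)
  haveI := slice_finite hI i
  have hfin : {β : Fin 2 →₀ ℕ | β ∉ exps (sliceX I i)}.Finite := by
    refine Set.finite_coe_iff.1 (Finite.of_injective
      (fun β : {β : Fin 2 →₀ ℕ | β ∉ exps (sliceX I i)} =>
        (⟨(β.1 0, β.1 1), fun h => β.2 ((exps_sliceX hI i β.1).2 h)⟩ : SliceStd I i)) fun a b h => ?_)
    simp [Subtype.ext_iff, Prod.ext_iff] at h
    apply Subtype.ext
    ext l; fin_cases l
    · exact h.1
    · exact h.2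
  haveI := finite_quotient hfin
  rw [mk_surj_std hmon]
  refine Nat.card_congr
    { toFun := fun γ => ⟨((γ.1 0).toNat, (γ.1 1).toNat), fun h => γ.2.2 ⟨γ.2.1, (exps_sliceX hI i _).2 h⟩⟩
      invFun := fun p => ⟨![(p.1.1 : ℤ), (p.1.2 : ℤ)], fun l => by fin_cases l <;> simp, fun h => p.2 (by
        have h' := (exps_sliceX hI i _).1 h.2
        simpa using h')⟩
      left_inv := fun γ => Subtype.ext (funext fun l => by
        have := γ.2.1 0; have := γ.2.1 1
        fin_cases l <;> simp <;> omega)
      right_inv := fun p => by simp }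

theorem tail_le (hI : IsStronglyStable I) [Module.Finite k (MvPolynomial (Fin 3) k ⧸ I)] (r : ℕ)
    (hd : Module.finrank k (MvPolynomial (Fin 3) k ⧸ I) ≤ (r + 2).choose 3) :
    ∀ j, j ≤ r → ∑ i ∈ Finset.Ico j r, dslice I i ≤ ∑ i ∈ Finset.Ico j r, (r - i + 1).choose 2 := by
  intro j hj
  by_cases h : ∀ i < j, (r - i + 1).choose 2 ≤ dslice I i
  · have h1 : ∑ i ∈ Finset.range j, (r - i + 1).choose 2 ≤ ∑ i ∈ Finset.range j, dslice I i :=
      Finset.sum_le_sum fun i hi => h i (Finset.mem_range.1 hi)
    have h2 := Finset.sum_range_add_sum_Ico (fun i => dslice I i) hj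
    have h3 := Finset.sum_range_add_sum_Ico (fun i => (r - i + 1).choose 2) hj
    have h4 := sum_dslice_le hI.1 (Finset.range r)
    rw [sum_triangles] at h3
    omega
  · push Not at h
    obtain ⟨i0, hi0, hlt⟩ := h
    have key : ∀ l, i0 + l ≤ r → dslice I (i0 + l) ≤ (r - (i0 + l) + 1).choose 2 := by
      intro l
      induction l with
      | zero => intro _; exact hlt.le
      | succ l ih =>
        intro hl
        have := dslice_step hI (ih (by omega))
        rw [show i0 + (l + 1) = i0 + l + 1 from rfl]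
        rwa [show r - (i0 + l + 1) + 1 = r - (i0 + l) by omega]
    refine Finset.sum_le_sum fun i hi => ?_
    have := Finset.mem_Ico.1 hi
    simpa [show i0 + (i - i0) = i by omega] using key (i - i0) (by omega)

theorem eq_mPow (hI : IsStronglyStable I) [Module.Finite k (MvPolynomial (Fin 3) k ⧸ I)] (r : ℕ)
    (hd : Module.finrank k (MvPolynomial (Fin 3) k ⧸ I) ≤ (r + 2).choose 3)
    (heq : ∀ j, j < r → ∑ i ∈ Finset.Ico j r, dslice I i = ∑ i ∈ Finset.Ico j r, (r - i + 1).choose 2) :
    I = mPow k 3 r := by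
  have hval : ∀ i < r, dslice I i = (r - i + 1).choose 2 := by
    intro i hi
    have h1 := heq i hi
    rw [Finset.sum_eq_sum_Ico_succ_bot hi, Finset.sum_eq_sum_Ico_succ_bot hi] at h1
    rcases (Nat.succ_le_iff.2 hi).lt_or_eq with h | h
    · have := heq (i + 1) h
      omega
    · simp [← h] at h1 ⊢
      exact h1
  have hzero : ∀ i, r ≤ i → dslice I i = 0 := by
    intro i hi
    have h1 := sum_dslice_le hI.1 (insert i (Finset.range r))
    rw [Finset.sum_insert (by simp; omega), Finset.sum_congr rfl fun l hl => hval l (Finset.mem_range.1 hl),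
      sum_triangles] at h1
    omega
  have hnone : ∀ i b c, r ≤ i → e3 i b c ∈ exps I := fun i b c hi => by
    haveI := slice_finite hI.1 i
    by_contra h
    have := hzero i hi
    rw [dslice, Nat.card_eq_zero] at this
    rcases this with h' | h'
    · exact h'.false ⟨(b, c), h⟩
    · exact absurd (inferInstance : Finite (SliceStd I i)) (by simpa using h')
  have hkey : ∀ i < r, ∀ b c, e3 i b c ∉ exps I ↔ b + c < r - i := by
    intro i hi
    have hnext : (r - i).choose 2 ≤ dslice I (i + 1) := by
      rcases (Nat.succ_le_iff.2 hi).lt_or_eq with h | h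
      · rw [hval _ h, show r - (i + 1) + 1 = r - i by omega]
      · rw [show r - i = 1 by omega]; simp
    have h1 := dslice_succ hI i
    have h2 := dslice_le_triangle hI i
    have hpascal : (r - i + 1).choose 2 = (r - i) + (r - i).choose 2 := by
      rw [Nat.choose_succ_succ', Nat.choose_one_right]
    have ht : tslice I i ≤ r - i := by rw [hval i hi] at h1; omega
    haveI : Finite {p : ℕ × ℕ // p.1 + p.2 < r - i} :=
      Finite.of_injective (fun p => ((⟨p.1.1, by have := p.2; omega⟩, ⟨p.1.2, by have := p.2; omega⟩) :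
        Fin (r - i) × Fin (r - i))) fun a b h => by
          simp [Fin.ext_iff] at h
          exact Subtype.ext (Prod.ext h.1 h.2)
    haveI := slice_finite hI.1 i
    have hsub : ∀ p : SliceStd I i, p.1.1 + p.1.2 < r - i := fun p =>
      (lt_tslice hI.1 fun h => p.2 (slice_collapse hI h)).trans_le ht
    let f : SliceStd I i → {p : ℕ × ℕ // p.1 + p.2 < r - i} := fun p => ⟨p.1, hsub p⟩
    have hf : Function.Bijective f := (Nat.bijective_iff_injective_and_card f).2
      ⟨fun a b h => by simpa [f, Subtype.ext_iff] using h, by rw [card_triangle]; exact hval i hi⟩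
    intro b c
    refine ⟨fun h => hsub ⟨(b, c), h⟩, fun h => ?_⟩
    obtain ⟨p, hp⟩ := hf.2 ⟨(b, c), h⟩
    have : p.1 = (b, c) := congrArg Subtype.val hp
    have h' := p.2
    rwa [this] at h'
  have hexp : ∀ β, β ∈ exps I ↔ r ≤ Finsupp.degree β := by
    intro β
    rw [Finsupp.degree_eq_sum, Fin.sum_univ_three]
    by_cases h : r ≤ β 0
    · exact ⟨fun _ => by omega, fun _ => by rw [← e3_eq β]; exact hnone _ _ _ h⟩
    · have := hkey (β 0) (by omega) (β 1) (β 2)
      rw [e3_eq] at this
      constructor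
      · intro hh
        by_contra hlt
        exact (this.2 (by omega)) hh
      · intro hh
        by_contra hn
        have := this.1 hn
        omega
  ext p
  constructor
  · intro hp
    exact (mem_mPow r p).2 fun β hβ => (hexp β).1 (hI.1 p hp β hβ)
  · intro hp
    refine mem_of_coeff_eq_zero fun β hβ => ?_
    by_contra h
    exact hβ ((hexp β).2 ((mem_mPow r p).1 hp β (mem_support_iff.2 h)))

end Groth.HilbPn
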