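import Groth.Agent.HilbPn.StairBound
import Groth.Agent.HilbPn.Slices
import Groth.Agent.HilbPn.Counts
import Groth.Agent.HilbPn.PowerCount

/-! Bounds for the pieces with one negative entry among the last two, for strongly stable ideals. -/

set_option autoImplicit false
set_option linter.style.haveILetI false

universe u

open MvPolynomial W4c1hilbpn

namespace Groth.HilbPn

attribute [local instance] Classical.propDecidable

variable {k : Type u} [Field k] {I : Ideal (MvPolynomial (Fin 3) k)}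
  [Module.Finite k (MvPolynomial (Fin 3) k ⧸ I)]

variable (I) in
/-- A standard point together with a number up to its first coordinate. -/
abbrev MarkedStd := {x : ℕ × {γ : Fin 3 → ℤ // γ ∈ Std I} // (x.1 : ℤ) ≤ x.2.1 0}

theorem marked_finite (hI : IsMonomial I) : Finite (MarkedStd I) := by
  haveI : Finite {γ : Fin 3 → ℤ // γ ∈ Std I} := (std_finite hI).to_subtype
  obtain ⟨N, hN⟩ := exists_bound hI
  refine Finite.of_injective (fun x : MarkedStd I => ((⟨x.1.1, ?_⟩ : Fin (N + 1)), x.1.2)) fun a b h => ?_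
  · have h0 := hN (toN x.1.2.1) 0 fun h => x.1.2.2.2 ⟨x.1.2.2.1, h⟩
    have := x.2
    simp only [toN, Finsupp.equivFunOnFinite_symm_apply_apply] at h0
    omega
  · simp [Fin.ext_iff, Prod.ext_iff] at h
    exact Subtype.ext (Prod.ext h.1 h.2)

/-- A cell negative exactly at `l` is determined by a standard point and its first coordinate. -/
theorem sig_singleton_le (hI : IsMonomial I) {l m : Fin 3} (hl : l ≠ 0) (hm : m ≠ 0) (hlm : l ≠ m) :
    Module.finrank k ↥(sigPiece I {l}) ≤ Nat.card (MarkedStd I) := by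
  rw [finrank_sigPiece hI]
  have hcov : ∀ j : Fin 3, j = 0 ∨ j = l ∨ j = m := by revert l m; decide
  have hpick : ∀ q : Cells I, ∃ (γ : Fin 3 → ℤ) (h : γ ∈ region I q.1),
      (regGraph I q.1).Reachable ⟨γ, h⟩ (rep q) ∧ γ + ev m ∉ region I q.1 ∧ γ - ev l ∉ region I q.1 := by
    intro q
    have hfin : {x : region I q.1 | (regGraph I q.1).Reachable x (rep q)}.Finite := by
      refine Set.Finite.of_finite_image ((std_finite hI).subset ?_) Subtype.val_injective.injOn
      rintro _ ⟨x, hx, rfl⟩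
      exact ⟨good_of_reachable q hx, (mem_region.1 x.2).2⟩
    obtain ⟨⟨γ, hγ⟩, hr, hmax⟩ := hfin.exists_maximalFor (fun x => x.1 m - x.1 l) _
      ⟨rep q, SimpleGraph.Reachable.refl _⟩
    have key : ∀ (γ' : Fin 3 → ℤ) (h : γ' ∈ region I q.1),
        (regGraph I q.1).Adj ⟨γ', h⟩ ⟨γ, hγ⟩ → γ' m - γ' l = γ m - γ l + 1 → False := by
      intro γ' h hadj he
      have := hmax (j := ⟨γ', h⟩) ((SimpleGraph.Adj.reachable hadj).trans hr) (by simp only; omega)
      simp only at this
      omega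
    refine ⟨γ, hγ, hr, fun h => key _ h (step_adj γ m).symm ?_, fun h => key _ h ?_ ?_⟩
    · simp only [Pi.add_apply, ev_self, ev_of_ne hlm]; omega
    · have := step_adj (γ - ev l) l
      rwa [sub_add_cancel] at this
    · simp only [Pi.sub_apply, ev_self, ev_of_ne hlm.symm]; omega
  choose γ hγ hr hm' hl' using hpick
  let pt : Cells I → (Fin 3 → ℤ) := fun q => Function.update (γ q) m (q.1 m)
  have hpos : ∀ q : {q : Cells I // ∀ i, q.1 i < 0 ↔ i ∈ ({l} : Set (Fin 3))}, ∀ j, j ≠ l → 0 ≤ q.1.1 j :=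
    fun q j hj => not_lt.1 fun h => hj ((q.2 j).1 h)
  have hfacts : ∀ q : {q : Cells I // ∀ i, q.1 i < 0 ↔ i ∈ ({l} : Set (Fin 3))},
      (∀ j, j ≠ l → q.1.1 j ≤ γ q.1 j) ∧ pt q.1 ∈ Std I ∧ InI I (γ q.1 - q.1.1) ∧
        ¬ InI I (γ q.1 - q.1.1 - ev l) ∧ InI I (γ q.1 + ev m) ∧ ¬ InI I (γ q.1) := by
    intro q
    obtain ⟨hin, hnot⟩ := mem_region.1 (hγ q.1)
    have g0 := good_of_reachable q.1 (hr q.1)
    have hle : ∀ j, q.1.1 j ≤ γ q.1 j := fun j => by have := hin.1 j; simp only [Pi.sub_apply] at this; omega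
    refine ⟨fun j _ => hle j, ?_, hin, fun hh => hl' q.1 (mem_region.2 ⟨by rwa [sub_right_comm], fun h =>
      hnot (h.mono fun i => by have := ev_nonneg l i; simp only [Pi.sub_apply]; omega)⟩), ?_, hnot⟩
    · refine ⟨fun j => ?_, fun h => hnot (h.mono fun j => ?_)⟩
      · by_cases hj : j = m
        · subst hj; simp only [pt, Function.update_self]; exact hpos q _ hlm.symm
        · simp only [pt, Function.update_of_ne hj]; exact g0 j
      · by_cases hj : j = m
        · subst hj; simp only [pt, Function.update_self]; exact hle _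
        · simp only [pt, Function.update_of_ne hj]; exact le_rfl
    · by_contra hn
      exact hm' q.1 (mem_region.2 ⟨hin.mono fun i => by
        have := ev_nonneg m i; simp only [Pi.sub_apply, Pi.add_apply]; omega, hn⟩)
  haveI := marked_finite hI
  refine Nat.card_le_card_of_injective (fun q => (⟨((q.1.1 0).toNat, ⟨pt q.1, (hfacts q).2.1⟩), ?_⟩ : MarkedStd I)) ?_
  · have h1 := (hfacts q).1 0 hl.symm
    have h2 := hpos q 0 hl.symm
    simp only [pt, Function.update_of_ne hm.symm]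
    omega
  intro q q' h
  simp [Subtype.ext_iff, Prod.ext_iff] at h
  obtain ⟨h0, hpt⟩ := h
  have hne : ∀ j, j ≠ m → γ q.1 j = γ q'.1 j := fun j hj => by
    have := congrFun hpt j
    simpa [pt, Function.update_of_ne hj] using this
  have hαm : q.1.1 m = q'.1.1 m := by
    have := congrFun hpt m
    simpa [pt] using this
  have hγm : γ q.1 m = γ q'.1 m := by
    rcases lt_trichotomy (γ q.1 m) (γ q'.1 m) with hlt | heq | hlt
    · exact absurd ((hfacts q).2.2.2.2.1.mono fun j => by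
        by_cases hj : j = m
        · subst hj; simp only [Pi.add_apply, ev_self]; omega
        · simp only [Pi.add_apply, ev_of_ne hj, add_zero]; exact (hne j hj).le) (hfacts q').2.2.2.2.2
    · exact heq
    · exact absurd ((hfacts q').2.2.2.2.1.mono fun j => by
        by_cases hj : j = m
        · subst hj; simp only [Pi.add_apply, ev_self]; omega
        · simp only [Pi.add_apply, ev_of_ne hj, add_zero]; exact (hne j hj).ge) (hfacts q).2.2.2.2.2
  have hγe : γ q.1 = γ q'.1 := funext fun j => by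
    by_cases hj : j = m
    · subst hj; exact hγm
    · exact hne j hj
  have e0 : q.1.1 0 = q'.1.1 0 := by
    have := hpos q 0 hl.symm; have := hpos q' 0 hl.symm
    omega
  have hα : q.1.1 = q'.1.1 := by
    obtain ⟨-, -, hin, hnin, -, -⟩ := hfacts q
    obtain ⟨-, -, hin', hnin', -, -⟩ := hfacts q'
    rw [← hγe] at hin' hnin'
    rcases lt_trichotomy (q.1.1 l) (q'.1.1 l) with hlt | heq | hlt
    · exact absurd (hin'.mono fun j => by
        rcases hcov j with rfl | rfl | rfl
        · simp only [Pi.sub_apply, ev_of_ne hl.symm]; omega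
        · simp only [Pi.sub_apply, ev_self]; omega
        · simp only [Pi.sub_apply, ev_of_ne hlm.symm]; omega) hnin
    · funext j
      rcases hcov j with rfl | rfl | rfl
      exacts [e0, heq, hαm]
    · exact absurd (hin.mono fun j => by
        rcases hcov j with rfl | rfl | rfl
        · simp only [Pi.sub_apply, ev_of_ne hl.symm]; omega
        · simp only [Pi.sub_apply, ev_self]; omega
        · simp only [Pi.sub_apply, ev_of_ne hlm.symm]; omega) hnin'
  have p1 := hr q.1; have p2 := hr q'.1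
  obtain ⟨⟨α, C⟩, hP⟩ := q
  obtain ⟨⟨α', C'⟩, hP'⟩ := q'
  change α = α' at hα
  subst hα
  apply Subtype.ext
  refine Sigma.ext rfl (heq_of_eq (Subtype.ext ?_))
  rw [← rep_mk (I := I) ⟨α, C⟩, ← rep_mk (I := I) ⟨α, C'⟩, SimpleGraph.ConnectedComponent.eq]
  refine p1.symm.trans (SimpleGraph.Reachable.trans ?_ p2)
  rw [show (⟨γ ⟨α, C⟩, hγ ⟨α, C⟩⟩ : region I α) = ⟨γ ⟨α, C'⟩, hγ ⟨α, C'⟩⟩ from Subtype.ext hγe]

/-- The `x`-exponents of standard points are below `r`. -/
theorem std_lt (hI : IsStronglyStable I) {r : ℕ}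
    (hd : Module.finrank k (MvPolynomial (Fin 3) k ⧸ I) ≤ (r + 2).choose 3) {γ : Fin 3 → ℤ} (hγ : γ ∈ Std I) :
    γ 0 < r := by
  have hyx : ∀ b a, e3 a b 0 ∈ exps I → e3 (a + b) 0 0 ∈ exps I := by
    intro b
    induction b with
    | zero => intro a h; simpa using h
    | succ b ih =>
      intro a h
      have := ih (a + 1) (slice_shift hI h)
      rwa [show a + (b + 1) = a + 1 + b by omega]
  have hzy : ∀ c a b, e3 a b c ∈ exps I → e3 a (b + c) 0 ∈ exps I := by
    intro c
    induction c with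
    | zero => intro a b h; simpa using h
    | succ c ih =>
      intro a b h
      have h' : e3 a (b + 1) c ∈ exps I := by
        convert hI.2 _ h 1 2 (by decide) (by simp) using 1
        ext j; fin_cases j <;> simp
      have := ih a (b + 1) h'
      rwa [show b + (c + 1) = b + 1 + c by omega]
  have hx : e3 r 0 0 ∈ exps I := by
    by_contra hr
    have h1 : Nat.card {γ : Fin 3 → ℤ // γ ∈ Std (mPow k 3 (r + 1))} ≤
        Nat.card {γ : Fin 3 → ℤ // γ ∈ Std I} := by
      haveI : Finite {γ : Fin 3 → ℤ // γ ∈ Std I} := (std_finite hI.1).to_subtype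
      refine Nat.card_le_card_of_injective (fun δ => (⟨δ.1, δ.2.1, fun h => ?_⟩ : {γ : Fin 3 → ℤ // γ ∈ Std I}))
        fun a b h => Subtype.ext (congrArg Subtype.val h :)
      have hδ := δ.2.2
      rw [inI_mPow, not_and, not_le, Fin.sum_univ_three] at hδ
      have hsum := hδ δ.2.1
      have h' : e3 (δ.1 0).toNat (δ.1 1).toNat (δ.1 2).toNat ∈ exps I := by
        rw [show e3 (δ.1 0).toNat (δ.1 1).toNat (δ.1 2).toNat = toN δ.1 by
          ext j; fin_cases j <;> simp [toN]]
        exact h.2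
      have := hyx _ _ (hzy _ _ _ h')
      refine hr (exps_upper this (e3_le ?_ le_rfl le_rfl))
      have := δ.2.1 0; have := δ.2.1 1; have := δ.2.1 2
      push_cast at hsum
      omega
    rw [card_std_mPow, ← mk_surj_std hI.1] at h1
    have : (r + 2).choose 3 < (r + 1 + 2).choose 3 := by
      rw [show r + 1 + 2 = (r + 2) + 1 from rfl, Nat.choose_succ_succ' (r + 2) 2]
      have : 0 < (r + 2).choose 2 := Nat.choose_pos (by omega)
      have h3 : (r + 2).choose 3 = (r + 2).choose (2 + 1) := rfl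
      omega
    omega
  by_contra hlt
  refine hγ.2 ⟨hγ.1, exps_upper hx ?_⟩
  intro j
  fin_cases j <;> simp [toN] <;> omega

theorem card_tail_le (hI : IsStronglyStable I) {r : ℕ}
    (hd : Module.finrank k (MvPolynomial (Fin 3) k ⧸ I) ≤ (r + 2).choose 3) (j : ℕ) :
    Nat.card {γ : {γ : Fin 3 → ℤ // γ ∈ Std I} // (j : ℤ) ≤ γ.1 0} ≤ ∑ i ∈ Finset.Ico j r, dslice I i := by
  haveI := fun i => slice_finite hI.1 i
  simp only [dslice]
  rw [← Finset.sum_coe_sort, ← Nat.card_sigma]
  have hmem : ∀ γ : {γ : {γ : Fin 3 → ℤ // γ ∈ Std I} // (j : ℤ) ≤ γ.1 0},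
      (γ.1.1 0).toNat ∈ Finset.Ico j r := fun γ => Finset.mem_Ico.2 ⟨by
        have := γ.2; omega, by
        have := std_lt hI hd γ.1.2; have := γ.1.2.1 0; omega⟩
  have hstd : ∀ γ : {γ : Fin 3 → ℤ // γ ∈ Std I},
      e3 (γ.1 0).toNat (γ.1 1).toNat (γ.1 2).toNat ∉ exps I := fun γ h => γ.2.2 ⟨γ.2.1, by
    convert h using 1
    ext l; fin_cases l <;> simp [toN]⟩
  let f : {γ : {γ : Fin 3 → ℤ // γ ∈ Std I} // (j : ℤ) ≤ γ.1 0} →
      Σ i : ↥(Finset.Ico j r), SliceStd I i.1 := fun γ =>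
    ⟨⟨(γ.1.1 0).toNat, hmem γ⟩, ⟨((γ.1.1 1).toNat, (γ.1.1 2).toNat), hstd γ.1⟩⟩
  refine Nat.card_le_card_of_injective f fun a b h => ?_
  have h' : ((a.1.1 0).toNat, (a.1.1 1).toNat, (a.1.1 2).toNat) =
      ((b.1.1 0).toNat, (b.1.1 1).toNat, (b.1.1 2).toNat) :=
    congrArg (fun z : Σ i : ↥(Finset.Ico j r), SliceStd I i.1 => (z.1.1, z.2.1.1, z.2.1.2)) h
  simp only [Prod.mk.injEq] at h'
  refine Subtype.ext (Subtype.ext (funext fun l => ?_))
  have := a.1.2.1 l; have := b.1.2.1 l
  fin_cases l <;> simp at * <;> omega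

theorem card_marked_le (hI : IsStronglyStable I) {r : ℕ}
    (hd : Module.finrank k (MvPolynomial (Fin 3) k ⧸ I) ≤ (r + 2).choose 3) :
    Nat.card (MarkedStd I) ≤ ∑ j ∈ Finset.range r, ∑ i ∈ Finset.Ico j r, dslice I i := by
  refine le_trans ?_ (Finset.sum_le_sum fun j _ => card_tail_le hI hd j)
  haveI : Finite {γ : Fin 3 → ℤ // γ ∈ Std I} := (std_finite hI.1).to_subtype
  rw [← Fin.sum_univ_eq_sum_range, ← Nat.card_sigma]
  have hlt : ∀ x : MarkedStd I, x.1.1 < r := fun x => by
    have := std_lt hI hd x.1.2.2; have := x.2; omega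
  let f : MarkedStd I → Σ j : Fin r, {γ : {γ : Fin 3 → ℤ // γ ∈ Std I} // ((j : ℕ) : ℤ) ≤ γ.1 0} := fun x =>
    ⟨⟨x.1.1, hlt x⟩, ⟨x.1.2, x.2⟩⟩
  refine Nat.card_le_card_of_injective f fun a b h => ?_
  exact Subtype.ext (congrArg
    (fun z : Σ j : Fin r, {γ : {γ : Fin 3 → ℤ // γ ∈ Std I} // ((j : ℕ) : ℤ) ≤ γ.1 0} => ((z.1 : ℕ), z.2.1)) h)

theorem sum_sum_triangles (r : ℕ) :
    ∑ j ∈ Finset.range r, ∑ i ∈ Finset.Ico j r, (r - i + 1).choose 2 = (r + 3).choose 4 := by
  have hj : ∀ j ∈ Finset.range r, ∑ i ∈ Finset.Ico j r, (r - i + 1).choose 2 = (r - j + 2).choose 3 := by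
    intro j hj
    rw [Finset.mem_range] at hj
    rw [Finset.sum_Ico_eq_sum_range, ← sum_triangles (r - j)]
    exact Finset.sum_congr rfl fun l hl => by rw [show r - (j + l) = r - j - l by omega]
  rw [Finset.sum_congr rfl hj]
  clear hj
  induction r with
  | zero => rfl
  | succ r ih =>
    rw [Finset.sum_range_succ']
    simp only [Nat.add_sub_add_right, ih, Nat.sub_zero]
    rw [show r + 1 + 3 = (r + 3) + 1 from rfl, Nat.choose_succ_succ' (r + 3) 3,
      show r + 1 + 2 = r + 3 from rfl, add_comm]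

theorem sig_last_bound (hI : IsStronglyStable I) {r : ℕ}
    (hd : Module.finrank k (MvPolynomial (Fin 3) k ⧸ I) ≤ (r + 2).choose 3) {l : Fin 3} (hl : l ≠ 0) :
    Module.finrank k ↥(sigPiece I {l}) ≤ (r + 3).choose 4 ∧
      (Module.finrank k ↥(sigPiece I {l}) = (r + 3).choose 4 → I = mPow k 3 r) := by
  obtain ⟨m, hm, hlm⟩ : ∃ m : Fin 3, m ≠ 0 ∧ l ≠ m := by revert hl; revert l; decide
  have h1 := (sig_singleton_le hI.1 hl hm hlm).trans (card_marked_le hI hd)
  have h2 : ∀ j ∈ Finset.range r,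
      ∑ i ∈ Finset.Ico j r, dslice I i ≤ ∑ i ∈ Finset.Ico j r, (r - i + 1).choose 2 := fun j hj =>
    tail_le hI r hd j (Finset.mem_range.1 hj).le
  have h3 := Finset.sum_le_sum h2
  rw [sum_sum_triangles] at h3
  refine ⟨h1.trans h3, fun he => eq_mPow hI r hd fun j hj => ?_⟩
  exact (Finset.sum_eq_sum_iff_of_le h2).1 (by rw [sum_sum_triangles]; omega) j (Finset.mem_range.2 hj)

theorem sigPiece_bound (hI : IsStronglyStable I) {r : ℕ}
    (hd : Module.finrank k (MvPolynomial (Fin 3) k ⧸ I) = (r + 2).choose 3) {l : Fin 3} (hl : l ≠ 0) :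
    (Module.finrank k ↥(sigPiece I {l}) ≤ (r + 3).choose 4 ∧
      (Module.finrank k ↥(sigPiece I {l}) = (r + 3).choose 4 ↔ I = mPow k 3 r)) ∧
    (Module.finrank k ↥(sigPiece I ({l}ᶜ : Set (Fin 3))) ≤ (r + 2).choose 4 ∧
      (Module.finrank k ↥(sigPiece I ({l}ᶜ : Set (Fin 3))) = (r + 2).choose 4 ↔ I = mPow k 3 r)) := by
  obtain ⟨hle, heq⟩ := sig_last_bound hI hd.le hl
  have hdual := sig_duality hI.1 l
  rw [hd] at hdual
  have hpascal : (r + 3).choose 4 = (r + 2).choose 4 + (r + 2).choose 3 := by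
    rw [show r + 3 = (r + 2) + 1 from rfl, Nat.choose_succ_succ' (r + 2) 3, add_comm]
  have hback : I = mPow k 3 r → Module.finrank k ↥(sigPiece I {l}) = (r + 3).choose 4 := fun h => by
    subst h
    exact (mPow_counts r l).1
  refine ⟨⟨hle, heq, hback⟩, by omega, fun h => heq (by omega), fun h => ?_⟩
  have := hback h
  omega

end Groth.HilbPn
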