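import Groth.Agent.HilbPn.Cocycle
import Groth.Agent.HilbPn.Three

/-! An upper bound for pieces with one negative entry by staircase numbers. -/

set_option autoImplicit false

universe u

open MvPolynomial W4c1hilbpn

namespace Groth.HilbPn

attribute [local instance] Classical.propDecidable

variable {k : Type u} [Field k] {I : Ideal (MvPolynomial (Fin 3) k)}
  [Module.Finite k (MvPolynomial (Fin 3) k ⧸ I)]

theorem exists_top_stair (hI : IsMonomial I) (a b : ℕ) : ∃ c, e3 a b c ∈ exps I := by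
  obtain ⟨N, hN⟩ := exists_bound hI
  exact ⟨N, by_contra fun h => absurd (hN _ 2 h) (by simp)⟩

theorem lt_stairZ (hI : IsMonomial I) (a b c : ℕ) : c < stairZ I a b ↔ e3 a b c ∉ exps I := by
  have hex := exists_top_stair hI a b
  have key : ∀ l, e3 a b l ∉ exps I ↔ l < Nat.find hex := fun l =>
    ⟨fun h => lt_of_not_ge fun hle => h (exps_upper (Nat.find_spec hex) (e3_le le_rfl le_rfl hle)),
      fun h => Nat.find_min hex h⟩
  have : stairZ I a b = Nat.find hex := by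
    rw [stairZ, Nat.card_congr (Equiv.subtypeEquivRight key)]
    exact (Nat.card_congr ⟨fun l => (⟨l.1, l.2⟩ : Fin _), fun l => ⟨l.1, l.2⟩, fun l => rfl, fun l => rfl⟩).trans
      (Nat.card_fin _)
  rw [this, key]

theorem stairZ_zero (hI : IsMonomial I) : ∃ N, ∀ a b, (N ≤ a ∨ N ≤ b) → stairZ I a b = 0 := by
  obtain ⟨N, hN⟩ := exists_bound hI
  refine ⟨N, fun a b h => ?_⟩
  by_contra hne
  have h0 := (lt_stairZ hI a b 0).1 (Nat.pos_of_ne_zero hne)
  have := hN _ 0 h0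
  have := hN _ 1 h0
  simp at *
  omega

variable (I) in
/-- The summand of the bound. -/
noncomputable def gap (a1 a2 : ℕ) (p : ℕ × ℕ) : ℕ :=
  if a1 ≤ p.1 ∧ a2 ≤ p.2 then stairZ I p.1 p.2 - max (stairZ I (p.1 + 1) p.2) (stairZ I p.1 (p.2 + 1)) else 0

variable (I) in
/-- The points counted by the bound. -/
abbrev GapPts (a1 a2 : ℕ) := {x : (ℕ × ℕ) × ℕ // a1 ≤ x.1.1 ∧ a2 ≤ x.1.2 ∧ x.2 < stairZ I x.1.1 x.1.2 ∧
  stairZ I (x.1.1 + 1) x.1.2 ≤ x.2 ∧ stairZ I x.1.1 (x.1.2 + 1) ≤ x.2}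

theorem card_gapPts (hI : IsMonomial I) (a1 a2 : ℕ) :
    Nat.card (GapPts I a1 a2) = ∑ᶠ p, gap I a1 a2 p ∧ Finite (GapPts I a1 a2) := by
  obtain ⟨N, hN⟩ := stairZ_zero hI
  set A := Finset.range N ×ˢ Finset.range N
  have hA : ∀ p : ℕ × ℕ, p ∉ A → stairZ I p.1 p.2 = 0 := fun p hp => hN _ _ (by
    simp [A] at hp; omega)
  rw [finsum_eq_sum_of_support_subset (s := A) _ (fun p hp => by
    by_contra hpA
    refine hp ?_
    simp only [gap, hA p (fun h => hpA (Finset.mem_coe.2 h)), Nat.zero_sub, ite_self])]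
  let B := A.sigma fun p => if a1 ≤ p.1 ∧ a2 ≤ p.2 then
    Finset.Ico (max (stairZ I (p.1 + 1) p.2) (stairZ I p.1 (p.2 + 1))) (stairZ I p.1 p.2) else ∅
  have hB : ∀ x : Σ _ : ℕ × ℕ, ℕ, x ∈ B ↔ (a1 ≤ x.1.1 ∧ a2 ≤ x.1.2 ∧ x.2 < stairZ I x.1.1 x.1.2 ∧
      stairZ I (x.1.1 + 1) x.1.2 ≤ x.2 ∧ stairZ I x.1.1 (x.1.2 + 1) ≤ x.2) := by
    intro x
    simp only [B, Finset.mem_sigma]
    constructor
    · rintro ⟨-, h⟩
      split_ifs at h with hc
      · simp at h; omega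
      · simp at h
    · intro h
      refine ⟨by_contra fun hx => ?_, by rw [if_pos ⟨h.1, h.2.1⟩]; simp; omega⟩
      have := hA _ hx
      omega
  let e : GapPts I a1 a2 ≃ B :=
    { toFun := fun x => ⟨⟨x.1.1, x.1.2⟩, (hB _).2 x.2⟩
      invFun := fun x => ⟨(x.1.1, x.1.2), (hB x.1).1 x.2⟩
      left_inv := fun x => rfl
      right_inv := fun x => rfl }
  refine ⟨?_, Finite.of_equiv _ e.symm⟩
  rw [Nat.card_congr e, Nat.card_eq_finsetCard, Finset.card_sigma]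
  refine Finset.sum_congr rfl fun p _ => ?_
  rw [gap]
  split_ifs with h
  · exact Nat.card_Ico _ _
  · rfl

theorem stair_bound (hI : IsMonomial I) (a1 a2 : ℕ) :
    Module.finrank k ↥(⨆ α : {α : Fin 3 → ℤ // α 0 = (a1 : ℤ) ∧ α 1 = (a2 : ℤ) ∧ α 2 < 0}, tPiece I α.1) ≤
      ∑ᶠ p, gap I a1 a2 p := by
  rw [finrank_iSup hI (fun α => α 0 = (a1 : ℤ) ∧ α 1 = (a2 : ℤ) ∧ α 2 < 0), ← (card_gapPts hI a1 a2).1]
  haveI := (card_gapPts hI a1 a2).2
  have hpick : ∀ q : Cells I, ∃ (γ : Fin 3 → ℤ) (h : γ ∈ region I q.1),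
      (regGraph I q.1).Reachable ⟨γ, h⟩ (rep q) ∧ γ + ev 0 ∉ region I q.1 ∧ γ + ev 1 ∉ region I q.1 ∧
        γ - ev 2 ∉ region I q.1 := by
    intro q
    have hfin : {x : region I q.1 | (regGraph I q.1).Reachable x (rep q)}.Finite := by
      refine Set.Finite.of_finite_image ((std_finite hI).subset ?_) Subtype.val_injective.injOn
      rintro _ ⟨x, hx, rfl⟩
      exact ⟨good_of_reachable q hx, (mem_region.1 x.2).2⟩
    obtain ⟨⟨γ, hγ⟩, hr, hmax⟩ := hfin.exists_maximalFor (fun x => x.1 0 + x.1 1 - x.1 2) _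
      ⟨rep q, SimpleGraph.Reachable.refl _⟩
    have key : ∀ (γ' : Fin 3 → ℤ) (h : γ' ∈ region I q.1),
        (regGraph I q.1).Adj ⟨γ', h⟩ ⟨γ, hγ⟩ → γ' 0 + γ' 1 - γ' 2 = γ 0 + γ 1 - γ 2 + 1 → False := by
      intro γ' h hadj he
      have := hmax (j := ⟨γ', h⟩) ((SimpleGraph.Adj.reachable hadj).trans hr) (by simp only; omega)
      simp only at this
      omega
    refine ⟨γ, hγ, hr, fun h => key _ h (step_adj γ 0).symm ?_, fun h => key _ h (step_adj γ 1).symm ?_,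
      fun h => key _ h ?_ ?_⟩
    · simp [toZ]; omega
    · simp [toZ]; omega
    · have := step_adj (γ - ev 2) 2
      rwa [sub_add_cancel] at this
    · simp [toZ]; omega
  choose γ hγ hr h0 h1 h2 using hpick
  have hfacts : ∀ q : {q : Cells I // q.1 0 = (a1 : ℤ) ∧ q.1 1 = (a2 : ℤ) ∧ q.1 2 < 0},
      (a1 ≤ (γ q.1 0).toNat ∧ a2 ≤ (γ q.1 1).toNat ∧ (γ q.1 2).toNat < stairZ I (γ q.1 0).toNat (γ q.1 1).toNat ∧
        stairZ I ((γ q.1 0).toNat + 1) (γ q.1 1).toNat ≤ (γ q.1 2).toNat ∧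
        stairZ I (γ q.1 0).toNat ((γ q.1 1).toNat + 1) ≤ (γ q.1 2).toNat) ∧
      InI I (γ q.1 - q.1.1) ∧ ¬ InI I (γ q.1 - q.1.1 - ev 2) := by
    intro q
    obtain ⟨hin, hnot⟩ := mem_region.1 (hγ q.1)
    have g0 := good_of_reachable q.1 (hr q.1)
    have p0 := hin.1 0; have p1 := hin.1 1
    simp only [Pi.sub_apply, q.2.1, q.2.2.1] at p0 p1
    have htop : ∀ i, γ q.1 + ev i ∉ region I q.1.1 → InI I (γ q.1 + ev i) := fun i h => by
      by_contra hn
      exact h (mem_region.2 ⟨hin.mono fun l => by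
        have := ev_nonneg i l; simp only [Pi.sub_apply, Pi.add_apply]; omega, hn⟩)
    refine ⟨⟨by omega, by omega, ?_, ?_, ?_⟩, hin, fun hh => h2 q.1 (mem_region.2 ⟨by rwa [sub_right_comm], fun h =>
      hnot (h.mono fun l => by have := ev_nonneg 2 l; simp only [Pi.sub_apply]; omega)⟩)⟩
    · rw [lt_stairZ hI]
      exact fun h => hnot ⟨g0, exps_upper h (le_of_eq (e3_eq (toN (γ q.1))))⟩
    · refine not_lt.1 fun hlt => (lt_stairZ hI _ _ _).1 hlt ?_
      convert (htop 0 (h0 q.1)).2 using 1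
      ext l
      have := g0 l
      fin_cases l <;> simp [toZ] at * <;> omega
    · refine not_lt.1 fun hlt => (lt_stairZ hI _ _ _).1 hlt ?_
      convert (htop 1 (h1 q.1)).2 using 1
      ext l
      have := g0 l
      fin_cases l <;> simp [toZ] at * <;> omega
  refine Nat.card_le_card_of_injective
    (fun q => (⟨(((γ q.1 0).toNat, (γ q.1 1).toNat), (γ q.1 2).toNat), (hfacts q).1⟩ : GapPts I a1 a2)) ?_
  intro q q' h
  simp [Subtype.ext_iff, Prod.ext_iff] at h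
  have hγe : γ q.1 = γ q'.1 := funext fun l => by
    have := good_of_reachable q.1 (hr q.1) l
    have := good_of_reachable q'.1 (hr q'.1) l
    fin_cases l <;> simp at * <;> omega
  have e0 : q.1.1 0 = q'.1.1 0 := q.2.1.trans q'.2.1.symm
  have e1 : q.1.1 1 = q'.1.1 1 := q.2.2.1.trans q'.2.2.1.symm
  have hα : q.1.1 = q'.1.1 := by
    obtain ⟨-, hin, hnin⟩ := hfacts q
    obtain ⟨-, hin', hnin'⟩ := hfacts q'
    rw [← hγe] at hin' hnin'
    rcases lt_trichotomy (q.1.1 2) (q'.1.1 2) with hlt | heq | hlt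
    · exact absurd (hin'.mono fun l => by
        fin_cases l <;> simp [toZ] <;> omega) hnin
    · funext l; fin_cases l
      exacts [e0, e1, heq]
    · exact absurd (hin.mono fun l => by
        fin_cases l <;> simp [toZ] <;> omega) hnin'
  have p1 := hr q.1; have p2 := hr q'.1
  obtain ⟨⟨α, C⟩, hP⟩ := q
  obtain ⟨⟨α', C'⟩, hP'⟩ := q'
  change α = α' at hα
  subst hα
  apply Subtype.ext
  refine Sigma.ext rfl (heq_of_eq (Subtype.ext ?_))
  rw [← rep_mk (I := I) ⟨α, C⟩, ← rep_mk (I := I) ⟨α, C'⟩, SimpleGraph.ConnectedComponent.eq]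
  refine p1.symm.trans (SimpleGraph.Reachable.trans ?_ p2)
  rw [show (⟨γ ⟨α, C⟩, hγ ⟨α, C⟩⟩ : region I α) = ⟨γ ⟨α, C'⟩, hγ ⟨α, C'⟩⟩ from Subtype.ext hγe]

end Groth.HilbPn
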