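import Groth.Agent.HilbPn.HomBound

/-! `dim Hom(I, A[X]/I) ≤ (2p+1) dim A[X]/I` for an ideal containing a monic polynomial of degree `p`,
over an algebra `A` generated by two elements. -/

set_option autoImplicit false
set_option linter.style.haveILetI false

universe u

open Polynomial

namespace Groth.HilbPn.TgtBound

variable {k : Type u} [Field k] {A : Type u} [CommRing A] [Algebra k A]

/-- Dévissage in the source. -/
theorem hom_devissage_left {E Q N : Type u} [AddCommGroup E] [Module A E] [AddCommGroup Q] [Module A Q]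
    [AddCommGroup N] [Module A N] [Module k N] [IsScalarTower k A N] (g : E →ₗ[A] Q)
    (hg : Function.Surjective g) [Module.Finite k (E →ₗ[A] N)] [Module.Finite k (Q →ₗ[A] N)]
    [Module.Finite k (LinearMap.ker g →ₗ[A] N)] :
    Module.finrank k (E →ₗ[A] N) ≤
      Module.finrank k (LinearMap.ker g →ₗ[A] N) + Module.finrank k (Q →ₗ[A] N) := by
  let r : (E →ₗ[A] N) →ₗ[k] (LinearMap.ker g →ₗ[A] N) :=
    { toFun := fun φ => φ.comp (LinearMap.ker g).subtype, map_add' := fun _ _ => rfl, map_smul' := fun _ _ => rfl }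
  let c : (Q →ₗ[A] N) →ₗ[k] (E →ₗ[A] N) :=
    { toFun := fun φ => φ.comp g, map_add' := fun _ _ => rfl, map_smul' := fun _ _ => rfl }
  have hle : LinearMap.ker r ≤ LinearMap.range c := fun φ hφ => by
    have hk : LinearMap.ker g ≤ LinearMap.ker φ := fun x hx => LinearMap.congr_fun hφ ⟨x, hx⟩
    refine ⟨(LinearMap.ker g).liftQ φ hk ∘ₗ
      (g.quotKerEquivOfSurjective hg).symm.toLinearMap, LinearMap.ext fun x => ?_⟩
    show (LinearMap.ker g).liftQ φ hk ((g.quotKerEquivOfSurjective hg).symm (g x)) = φ x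
    rw [show (g.quotKerEquivOfSurjective hg).symm (g x) = Submodule.Quotient.mk x from
      (LinearEquiv.symm_apply_eq _).2 rfl, Submodule.liftQ_apply]
  have h1 := r.finrank_range_add_finrank_ker
  have h2 : Module.finrank k (LinearMap.range r) ≤ Module.finrank k (LinearMap.ker g →ₗ[A] N) :=
    Submodule.finrank_le _
  have h3 := (Submodule.finrank_mono hle).trans (LinearMap.finrank_range_le c)
  omega

/-- Dévissage in the target. -/
theorem hom_devissage_right {L E Q : Type u} [AddCommGroup L] [Module A L] [Module.Finite A L]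
    [AddCommGroup E] [Module A E] [Module k E] [IsScalarTower k A E] [Module.Finite k E]
    [AddCommGroup Q] [Module A Q] [Module k Q] [IsScalarTower k A Q] [Module.Finite k Q] (g : E →ₗ[A] Q) :
    Module.finrank k (L →ₗ[A] E) ≤
      Module.finrank k (L →ₗ[A] LinearMap.ker g) + Module.finrank k (L →ₗ[A] Q) := by
  haveI : IsScalarTower k A ↥(LinearMap.ker g) := inferInstance
  haveI : Module.Finite k ↥(LinearMap.ker g) :=
    Module.Finite.of_injective ((LinearMap.ker g).subtype.restrictScalars k) (Submodule.injective_subtype _)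
  haveI : Module.Finite k (L →ₗ[A] E) := HomBound.finite_hom
  haveI : Module.Finite k (L →ₗ[A] Q) := HomBound.finite_hom
  haveI : Module.Finite k (L →ₗ[A] LinearMap.ker g) := HomBound.finite_hom
  let r : (L →ₗ[A] E) →ₗ[k] (L →ₗ[A] Q) :=
    { toFun := fun φ => g.comp φ
      map_add' := fun a b => LinearMap.ext fun x => map_add g _ _
      map_smul' := fun c a => LinearMap.ext fun x => LinearMap.map_smul_of_tower g c _ }
  let c : (L →ₗ[A] LinearMap.ker g) →ₗ[k] (L →ₗ[A] E) :=
    { toFun := fun φ => (LinearMap.ker g).subtype.comp φ, map_add' := fun _ _ => rfl, map_smul' := fun _ _ => rfl }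
  have hle : LinearMap.ker r ≤ LinearMap.range c := fun φ hφ =>
    ⟨φ.codRestrict _ fun x => LinearMap.congr_fun hφ x, rfl⟩
  have h1 := r.finrank_range_add_finrank_ker
  have h2 : Module.finrank k (LinearMap.range r) ≤ Module.finrank k (L →ₗ[A] Q) := Submodule.finrank_le _
  have h3 := (Submodule.finrank_mono hle).trans (LinearMap.finrank_range_le c)
  omega

variable (I : Ideal A[X])

/-- The part of `I` of degree less than `i`. -/
noncomputable def part (i : ℕ) : Submodule A A[X] := degreeLT A i ⊓ I.restrictScalars A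

theorem mem_part {i : ℕ} {g : A[X]} : g ∈ part I i ↔ g ∈ degreeLT A i ∧ g ∈ I := Iff.rfl

/-- The coefficient of `X ^ i` on the part of degree at most `i`. -/
noncomputable def lc (i : ℕ) : part I (i + 1) →ₗ[A] A := (Polynomial.lcoeff A i).comp (part I (i + 1)).subtype

/-- The ideal of leading coefficients in degree `i`. -/
noncomputable def lead (i : ℕ) : Ideal A := LinearMap.range (lc I i)

/-- The image in the quotient of the polynomials of degree less than `j`. -/
noncomputable def low (j : ℕ) : Submodule A (A[X] ⧸ I) :=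
  (degreeLT A j).map ((Ideal.Quotient.mkₐ A I).toLinearMap)

theorem degreeLT_succ_iff {j : ℕ} {g : A[X]} (hg : g ∈ degreeLT A (j + 1)) :
    g.coeff j = 0 ↔ g ∈ degreeLT A j := by
  rw [mem_degreeLT, degree_lt_iff_coeff_zero] at hg ⊢
  refine ⟨fun h m hm => ?_, fun h => h j le_rfl⟩
  rcases hm.eq_or_lt with rfl | hlt
  · exact h
  · exact hg m hlt

theorem part_fg [IsNoetherianRing A] (i : ℕ) : Module.Finite A (part I i) := by
  haveI : Module.Finite A (degreeLT A i) := Module.Finite.equiv (Polynomial.degreeLTEquiv A i).symm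
  exact Module.Finite.of_injective (Submodule.inclusion (show part I i ≤ degreeLT A i from inf_le_left))
    (Submodule.inclusion_injective _)

variable {I}

/-- The symbol in degree `j`. -/
theorem exists_symbol (j : ℕ) : ∃ ψ : low I (j + 1) →ₗ[A] A ⧸ lead I j, Function.Surjective ψ ∧
    (LinearMap.ker ψ).map (low I (j + 1)).subtype = low I j := by
  let ev : degreeLT A (j + 1) →ₗ[A] A ⧸ lead I j :=
    (Submodule.mkQ (lead I j)).comp ((Polynomial.lcoeff A j).comp (degreeLT A (j + 1)).subtype)
  let π : degreeLT A (j + 1) →ₗ[A] low I (j + 1) :=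
    ((Ideal.Quotient.mkₐ A I).toLinearMap.comp (degreeLT A (j + 1)).subtype).codRestrict _
      fun x => ⟨x.1, x.2, rfl⟩
  have hπ : Function.Surjective π := by
    rintro ⟨_, g, hg, rfl⟩
    exact ⟨⟨g, hg⟩, rfl⟩
  have hker : LinearMap.ker π ≤ LinearMap.ker ev := fun g hg => by
    have hI : (g : A[X]) ∈ I := Ideal.Quotient.eq_zero_iff_mem.1 (congrArg Subtype.val hg)
    exact (Submodule.Quotient.mk_eq_zero _).2 ⟨⟨g, ⟨g.2, hI⟩⟩, rfl⟩
  refine ⟨(LinearMap.ker π).liftQ ev hker ∘ₗ (π.quotKerEquivOfSurjective hπ).symm.toLinearMap, ?_, ?_⟩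
  · intro y
    obtain ⟨a, rfl⟩ := Submodule.mkQ_surjective _ y
    have hm : monomial j a ∈ degreeLT A (j + 1) := mem_degreeLT.2 ((degree_monomial_le j a).trans_lt (by norm_cast; omega))
    refine ⟨π ⟨monomial j a, hm⟩, ?_⟩
    show (LinearMap.ker π).liftQ ev hker ((π.quotKerEquivOfSurjective hπ).symm (π _)) = _
    rw [show (π.quotKerEquivOfSurjective hπ).symm (π ⟨monomial j a, hm⟩) = Submodule.Quotient.mk ⟨monomial j a, hm⟩ from
      (LinearEquiv.symm_apply_eq _).2 rfl, Submodule.liftQ_apply]
    simp [ev]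
  · have hψ : ∀ g, (LinearMap.ker π).liftQ ev hker ((π.quotKerEquivOfSurjective hπ).symm (π g)) = ev g := fun g => by
      rw [show (π.quotKerEquivOfSurjective hπ).symm (π g) = Submodule.Quotient.mk g from
        (LinearEquiv.symm_apply_eq _).2 rfl, Submodule.liftQ_apply]
    refine le_antisymm ?_ ?_
    · rintro _ ⟨y, hy, rfl⟩
      obtain ⟨g, rfl⟩ := hπ y
      have h0 : ev g = 0 := (hψ g).symm.trans hy
      obtain ⟨h, hh⟩ := (Submodule.Quotient.mk_eq_zero _).1 h0
      have hd : (g : A[X]) - h.1 ∈ degreeLT A j := by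
        rw [← degreeLT_succ_iff (Submodule.sub_mem _ g.2 h.2.1), coeff_sub]
        exact sub_eq_zero.2 hh.symm
      refine ⟨_, hd, ?_⟩
      show Ideal.Quotient.mk I ((g : A[X]) - h.1) = Ideal.Quotient.mk I g
      rw [Ideal.Quotient.eq]
      simpa using I.neg_mem h.2.2
    · rintro _ ⟨g, hg, rfl⟩
      have hg' : g ∈ degreeLT A (j + 1) := degreeLT_mono (Nat.le_succ j) hg
      refine ⟨π ⟨g, hg'⟩, ?_, rfl⟩
      refine LinearMap.mem_ker.2 ((hψ ⟨g, hg'⟩).trans ?_)
      show Submodule.Quotient.mk (g.coeff j) = 0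
      rw [(degreeLT_succ_iff hg').2 hg, Submodule.Quotient.mk_zero]

variable [Module.Finite k (A[X] ⧸ I)]

theorem finite_low (j : ℕ) : Module.Finite k (low I j) :=
  Module.Finite.of_injective ((low I j).subtype.restrictScalars k) (Submodule.injective_subtype _)

theorem finite_quot_lead (j : ℕ) : Module.Finite k (A ⧸ lead I j) := by
  obtain ⟨ψ, hψ, -⟩ := exists_symbol (I := I) j
  haveI := finite_low (k := k) (I := I) (j + 1)
  exact Module.Finite.of_surjective (ψ.restrictScalars k) hψ

theorem sum_colength (p : ℕ) :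
    ∑ j ∈ Finset.range p, Module.finrank k (A ⧸ lead I j) = Module.finrank k (low I p) := by
  induction p with
  | zero =>
    have : low I 0 = ⊥ := by
      refine eq_bot_iff.2 ?_
      rintro _ ⟨g, hg, rfl⟩
      have : g = 0 := degree_eq_bot.1 (by
        have := mem_degreeLT.1 hg
        exact not_bot_lt_iff.1 fun h => by
          rw [degree_eq_natDegree (fun h0 => by simp [h0] at h)] at this
          simp at this)
      simp [this]
    haveI : Subsingleton (low I 0) := by rw [this]; infer_instance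
    rw [Finset.range_zero, Finset.sum_empty, Module.finrank_zero_of_subsingleton]
  | succ p ih =>
    obtain ⟨ψ, hψ, hker⟩ := exists_symbol (I := I) p
    haveI := finite_low (k := k) (I := I) (p + 1)
    have h1 := (ψ.restrictScalars k).finrank_range_add_finrank_ker
    rw [LinearMap.range_eq_top.2 (show Function.Surjective (ψ.restrictScalars k) from hψ), finrank_top] at h1
    have h2 : Module.finrank k (LinearMap.ker (ψ.restrictScalars k)) = Module.finrank k (low I p) := by
      rw [← hker]
      exact ((Submodule.equivMapOfInjective _ (Submodule.injective_subtype _) (LinearMap.ker ψ)).restrictScalars k).finrank_eq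
    rw [Finset.sum_range_succ, ih]
    omega

theorem hom_low_le [IsNoetherianRing A] (L : Ideal A) (p : ℕ) :
    Module.finrank k (↥L →ₗ[A] low I p) ≤ ∑ j ∈ Finset.range p, Module.finrank k (↥L →ₗ[A] A ⧸ lead I j) := by
  induction p with
  | zero =>
    have : ∀ φ : ↥L →ₗ[A] low I 0, φ = 0 := fun φ => LinearMap.ext fun x => by
      obtain ⟨g, hg, hgx⟩ := (φ x).2
      have h0 : g = 0 := Polynomial.ext fun m => by
        simpa using (degree_lt_iff_coeff_zero g 0).1 (mem_degreeLT.1 hg) m (Nat.zero_le m)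
      exact Subtype.ext (by rw [← hgx, h0]; simp)
    haveI : Subsingleton (↥L →ₗ[A] low I 0) := ⟨fun a b => (this a).trans (this b).symm⟩
    rw [Module.finrank_zero_of_subsingleton]
    exact Nat.zero_le _
  | succ p ih =>
    obtain ⟨ψ, hψ, hker⟩ := exists_symbol (I := I) p
    haveI := finite_low (k := k) (I := I) (p + 1)
    haveI := finite_quot_lead (k := k) (I := I) p
    refine (hom_devissage_right (k := k) (L := ↥L) ψ).trans ?_
    rw [Finset.sum_range_succ]
    refine Nat.add_le_add_right (le_trans (le_of_eq ?_) ih) _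
    let e : LinearMap.ker ψ ≃ₗ[A] low I p :=
      (Submodule.equivMapOfInjective _ (Submodule.injective_subtype _) (LinearMap.ker ψ)).trans
        (LinearEquiv.ofEq _ _ hker)
    exact LinearEquiv.finrank_eq
      ({ toFun := fun φ => e.toLinearMap.comp φ
         invFun := fun φ => e.symm.toLinearMap.comp φ
         left_inv := fun φ => LinearMap.ext fun x => e.symm_apply_apply _
         right_inv := fun φ => LinearMap.ext fun x => e.apply_symm_apply _
         map_add' := fun a b => LinearMap.ext fun x => map_add e _ _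
         map_smul' := fun c a => LinearMap.ext fun x => LinearMap.map_smul_of_tower e.toLinearMap c _ } :
        (↥L →ₗ[A] LinearMap.ker ψ) ≃ₗ[k] (↥L →ₗ[A] low I p))

theorem finrank_hom_le [IsNoetherianRing A] {y z : A} (hgen : Algebra.adjoin k ({y, z} : Set A) = ⊤)
    {f : A[X]} (hf : f.Monic) (hfI : f ∈ I) :
    Module.finrank k (↥I →ₗ[A[X]] A[X] ⧸ I) ≤
      (2 * f.natDegree + 1) * Module.finrank k (A[X] ⧸ I) := by
  rcases subsingleton_or_nontrivial A with hA | hA
  · haveI : Subsingleton (A[X] ⧸ I) := by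
      haveI : Subsingleton A[X] := inferInstance
      exact (Submodule.mkQ_surjective I).subsingleton
    haveI : Subsingleton (↥I →ₗ[A[X]] A[X] ⧸ I) := ⟨fun a b => LinearMap.ext fun _ => Subsingleton.elim _ _⟩
    rw [Module.finrank_zero_of_subsingleton]
    exact Nat.zero_le _
  set p := f.natDegree
  set d := Module.finrank k (A[X] ⧸ I)
  have hdegf : f ∈ degreeLT A (p + 1) := mem_degreeLT.2 (degree_le_natDegree.trans_lt (by norm_cast; omega))
  have hrem : ∀ g : A[X], g %ₘ f ∈ degreeLT A p := fun g => mem_degreeLT.2 (by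
    have := degree_modByMonic_lt g hf
    rwa [degree_eq_natDegree hf.ne_zero] at this)
  have hlow : low I p = ⊤ := eq_top_iff.2 fun x _ => by
    obtain ⟨g, rfl⟩ := Ideal.Quotient.mk_surjective x
    refine ⟨g %ₘ f, hrem g, ?_⟩
    show Ideal.Quotient.mk I (g %ₘ f) = Ideal.Quotient.mk I g
    rw [Ideal.Quotient.eq, modByMonic_eq_sub_mul_div g f, sub_sub_cancel_left]
    exact I.neg_mem (I.mul_mem_right _ hfI)
  haveI := fun j => finite_low (k := k) (I := I) j
  haveI := fun j => finite_quot_lead (k := k) (I := I) j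
  haveI := fun i => part_fg I i
  haveI : ∀ i, Module.Finite k (part I i →ₗ[A] A[X] ⧸ I) := fun i => HomBound.finite_hom
  haveI hfinL : ∀ i, Module.Finite k (↥(lead I i) →ₗ[A] A[X] ⧸ I) := fun i => HomBound.finite_hom
  -- restriction to the part of degree at most `p` is injective
  have h0 : Module.finrank k (↥I →ₗ[A[X]] A[X] ⧸ I) ≤ Module.finrank k (part I (p + 1) →ₗ[A] A[X] ⧸ I) := by
    refine LinearMap.finrank_le_finrank_of_injective (f :=
      ({ toFun := fun φ => (φ.restrictScalars A).comp
            ((part I (p + 1)).subtype.codRestrict (I.restrictScalars A) fun g => g.2.2)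
         map_add' := fun _ _ => rfl
         map_smul' := fun _ _ => rfl } :
        (↥I →ₗ[A[X]] A[X] ⧸ I) →ₗ[k] (part I (p + 1) →ₗ[A] A[X] ⧸ I))) fun a b h => ?_
    refine LinearMap.ext fun g => ?_
    have hr : (g : A[X]) %ₘ f ∈ I := by
      rw [modByMonic_eq_sub_mul_div (g : A[X]) f]
      exact I.sub_mem g.2 (I.mul_mem_right _ hfI)
    have ha : a ⟨f, hfI⟩ = b ⟨f, hfI⟩ := LinearMap.congr_fun h ⟨f, hdegf, hfI⟩
    have hb : a ⟨(g : A[X]) %ₘ f, hr⟩ = b ⟨(g : A[X]) %ₘ f, hr⟩ :=
      LinearMap.congr_fun h ⟨(g : A[X]) %ₘ f, degreeLT_mono (Nat.le_succ p) (hrem g), hr⟩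
    have hg : g = ((g : A[X]) /ₘ f) • (⟨f, hfI⟩ : ↥I) + ⟨(g : A[X]) %ₘ f, hr⟩ := Subtype.ext (by
      simp only [Submodule.coe_add, Submodule.coe_smul, smul_eq_mul, mul_comm _ f, add_comm (f * _),
        modByMonic_add_div])
    rw [hg, map_add, map_add, map_smul, map_smul, ha, hb]
  -- filter the source
  have h1 : ∀ i, Module.finrank k (part I i →ₗ[A] A[X] ⧸ I) ≤
      ∑ l ∈ Finset.range i, Module.finrank k (↥(lead I l) →ₗ[A] A[X] ⧸ I) := by
    intro i
    induction i with
    | zero =>
      haveI : Subsingleton (part I 0) := ⟨fun a b => Subtype.ext (by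
        have hz : ∀ g : part I 0, (g : A[X]) = 0 := fun g => Polynomial.ext fun m => by
          simpa using (degree_lt_iff_coeff_zero (g : A[X]) 0).1 (mem_degreeLT.1 g.2.1) m (Nat.zero_le m)
        rw [hz a, hz b])⟩
      haveI : Subsingleton (part I 0 →ₗ[A] A[X] ⧸ I) :=
        ⟨fun a b => LinearMap.ext fun x => by rw [Subsingleton.elim x 0, map_zero, map_zero]⟩
      rw [Module.finrank_zero_of_subsingleton]
      exact Nat.zero_le _
    | succ i ih =>
      let g : part I (i + 1) →ₗ[A] ↥(lead I i) := (lc I i).rangeRestrict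
      have hker : (LinearMap.ker g).map (part I (i + 1)).subtype = part I i := by
        refine le_antisymm ?_ fun x hx => ?_
        · rintro _ ⟨x, hx, rfl⟩
          exact ⟨(degreeLT_succ_iff x.2.1).1 (congrArg Subtype.val hx), x.2.2⟩
        · refine ⟨⟨x, degreeLT_mono (Nat.le_succ i) hx.1, hx.2⟩, ?_, rfl⟩
          exact Subtype.ext ((degreeLT_succ_iff (degreeLT_mono (Nat.le_succ i) hx.1)).2 hx.1)
      let e : LinearMap.ker g ≃ₗ[A] part I i :=
        (Submodule.equivMapOfInjective _ (Submodule.injective_subtype _) (LinearMap.ker g)).trans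
          (LinearEquiv.ofEq _ _ hker)
      let eh : (LinearMap.ker g →ₗ[A] A[X] ⧸ I) ≃ₗ[k] (part I i →ₗ[A] A[X] ⧸ I) :=
        { toFun := fun φ => φ.comp e.symm.toLinearMap
          invFun := fun φ => φ.comp e.toLinearMap
          left_inv := fun φ => LinearMap.ext fun x => congrArg φ (e.symm_apply_apply x)
          right_inv := fun φ => LinearMap.ext fun x => congrArg φ (e.apply_symm_apply x)
          map_add' := fun _ _ => rfl
          map_smul' := fun _ _ => rfl }
      haveI : Module.Finite k (LinearMap.ker g →ₗ[A] A[X] ⧸ I) := Module.Finite.equiv eh.symm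
      haveI : Module.Finite k (↥(lead I i) →ₗ[A] A[X] ⧸ I) := hfinL i
      refine (hom_devissage_left (k := k) g (LinearMap.surjective_rangeRestrict (lc I i))).trans ?_
      rw [Finset.sum_range_succ, eh.finrank_eq]
      exact Nat.add_le_add_right ih _
  -- each leading ideal
  have h2 : ∀ l, Module.finrank k (↥(lead I l) →ₗ[A] A[X] ⧸ I) ≤
      d + p * Module.finrank k (A ⧸ lead I l) := by
    intro l
    let e : low I p ≃ₗ[A] A[X] ⧸ I := (LinearEquiv.ofEq _ _ hlow).trans Submodule.topEquiv
    let eh : (↥(lead I l) →ₗ[A] low I p) ≃ₗ[k] (↥(lead I l) →ₗ[A] A[X] ⧸ I) :=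
      { toFun := fun φ => e.toLinearMap.comp φ
        invFun := fun φ => e.symm.toLinearMap.comp φ
        left_inv := fun φ => LinearMap.ext fun x => e.symm_apply_apply _
        right_inv := fun φ => LinearMap.ext fun x => e.apply_symm_apply _
        map_add' := fun a b => LinearMap.ext fun x => map_add e _ _
        map_smul' := fun c a => LinearMap.ext fun x => LinearMap.map_smul_of_tower e.toLinearMap c _ }
    rw [← eh.finrank_eq]
    refine (hom_low_le (lead I l) p).trans ?_
    refine (Finset.sum_le_sum fun j _ => HomBound.finrank_hom_quot_le hgen (lead I l) (lead I j)).trans ?_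
    rw [Finset.sum_add_distrib, sum_colength, Finset.sum_const, Finset.card_range, smul_eq_mul,
      (e.restrictScalars k).finrank_eq]
  have h3 : Module.finrank k (↥(lead I p) →ₗ[A] A[X] ⧸ I) ≤ d := by
    have htop : (1 : A) ∈ lead I p := ⟨⟨f, hdegf, hfI⟩, hf⟩
    refine LinearMap.finrank_le_finrank_of_injective (f :=
      ({ toFun := fun φ => φ ⟨1, htop⟩, map_add' := fun _ _ => rfl, map_smul' := fun _ _ => rfl } :
        (↥(lead I p) →ₗ[A] A[X] ⧸ I) →ₗ[k] A[X] ⧸ I)) fun a b h => LinearMap.ext fun x => ?_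
    rw [show x = (x : A) • (⟨1, htop⟩ : lead I p) from Subtype.ext (mul_one _).symm, map_smul, map_smul]
    exact congrArg _ h
  have h4 : ∑ l ∈ Finset.range p, Module.finrank k (A ⧸ lead I l) = d := by
    rw [sum_colength, hlow]
    exact (Submodule.topEquiv.restrictScalars k).finrank_eq
  have h5 := h0.trans (h1 (p + 1))
  rw [Finset.sum_range_succ] at h5
  have h6 : ∑ l ∈ Finset.range p, Module.finrank k (↥(lead I l) →ₗ[A] A[X] ⧸ I) ≤ p * d + p * d := by
    refine (Finset.sum_le_sum fun l _ => h2 l).trans (le_of_eq ?_)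
    rw [Finset.sum_add_distrib, Finset.sum_const, Finset.card_range, smul_eq_mul, ← Finset.mul_sum, h4]
  calc Module.finrank k (↥I →ₗ[A[X]] A[X] ⧸ I) ≤ p * d + p * d + d := by omega
    _ = (2 * p + 1) * d := by ring

end Groth.HilbPn.TgtBound
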