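import Groth.Agent.HilbPn.TgtBound
import Groth.Agent.HilbPn.PowerCount

/-! `dim T(I) ≤ (2p+1) d` in three variables, and the comparison with powers of the maximal ideal. -/

set_option autoImplicit false
set_option linter.style.haveILetI false

universe u

open MvPolynomial W4c1hilbpn

namespace Groth.HilbPn.TgtBound

variable {k : Type u} [Field k]

/-- `Hom(I, P/I)` is transported by algebra isomorphisms. -/
theorem finrank_hom_equiv {P Q : Type u} [CommRing P] [Algebra k P] [CommRing Q] [Algebra k Q] (e : P ≃ₐ[k] Q)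
    (I : Ideal P) :
    Module.finrank k (↥I →ₗ[P] P ⧸ I) =
      Module.finrank k (↥(I.map (e : P →+* Q)) →ₗ[Q] Q ⧸ I.map (e : P →+* Q)) ∧
    Module.finrank k (P ⧸ I) = Module.finrank k (Q ⧸ I.map (e : P →+* Q)) := by
  set J := I.map (e : P →+* Q)
  let qe : (P ⧸ I) ≃ₐ[k] Q ⧸ J := Ideal.quotientEquivAlg I J e rfl
  refine ⟨?_, qe.toLinearEquiv.finrank_eq⟩
  have hmem : ∀ x, x ∈ I ↔ e x ∈ J := fun x => by
    refine ⟨fun h => Ideal.mem_map_of_mem _ h, fun h => ?_⟩
    obtain ⟨y, hy, hxy⟩ := (Ideal.mem_map_iff_of_surjective _ e.surjective).1 h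
    rwa [← e.injective (show e y = e x from hxy)]
  have hmem' : ∀ y, y ∈ J → e.symm y ∈ I := fun y hy => (hmem _).2 (by rwa [e.apply_symm_apply])
  have hqe : ∀ (c : P) (v : P ⧸ I), qe (c • v) = e c • qe v := fun c v => by
    obtain ⟨v, rfl⟩ := Ideal.Quotient.mk_surjective v
    show qe (Ideal.Quotient.mk I (c * v)) = Ideal.Quotient.mk J (e c) * qe (Ideal.Quotient.mk I v)
    rw [map_mul, map_mul]
    rfl
  have hqs : ∀ (c : Q) (v : Q ⧸ J), qe.symm (c • v) = e.symm c • qe.symm v := fun c v =>
    qe.injective (by rw [qe.apply_symm_apply, hqe, qe.apply_symm_apply, e.apply_symm_apply])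
  refine LinearEquiv.finrank_eq
    { toFun := fun φ =>
        { toFun := fun y => qe (φ ⟨e.symm y.1, hmem' _ y.2⟩)
          map_add' := fun a b => by
            rw [← map_add, ← map_add φ]; congr 2; exact Subtype.ext (map_add e.symm a.1 b.1)
          map_smul' := fun c a => by
            rw [RingHom.id_apply, show (⟨e.symm (c • a : ↥J).1, hmem' _ (c • a).2⟩ : ↥I) =
              e.symm c • ⟨e.symm a.1, hmem' _ a.2⟩ from Subtype.ext (map_mul e.symm c a.1),
              map_smul, hqe, e.apply_symm_apply] }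
      invFun := fun φ =>
        { toFun := fun x => qe.symm (φ ⟨e x.1, (hmem _).1 x.2⟩)
          map_add' := fun a b => by
            rw [← map_add, ← map_add φ]; congr 2; exact Subtype.ext (map_add e a.1 b.1)
          map_smul' := fun c a => by
            rw [RingHom.id_apply, show (⟨e (c • a : ↥I).1, (hmem _).1 (c • a).2⟩ : ↥J) =
              e c • ⟨e a.1, (hmem _).1 a.2⟩ from Subtype.ext (map_mul e c a.1),
              map_smul, hqs, e.symm_apply_apply] }
      left_inv := fun φ => LinearMap.ext fun x => by simp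
      right_inv := fun φ => LinearMap.ext fun y => by simp
      map_add' := fun a b => LinearMap.ext fun y => map_add qe _ _
      map_smul' := fun c a => LinearMap.ext fun y => map_smul qe c _ }

theorem adjoin_two : Algebra.adjoin k ({X 0, X 1} : Set (MvPolynomial (Fin 2) k)) = ⊤ := by
  rw [← MvPolynomial.adjoin_range_X]
  congr 1
  ext z
  simp only [Set.mem_insert_iff, Set.mem_singleton_iff, Set.mem_range, Fin.exists_fin_two]
  constructor <;> rintro (h | h) <;> simp [h]

/-- The bound, for an ideal with an element monic in the first variable. -/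
theorem finrank_Tgt_le (I : Ideal (MvPolynomial (Fin 3) k)) [Module.Finite k (MvPolynomial (Fin 3) k ⧸ I)]
    {g : MvPolynomial (Fin 3) k} (hg : g ∈ I) (hm : (MvPolynomial.finSuccEquiv k 2 g).Monic) :
    Module.finrank k (Tgt I) ≤
      (2 * (MvPolynomial.finSuccEquiv k 2 g).natDegree + 1) * Module.finrank k (MvPolynomial (Fin 3) k ⧸ I) := by
  obtain ⟨h1, h2⟩ := finrank_hom_equiv (MvPolynomial.finSuccEquiv k 2) I
  set J : Ideal (Polynomial (MvPolynomial (Fin 2) k)) := I.map
    (MvPolynomial.finSuccEquiv k 2 : MvPolynomial (Fin 3) k →+* Polynomial (MvPolynomial (Fin 2) k)) with hJ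
  haveI : Module.Finite k (Polynomial (MvPolynomial (Fin 2) k) ⧸ J) :=
    Module.Finite.equiv (Ideal.quotientEquivAlg I J (MvPolynomial.finSuccEquiv k 2) rfl).toLinearEquiv
  have hmem : MvPolynomial.finSuccEquiv k 2 g ∈ J := Ideal.mem_map_of_mem _ hg
  have h3 := finrank_hom_le (k := k) (A := MvPolynomial (Fin 2) k) (I := J) (adjoin_two (k := k)) hm hmem
  exact (le_of_eq h1).trans (h3.trans (le_of_eq (by rw [h2])))

theorem coeff_finSuccEquiv_eq_C {n : ℕ} {g : MvPolynomial (Fin (n + 1)) k} {e : ℕ} (he : g.totalDegree ≤ e) :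
    (MvPolynomial.finSuccEquiv k n g).natDegree ≤ e ∧
      (MvPolynomial.finSuccEquiv k n g).coeff e =
        C (eval (fun _ => 0) ((MvPolynomial.finSuccEquiv k n g).coeff e)) := by
  set G := MvPolynomial.finSuccEquiv k n g
  refine ⟨Polynomial.natDegree_le_iff_coeff_eq_zero.2 fun i hi => by_contra fun h => ?_, ?_⟩
  · have := totalDegree_coeff_finSuccEquiv_add_le g i h
    omega
  · by_cases h : G.coeff e = 0
    · simp [h]
    · have h0 : (G.coeff e).totalDegree = 0 := by
        have : (G.coeff e).totalDegree + e ≤ g.totalDegree := totalDegree_coeff_finSuccEquiv_add_le g e h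
        omega
      have hC : G.coeff e = C ((G.coeff e).coeff 0) := totalDegree_eq_zero_iff_eq_C.1 h0
      conv_lhs => rw [hC]
      conv_rhs => rw [hC, eval_C]

theorem eval_coeff_finSuccEquiv {n : ℕ} (g : MvPolynomial (Fin (n + 1)) k) :
    (MvPolynomial.finSuccEquiv k n g).map (eval fun _ => (0 : k)) =
      aeval (Fin.cases (Polynomial.X : Polynomial k) fun _ => 0) g := by
  have : ((Polynomial.mapAlgHom (aeval (R := k) fun _ : Fin n => (0 : k))).comp
      (MvPolynomial.finSuccEquiv k n : MvPolynomial (Fin (n + 1)) k →ₐ[k] Polynomial (MvPolynomial (Fin n) k))) =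
      aeval (Fin.cases (Polynomial.X : Polynomial k) fun _ => 0) := by
    refine MvPolynomial.algHom_ext fun i => ?_
    refine Fin.cases ?_ (fun j => ?_) i
    · simp [Polynomial.mapAlgHom, finSuccEquiv_X_zero]
    · simp [Polynomial.mapAlgHom, finSuccEquiv_X_succ]
  have h := DFunLike.congr_fun this g
  exact h

/-- Substitution of linear forms preserves the bound on the degree. -/
theorem totalDegree_aeval_linear_le {σ τ : Type*} [Fintype σ] (L : σ → MvPolynomial τ k)
    (hL : ∀ i, (L i).IsHomogeneous 1) (f : MvPolynomial σ k) : (aeval L f).totalDegree ≤ f.totalDegree := by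
  conv_lhs => rw [← sum_homogeneousComponent f, map_sum]
  refine (totalDegree_finsetSum _ _).trans (Finset.sup_le fun i hi => ?_)
  have h := (homogeneousComponent_isHomogeneous i f).aeval L hL
  rw [one_mul] at h
  exact h.totalDegree_le.trans (Nat.lt_succ_iff.1 (Finset.mem_range.1 hi))

theorem exists_mem_totalDegree_le (I : Ideal (MvPolynomial (Fin 3) k)) [Module.Finite k (MvPolynomial (Fin 3) k ⧸ I)]
    {r : ℕ} (hd : Module.finrank k (MvPolynomial (Fin 3) k ⧸ I) ≤ (r + 2).choose 3) :
    ∃ f ∈ I, f ≠ 0 ∧ f.totalDegree ≤ r := by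
  let T := restrictTotalDegree (Fin 3) k r
  haveI : Module.Finite k T := inferInstance
  let q : T →ₗ[k] MvPolynomial (Fin 3) k ⧸ I := (Ideal.Quotient.mkₐ k I).toLinearMap ∘ₗ T.subtype
  have hdim : (r + 3).choose 3 ≤ Module.finrank k T := by
    let B : {γ : Fin 3 → ℤ // γ ∈ Std (mPow k 3 (r + 1))} → T := fun γ => ⟨monomial (toN γ.1) 1, by
      rw [mem_restrictTotalDegree, totalDegree_monomial _ one_ne_zero]
      have hγ := γ.2.2
      rw [inI_mPow, not_and, not_le] at hγ
      have hsum := hγ γ.2.1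
      rw [Finsupp.sum_fintype _ _ (fun _ => rfl)]
      simp only [toN, Finsupp.equivFunOnFinite_symm_apply_apply, Fin.sum_univ_three] at hsum ⊢
      have := γ.2.1 0; have := γ.2.1 1; have := γ.2.1 2
      push_cast at hsum
      omega⟩
    have hB : LinearIndependent k B := by
      refine LinearIndependent.of_comp T.subtype ?_
      rw [show T.subtype ∘ B = MvPolynomial.basisMonomials (Fin 3) k ∘
          fun γ : {γ : Fin 3 → ℤ // γ ∈ Std (mPow k 3 (r + 1))} => toN γ.1 from funext fun γ => by
        simp [B, coe_basisMonomials]]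
      refine (MvPolynomial.basisMonomials (Fin 3) k).linearIndependent.comp _ fun a b h => Subtype.ext ?_
      rw [← toZ_toN a.2.1, show toN a.1 = toN b.1 from h, toZ_toN b.2.1]
    haveI : Finite {γ : Fin 3 → ℤ // γ ∈ Std (mPow k 3 (r + 1))} := hB.finite
    haveI := Fintype.ofFinite {γ : Fin 3 → ℤ // γ ∈ Std (mPow k 3 (r + 1))}
    have := hB.fintype_card_le_finrank
    rwa [← Nat.card_eq_fintype_card, card_std_mPow] at this
  have hlt : Module.finrank k (MvPolynomial (Fin 3) k ⧸ I) < Module.finrank k T := by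
    have h : (r + 3).choose 3 = (r + 2).choose 2 + (r + 2).choose 3 := Nat.choose_succ_succ' (r + 2) 2
    have : 0 < (r + 2).choose 2 := Nat.choose_pos (by omega)
    omega
  obtain ⟨t, ht, ht0⟩ := Submodule.exists_mem_ne_zero_of_ne_bot
    (LinearMap.ker_ne_bot_of_finrank_lt (f := q) hlt)
  exact ⟨t.1, Ideal.Quotient.eq_zero_iff_mem.1 ht, fun h => ht0 (Subtype.ext h),
    (mem_restrictTotalDegree _ _ _).1 t.2⟩

/-- After a linear change of coordinates an ideal of small colength has a monic element of small degree. -/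
theorem exists_change [Infinite k] (I : Ideal (MvPolynomial (Fin 3) k)) [Module.Finite k (MvPolynomial (Fin 3) k ⧸ I)]
    {r : ℕ} (hd : Module.finrank k (MvPolynomial (Fin 3) k ⧸ I) ≤ (r + 2).choose 3) :
    ∃ (Ψ : MvPolynomial (Fin 3) k ≃ₐ[k] MvPolynomial (Fin 3) k) (g : MvPolynomial (Fin 3) k),
      g ∈ I.map (Ψ : MvPolynomial (Fin 3) k →+* MvPolynomial (Fin 3) k) ∧
        (MvPolynomial.finSuccEquiv k 2 g).Monic ∧ (MvPolynomial.finSuccEquiv k 2 g).natDegree ≤ r := by
  obtain ⟨f, hfI, hf0, hfr⟩ := exists_mem_totalDegree_le I hd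
  set e := f.totalDegree
  rcases Nat.eq_zero_or_pos e with he | he
  · have hfC : f = C (f.coeff 0) := totalDegree_eq_zero_iff_eq_C.1 he
    have htop : I = ⊤ := I.eq_top_of_isUnit_mem hfI (by
      rw [hfC]
      exact (IsUnit.mk0 _ fun h => hf0 (by rw [hfC, h, map_zero])).map C)
    exact ⟨AlgEquiv.refl, 1, by rw [htop, Ideal.map_top]; trivial, by simp [Polynomial.monic_one], by simp⟩
  obtain ⟨h, hh⟩ : ∃ h, h = homogeneousComponent e f := ⟨_, rfl⟩
  have hh0 : h ≠ 0 := by
    subst hh
    obtain ⟨β, hβ, hβe⟩ := Finset.exists_mem_eq_sup f.support (support_nonempty.2 hf0) fun s => s.sum fun _ n => n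
    intro h0
    have := congrArg (coeff β) h0
    rw [coeff_homogeneousComponent, if_pos (by exact hβe.symm), coeff_zero] at this
    exact mem_support_iff.1 hβ this
  obtain ⟨v, hv⟩ : ∃ v, eval v h ≠ 0 := by
    by_contra hc
    push Not at hc
    exact hh0 (MvPolynomial.funext fun v => by rw [hc v, map_zero])
  have hhom : h.IsHomogeneous e := hh ▸ homogeneousComponent_isHomogeneous e f
  obtain ⟨l, hl⟩ : ∃ l, v l ≠ 0 := by
    by_contra hc
    push Not at hc
    refine hv ?_
    rw [show v = 0 from funext hc, eval_zero]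
    exact hhom.coeff_eq_zero (by simp; omega)
  let π : Equiv.Perm (Fin 3) := Equiv.swap 0 l
  have hπ : ∀ i, i ≠ l → π i ≠ 0 := fun i hi h => hi (by
    rw [← Equiv.swap_apply_self 0 l i, show Equiv.swap 0 l i = 0 from h, Equiv.swap_apply_left])
  let im : Fin 3 → MvPolynomial (Fin 3) k := fun i =>
    if i = l then C (v l) * X 0 else C (v i) * X 0 + X (π i)
  let inv : Fin 3 → MvPolynomial (Fin 3) k := fun j =>
    if j = 0 then C (v l)⁻¹ * X l else X (π j) - C (v (π j) * (v l)⁻¹) * X l
  have hππ : ∀ i, π (π i) = i := fun i => Equiv.swap_apply_self 0 l i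
  let Ψ : MvPolynomial (Fin 3) k ≃ₐ[k] MvPolynomial (Fin 3) k := AlgEquiv.ofAlgHom (aeval im) (aeval inv)
    (MvPolynomial.algHom_ext fun j => by
      simp only [AlgHom.comp_apply, aeval_X, AlgHom.id_apply, inv]
      by_cases hj : j = 0
      · subst hj
        simp only [if_true, map_mul, aeval_C, aeval_X, im, algebraMap_eq]
        rw [← mul_assoc, ← C_mul, inv_mul_cancel₀ hl, C_1, one_mul]
      · have hj' : π j ≠ l := fun h => hj (by rw [← hππ j, h]; exact Equiv.swap_apply_right 0 l)
        simp only [if_neg hj, map_sub, map_mul, aeval_C, aeval_X, im, if_neg hj', if_true, hππ, algebraMap_eq]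
        rw [mul_assoc, ← mul_assoc (C (v l)⁻¹), ← C_mul, inv_mul_cancel₀ hl, C_1, one_mul, add_sub_cancel_left])
    (MvPolynomial.algHom_ext fun i => by
      simp only [AlgHom.comp_apply, aeval_X, AlgHom.id_apply, im]
      by_cases hi : i = l
      · subst hi
        simp only [if_true, map_mul, aeval_C, aeval_X, inv, algebraMap_eq]
        rw [← mul_assoc, ← C_mul, mul_inv_cancel₀ hl, C_1, one_mul]
      · simp only [if_neg hi, map_add, map_mul, aeval_C, aeval_X, inv, if_neg (hπ i hi), if_true, hππ,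
          algebraMap_eq]
        ring)
  have him : ∀ i, (im i).IsHomogeneous 1 := fun i => by
    simp only [im]
    split_ifs
    · exact (isHomogeneous_X k 0).C_mul _
    · exact ((isHomogeneous_X k 0).C_mul _).add (isHomogeneous_X k _)
  have hdeg : (Ψ f).totalDegree ≤ e := totalDegree_aeval_linear_le im him f
  obtain ⟨hnd, hco⟩ := coeff_finSuccEquiv_eq_C hdeg
  set G := MvPolynomial.finSuccEquiv k 2 (Ψ f)
  have hval : eval (fun _ => 0) (G.coeff e) = eval v h := by
    rw [← Polynomial.coeff_map, eval_coeff_finSuccEquiv]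
    show ((aeval (Fin.cases (Polynomial.X : Polynomial k) fun _ => 0)) (aeval im f)).coeff e = _
    rw [comp_aeval_apply]
    have heval : (fun i => aeval (Fin.cases (Polynomial.X : Polynomial k) fun _ => 0) (im i)) =
        fun i => Polynomial.C (v i) * Polynomial.X := funext fun i => by
      simp only [im]
      split_ifs with hi
      · subst hi; simp
      · obtain ⟨j, hj⟩ := Fin.exists_succ_eq.2 (hπ i hi)
        simp [← hj]
    rw [heval]
    conv_lhs => rw [← sum_homogeneousComponent f, map_sum, Polynomial.finsetSum_coeff]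
    rw [Finset.sum_eq_single e]
    · rw [← hh]
      have : aeval (fun i => Polynomial.C (v i) * Polynomial.X) h = Polynomial.C (eval v h) * Polynomial.X ^ e := by
        conv_lhs => rw [as_sum h, map_sum]
        conv_rhs => rw [as_sum h, map_sum, map_sum, Finset.sum_mul]
        refine Finset.sum_congr rfl fun β hβ => ?_
        rw [aeval_monomial, eval_monomial, map_mul, Finsupp.prod_fintype _ _ (fun _ => pow_zero _),
          Finsupp.prod_fintype _ _ (fun _ => pow_zero _), map_prod, mul_assoc, Polynomial.algebraMap_eq]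
        congr 1
        simp only [mul_pow, Finset.prod_mul_distrib, Finset.prod_pow_eq_pow_sum, map_pow]
        congr 2
        have := hhom (mem_support_iff.1 hβ)
        simpa [Finsupp.weight_apply, Finsupp.sum_fintype] using this
      rw [this, Polynomial.coeff_C_mul, Polynomial.coeff_X_pow, if_pos rfl, mul_one]
    · intro n _ hn
      have hnh := homogeneousComponent_isHomogeneous n f
      rw [as_sum (homogeneousComponent n f), map_sum, Polynomial.finsetSum_coeff]
      refine Finset.sum_eq_zero fun β hβ => ?_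
      rw [aeval_monomial, Finsupp.prod_fintype _ _ (fun _ => pow_zero _), Polynomial.algebraMap_eq,
        Polynomial.coeff_C_mul]
      simp only [mul_pow, Finset.prod_mul_distrib, Finset.prod_pow_eq_pow_sum, ← map_pow, ← map_prod,
        Polynomial.coeff_C_mul, Polynomial.coeff_X_pow]
      rw [if_neg ?_, mul_zero, mul_zero]
      intro hne
      apply hn
      have := hnh (mem_support_iff.1 hβ)
      rw [hne]
      simpa [Finsupp.weight_apply, Finsupp.sum_fintype] using this.symm
    · intro he'; exact absurd (Finset.mem_range.2 (Nat.lt_succ_self e)) he'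
  rw [hval] at hco
  refine ⟨Ψ, C (eval v h)⁻¹ * Ψ f, Ideal.mul_mem_left _ _ (Ideal.mem_map_of_mem _ hfI), ?_, ?_⟩
  · refine Polynomial.monic_of_natDegree_le_of_coeff_eq_one e ?_ ?_
    · rw [map_mul, finSuccEquiv_apply, eval₂Hom_C, RingHom.comp_apply]
      exact (Polynomial.natDegree_C_mul_le _ _).trans hnd
    · rw [map_mul, finSuccEquiv_apply, eval₂Hom_C, RingHom.comp_apply, Polynomial.coeff_C_mul, hco, ← C_mul,
        inv_mul_cancel₀ hv, C_1]
  · rw [map_mul, finSuccEquiv_apply, eval₂Hom_C, RingHom.comp_apply]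
    exact (Polynomial.natDegree_C_mul_le _ _).trans (hnd.trans hfr)

theorem choose_bound (r : ℕ) :
    6 * (r + 2).choose 3 = (r + 2) * (r + 1) * r ∧
      4 * ((r + 2).choose 2 * (r + 1).choose 2) = (r + 2) * (r + 1) * ((r + 1) * r) := by
  have f3 := Nat.descFactorial_eq_factorial_mul_choose (r + 2) 3
  have f2 := Nat.descFactorial_eq_factorial_mul_choose (r + 2) 2
  have f1 := Nat.descFactorial_eq_factorial_mul_choose (r + 1) 2
  simp [Nat.descFactorial_succ, Nat.factorial] at f3 f2 f1
  refine ⟨by rw [← f3]; ring, ?_⟩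
  calc 4 * ((r + 2).choose 2 * (r + 1).choose 2) = (2 * (r + 2).choose 2) * (2 * (r + 1).choose 2) := by ring
    _ = _ := by rw [← f2, ← f1]; ring

theorem three_mul_le [Infinite k] (I : Ideal (MvPolynomial (Fin 3) k)) [Module.Finite k (MvPolynomial (Fin 3) k ⧸ I)]
    {r : ℕ} (hd : Module.finrank k (MvPolynomial (Fin 3) k ⧸ I) ≤ (r + 2).choose 3) :
    3 * Module.finrank k (Tgt I) ≤ 4 * Module.finrank k (Tgt (mPow k 3 r)) := by
  obtain ⟨Ψ, g, hg, hm, hdeg⟩ := exists_change I hd
  obtain ⟨h1, h2⟩ := finrank_hom_equiv Ψ I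
  haveI : Module.Finite k (MvPolynomial (Fin 3) k ⧸ I.map (Ψ : MvPolynomial (Fin 3) k →+* MvPolynomial (Fin 3) k)) :=
    Module.Finite.equiv (Ideal.quotientEquivAlg I _ Ψ rfl).toLinearEquiv
  have h3 := finrank_Tgt_le _ hg hm
  rw [← h2] at h3
  obtain ⟨a, b⟩ := choose_bound r
  rw [(mPow_counts r 0).2.2, b]
  set d := Module.finrank k (MvPolynomial (Fin 3) k ⧸ I)
  have h5 : Module.finrank k (Tgt I) ≤ (2 * r + 1) * (r + 2).choose 3 :=
    (h1.le.trans h3).trans (Nat.mul_le_mul (by omega) hd)
  nlinarith [h5, a, Nat.zero_le ((r + 2) * (r + 1) * r)]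

theorem le_of_X_pow_mem (I : Ideal (MvPolynomial (Fin 3) k)) [Module.Finite k (MvPolynomial (Fin 3) k ⧸ I)]
    {r p : ℕ} (hd : Module.finrank k (MvPolynomial (Fin 3) k ⧸ I) ≤ (r + 2).choose 3) (hp : 4 * p ≤ 3 * r + 1)
    (hx : (X 0 : MvPolynomial (Fin 3) k) ^ p ∈ I) :
    Module.finrank k (Tgt I) ≤ Module.finrank k (Tgt (mPow k 3 r)) := by
  have hm : MvPolynomial.finSuccEquiv k 2 (X 0 ^ p) = Polynomial.X ^ p := by
    rw [map_pow, finSuccEquiv_X_zero]
  have h := finrank_Tgt_le I hx (hm ▸ Polynomial.monic_X_pow p)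
  rw [hm, Polynomial.natDegree_X_pow] at h
  obtain ⟨a, b⟩ := choose_bound r
  rw [(mPow_counts r 0).2.2]
  set d := Module.finrank k (MvPolynomial (Fin 3) k ⧸ I)
  have h5 := h.trans (Nat.mul_le_mul_left _ hd)
  nlinarith [h5, a, b, Nat.mul_le_mul_right ((r + 2).choose 3) (show 2 * (2 * p + 1) ≤ 3 * (r + 1) by omega)]

end Groth.HilbPn.TgtBound
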