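import Groth.Agent.HilbPn.General
import Mathlib.RingTheory.MvPolynomial.Ideal

/-! Degree-zero homomorphisms for the two-block family: the lattice description. -/

set_option autoImplicit false

universe u

open MvPolynomial W4c1hilbpn

namespace Groth.HilbPn.TwoBlock

attribute [local instance] Classical.propDecidable

variable {k : Type u} [Field k] {n q m : ℕ}

/-- The unit vector of a coordinate given by a natural number (zero out of range). -/
noncomputable def E (i : ℕ) : Fin (n + 1) → ℤ := fun l => if l.val = i then 1 else 0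

/-- A coordinate given by a natural number (zero out of range). -/
noncomputable def at' (v : Fin (n + 1) → ℤ) (i : ℕ) : ℤ := if h : i < n + 1 then v ⟨i, h⟩ else 0

theorem at_E (i j : ℕ) (hj : j < n + 1) : at' (E (n := n) i) j = if j = i then 1 else 0 := by
  simp [at', hj, E]

theorem at_add (v w : Fin (n + 1) → ℤ) (i : ℕ) : at' (v + w) i = at' v i + at' w i := by
  unfold at'; split_ifs <;> simp

theorem at_sub (v w : Fin (n + 1) → ℤ) (i : ℕ) : at' (v - w) i = at' v i - at' w i := by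
  unfold at'; split_ifs <;> simp

theorem at_smul (c : ℤ) (v : Fin (n + 1) → ℤ) (i : ℕ) : at' (fun l => c * v l) i = c * at' v i := by
  unfold at'; split_ifs <;> simp

theorem at_nonneg {v : Fin (n + 1) → ℤ} (h : ∀ l, 0 ≤ v l) (i : ℕ) : 0 ≤ at' v i := by
  unfold at'; split_ifs
  · exact h _
  · exact le_rfl

theorem ev_eq (z : Fin (n + 1)) : ev z = E (n := n) z.val := by
  funext l
  simp only [toZ, E, Finsupp.single_apply, Fin.ext_iff]
  split_ifs <;> simp <;> omega

theorem sum_E {i : ℕ} (hi : i < n + 1) : ∑ l, E (n := n) i l = 1 := by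
  rw [show E (n := n) i = ev (⟨i, hi⟩ : Fin (n + 1)) from (ev_eq ⟨i, hi⟩).symm]
  simp [toZ, Finsupp.single_apply, apply_ite, Finset.sum_ite_eq]

/-- Membership in the two-block ideal, on exponent vectors. -/
def Mem (n q m : ℕ) (v : Fin (n + 1) → ℤ) : Prop :=
  2 ≤ at' v 0 ∨ (1 ≤ at' v 0 ∧ ∃ l, 1 ≤ l ∧ l < n ∧ 1 ≤ at' v l) ∨
    ((q : ℤ) + 1 ≤ at' v 1) ∨ ((q : ℤ) ≤ at' v 1 ∧ ∃ l, 2 ≤ l ∧ l ≤ m ∧ 1 ≤ at' v l)

variable (n q m) in
/-- The ideal has the two-block exponent set. -/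
def IsTwoBlock (I : Ideal (MvPolynomial (Fin (n + 1)) k)) : Prop :=
  ∀ v, InI I v ↔ (∀ l, 0 ≤ v l) ∧ Mem n q m v

variable {I : Ideal (MvPolynomial (Fin (n + 1)) k)}

/-- A family of components, each given by a representative and an invariant condition on two coordinates. -/
structure Fam (I : Ideal (MvPolynomial (Fin (n + 1)) k)) where
  /-- index -/
  T : Type
  fin : Fintype T
  /-- multidegree -/
  deg : T → (Fin (n + 1) → ℤ)
  /-- representative -/
  pt : T → (Fin (n + 1) → ℤ)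
  /-- invariant -/
  cond : T → ℤ → ℤ → Prop
  pt_nonneg : ∀ t l, 0 ≤ pt t l
  pt_mem : ∀ t, InI I (pt t - deg t)
  pt_not_mem : ∀ t, ¬ InI I (pt t)
  pt_cond : ∀ t, cond t (at' (pt t) 0) (at' (pt t) 1)
  deg_sum : ∀ t, ∑ l, deg t l = 0
  hneg : ∀ t (a : Fin (n + 1) → ℤ) (z : Fin (n + 1)), InI I (a - deg t) → ¬ InI I (a + ev z) →
    (∀ l, 0 ≤ (a + ev z) l) → a z = -1 → cond t (at' (a + ev z) 0) (at' (a + ev z) 1) → False
  hzero : ∀ t (a : Fin (n + 1) → ℤ), InI I (a - deg t) → ¬ InI I (a + E 0) → (∀ l, 0 ≤ a l) → at' a 0 = 0 →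
    (cond t 0 (at' a 1) ↔ cond t 1 (at' a 1))
  hone : ∀ t (a : Fin (n + 1) → ℤ), InI I (a - deg t) → ¬ InI I (a + E 1) → (∀ l, 0 ≤ a l) → at' a 0 = 0 →
    (cond t 0 (at' a 1) ↔ cond t 0 (at' a 1 + 1))
  sep : ∀ t t', deg t = deg t' → cond t (at' (pt t') 0) (at' (pt t') 1) → t = t'

/-- The representative lies in the region. -/
theorem Fam.pt_region (F : Fam I) (t : F.T) : F.pt t ∈ region I (F.deg t) :=
  mem_region.2 ⟨F.pt_mem t, F.pt_not_mem t⟩

/-- The invariant of a family member. -/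
def Fam.Inv (F : Fam I) (t : F.T) (v : Fin (n + 1) → ℤ) : Prop :=
  (∀ l, 0 ≤ v l) ∧ F.cond t (at' v 0) (at' v 1)

theorem Fam.inv_step (F : Fam I) (hB : IsTwoBlock n q m I) (hn : 2 ≤ n) (t : F.T)
    (a : Fin (n + 1) → ℤ) (z : Fin (n + 1)) (ha : a ∈ region I (F.deg t))
    (hb : a + ev z ∈ region I (F.deg t)) : F.Inv t (a + ev z) ↔ F.Inv t a := by
  obtain ⟨ha1, ha2⟩ := mem_region.1 ha
  obtain ⟨-, hb2⟩ := mem_region.1 hb
  by_cases h0 : ∀ l, 0 ≤ a l
  · have hb0 : ∀ l, 0 ≤ (a + ev z) l := fun l => (h0 l).trans (le_add_ev a z l)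
    simp only [Fam.Inv, h0, hb0, implies_true, true_and]
    by_cases hz0 : z.val = 0
    · rw [ev_eq, hz0] at hb2 ⊢
      have e1 : at' (a + E 0) 1 = at' a 1 := by rw [at_add, at_E _ _ (by omega)]; simp
      have e0 : at' (a + E 0) 0 = at' a 0 + 1 := by rw [at_add, at_E _ _ (by omega)]; simp
      have ha0 : at' a 0 = 0 := by
        have := at_nonneg h0 0
        by_contra hne
        refine hb2 ((hB _).2 ⟨fun l => ?_, Or.inl (by omega)⟩)
        have := h0 l
        simp only [Pi.add_apply, E]; split_ifs <;> omega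
      rw [e0, e1, ha0]
      exact (F.hzero t a ha1 hb2 h0 ha0).symm
    · have e0 : at' (a + ev z) 0 = at' a 0 := by
        rw [ev_eq, at_add, at_E _ _ (by omega), if_neg (Ne.symm hz0), add_zero]
      by_cases hz1 : z.val = 1
      · rw [ev_eq, hz1] at hb2 hb0 e0 ⊢
        have e1 : at' (a + E 1) 1 = at' a 1 + 1 := by rw [at_add, at_E _ _ (by omega)]; simp
        rw [e0, e1]
        by_cases ha0 : at' a 0 = 0
        · rw [ha0]; exact (F.hone t a ha1 hb2 h0 ha0).symm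
        · exfalso
          have := at_nonneg h0 0
          have := at_nonneg h0 1
          exact hb2 ((hB _).2 ⟨hb0, Or.inr (Or.inl ⟨by omega, 1, le_rfl, by omega, by omega⟩)⟩)
      · rw [e0, show at' (a + ev z) 1 = at' a 1 by
          rw [ev_eq, at_add, at_E _ _ (by omega), if_neg (Ne.symm hz1), add_zero]]
  · refine ⟨fun h => ?_, fun h => absurd h.1 h0⟩
    exfalso
    push Not at h0
    obtain ⟨l, hl⟩ := h0
    have h1 := h.1 l
    simp only [Pi.add_apply] at h1
    obtain rfl : l = z := by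
      by_contra hne
      rw [ev_of_ne hne] at h1; omega
    rw [ev_self] at h1
    exact F.hneg t a l ha1 hb2 h.1 (by omega) h.2

/-- The cell of a family member. -/
noncomputable def Fam.cell (F : Fam I) (hB : IsTwoBlock n q m I) (hn : 2 ≤ n) (t : F.T) : Cells I :=
  ⟨F.deg t, (regGraph I (F.deg t)).connectedComponentMk ⟨F.pt t, F.pt_region t⟩, fun x hx => by
    rw [SimpleGraph.ConnectedComponent.mem_supp_iff, SimpleGraph.ConnectedComponent.eq] at hx
    exact ((inv_of_step (F.Inv t) (F.inv_step hB hn t) hx).2 ⟨F.pt_nonneg t, F.pt_cond t⟩).1⟩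

theorem Fam.cell_injective (F : Fam I) (hB : IsTwoBlock n q m I) (hn : 2 ≤ n) :
    Function.Injective (F.cell hB hn) := by
  intro t t' h
  have hd : F.deg t = F.deg t' := congrArg Sigma.fst h
  have hr : ∀ hh : F.pt t' ∈ region I (F.deg t),
      (regGraph I (F.deg t)).Reachable ⟨F.pt t, F.pt_region t⟩ ⟨F.pt t', hh⟩ := by
    intro hh
    have aux : ∀ (α : Fin (n + 1) → ℤ) (C : Good I α) (h1 : F.pt t' ∈ region I α),
        F.cell hB hn t' = ⟨α, C⟩ → C.1 = (regGraph I α).connectedComponentMk ⟨F.pt t', h1⟩ := by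
      intro α C h1 he
      cases he
      rfl
    exact SimpleGraph.ConnectedComponent.eq.1 (aux _ _ hh h.symm)
  have hh : F.pt t' ∈ region I (F.deg t) := by rw [hd]; exact F.pt_region t'
  exact F.sep t t' hd (((inv_of_step (F.Inv t) (F.inv_step hB hn t) (hr hh)).1 ⟨F.pt_nonneg t, F.pt_cond t⟩).2)

/-- The union of two separated families. -/
def Fam.sum (F G : Fam I)
    (h1 : ∀ t u, F.deg t = G.deg u → ¬ F.cond t (at' (G.pt u) 0) (at' (G.pt u) 1))
    (h2 : ∀ t u, F.deg t = G.deg u → ¬ G.cond u (at' (F.pt t) 0) (at' (F.pt t) 1)) : Fam I where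
  T := F.T ⊕ G.T
  fin := @instFintypeSum _ _ F.fin G.fin
  deg := Sum.elim F.deg G.deg
  pt := Sum.elim F.pt G.pt
  cond := Sum.elim F.cond G.cond
  pt_nonneg t := match t with | .inl t => F.pt_nonneg t | .inr t => G.pt_nonneg t
  pt_mem t := match t with | .inl t => F.pt_mem t | .inr t => G.pt_mem t
  pt_not_mem t := match t with | .inl t => F.pt_not_mem t | .inr t => G.pt_not_mem t
  pt_cond t := match t with | .inl t => F.pt_cond t | .inr t => G.pt_cond t
  deg_sum t := match t with | .inl t => F.deg_sum t | .inr t => G.deg_sum t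
  hneg t := match t with | .inl t => F.hneg t | .inr t => G.hneg t
  hzero t := match t with | .inl t => F.hzero t | .inr t => G.hzero t
  hone t := match t with | .inl t => F.hone t | .inr t => G.hone t
  sep := fun
    | .inl t, .inl t', hd, hc => congrArg Sum.inl (F.sep t t' hd hc)
    | .inl t, .inr u, hd, hc => absurd hc (h1 t u hd)
    | .inr u, .inl t, hd, hc => absurd hc (h2 t u hd.symm)
    | .inr u, .inr u', hd, hc => congrArg Sum.inr (G.sep u u' hd hc)

/-- A point is connected to a member of the family. -/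
def Fam.Covers (F : Fam I) (α γ : Fin (n + 1) → ℤ) : Prop :=
  ∃ t, ∃ h : γ ∈ region I (F.deg t), F.deg t = α ∧
    (regGraph I (F.deg t)).Reachable ⟨γ, h⟩ ⟨F.pt t, F.pt_region t⟩

theorem Fam.covers_pt (F : Fam I) (t : F.T) : F.Covers (F.deg t) (F.pt t) :=
  ⟨t, F.pt_region t, rfl, SimpleGraph.Reachable.refl _⟩

theorem Fam.Covers.inl {F G : Fam I} {h1 h2} {α γ : Fin (n + 1) → ℤ} (h : F.Covers α γ) :
    (F.sum G h1 h2).Covers α γ := by
  obtain ⟨t, hh, e, r⟩ := h
  exact ⟨Sum.inl t, hh, e, r⟩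

theorem Fam.Covers.inr {F G : Fam I} {h1 h2} {α γ : Fin (n + 1) → ℤ} (h : G.Covers α γ) :
    (F.sum G h1 h2).Covers α γ := by
  obtain ⟨t, hh, e, r⟩ := h
  exact ⟨Sum.inr t, hh, e, r⟩

/-- A generator point of a good component. -/
def GenPoint (I : Ideal (MvPolynomial (Fin (n + 1)) k)) (α γ : Fin (n + 1) → ℤ) : Prop :=
  ∑ l, α l = 0 ∧ InI I (γ - α) ∧ (∀ z, ¬ InI I (γ - α - ev z)) ∧ ¬ InI I γ ∧
    ∀ (δ : Fin (n + 1) → ℤ) (h : δ ∈ region I α) (hγ : γ ∈ region I α),
      (regGraph I α).Reachable ⟨δ, h⟩ ⟨γ, hγ⟩ → ∀ l, 0 ≤ δ l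

theorem GenPoint.nonneg {α γ : Fin (n + 1) → ℤ} (h : GenPoint I α γ) (l : Fin (n + 1)) : 0 ≤ γ l :=
  h.2.2.2.2 γ (mem_region.2 ⟨h.2.1, h.2.2.2.1⟩) (mem_region.2 ⟨h.2.1, h.2.2.2.1⟩) (SimpleGraph.Reachable.refl _) l

theorem GenPoint.mem {α γ : Fin (n + 1) → ℤ} (h : GenPoint I α γ) : γ ∈ region I α :=
  mem_region.2 ⟨h.2.1, h.2.2.2.1⟩

theorem Fam.count (hI : IsMonomial I) (F : Fam I) (hB : IsTwoBlock n q m I) (hn : 2 ≤ n)
    (hcov : ∀ α γ, GenPoint I α γ → F.Covers α γ) :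
    Module.finrank k ↥(⨆ α : {α : Fin (n + 1) → ℤ // ∑ i, α i = 0}, tPiece I α.1) = @Fintype.card F.T F.fin := by
  letI := F.fin
  let f : F.T → {c : Cells I // ∑ i, c.1 i = 0} := fun t => ⟨F.cell hB hn t, F.deg_sum t⟩
  have hf : Function.Bijective f := by
    refine ⟨fun t t' h => F.cell_injective hB hn (congrArg Subtype.val h), fun c => ?_⟩
    obtain ⟨γ, hγ, hr, hin, hmin⟩ := exists_gen_point c.1
    obtain ⟨t, hh, he, hrt⟩ := hcov c.1.1 γ ⟨c.2, hin, hmin, (mem_region.1 hγ).2,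
      fun δ h _ hd => good_of_reachable c.1 (hd.trans hr)⟩
    refine ⟨t, Subtype.ext ?_⟩
    obtain ⟨⟨α, C⟩, hc⟩ := c
    change F.deg t = α at he
    subst he
    refine Sigma.ext rfl (heq_of_eq (Subtype.ext ?_))
    refine Eq.trans ?_ (rep_mk (I := I) ⟨_, C⟩)
    exact SimpleGraph.ConnectedComponent.eq.2 (hrt.symm.trans hr)
  haveI : Finite {c : Cells I // ∑ i, c.1 i = 0} := Finite.of_surjective f hf.2
  rw [finrank_iSup_of_finite hI (fun α => ∑ i, α i = 0), ← Nat.card_eq_of_bijective f hf, Nat.card_eq_fintype_card]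

end Groth.HilbPn.TwoBlock
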