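import Groth.Agent.HilbPn.TwoBlockFam
import Mathlib.Algebra.Order.Antidiag.FinsuppEquiv

/-! Every degree-zero component of a two-block ideal belongs to one of the families. -/

set_option autoImplicit false

universe u

open MvPolynomial W4c1hilbpn

namespace Groth.HilbPn.TwoBlock

attribute [local instance] Classical.propDecidable

variable {k : Type u} [Field k] {n q m : ℕ} {I : Ideal (MvPolynomial (Fin (n + 1)) k)}

theorem eq_smul_two {v : Fin (n + 1) → ℤ} {c : ℕ} (hc : c < n + 1) (hcn : c ≠ n)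
    (h : ∀ l, l < n + 1 → l ≠ c → l ≠ n → at' v l = 0) :
    v = (fun l => at' v c * E (n := n) c l) + fun l => at' v n * E (n := n) n l := by
  refine ext_at fun i hi => ?_
  rw [at_add, at_smul, at_smul, at_E' c, at_E' n]
  by_cases h1 : i = c
  · subst h1; simp [hc, hcn]
  · by_cases h2 : i = n
    · subst h2; simp [h1]
    · simp [h1, h2, h i hi h1 h2]

theorem sum_two {v : Fin (n + 1) → ℤ} {c : ℕ} (hc : c < n + 1) (hcn : c ≠ n)
    (h : ∀ l, l < n + 1 → l ≠ c → l ≠ n → at' v l = 0) : ∑ l, v l = at' v c + at' v n := by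
  conv_lhs => rw [eq_smul_two hc hcn h]
  simp only [Pi.add_apply, Finset.sum_add_distrib, sum_smul _ hc, sum_smul _ (Nat.lt_succ_self n)]

theorem exists_unit {v : Fin (n + 1) → ℤ} (h0 : ∀ l, 0 ≤ v l) (hs : ∑ l, v l = 1) :
    ∃ a, a < n + 1 ∧ v = E a := by
  obtain ⟨l, -, hl⟩ := Finset.exists_ne_zero_of_sum_ne_zero (by rw [hs]; exact one_ne_zero)
  have hsplit := Finset.add_sum_erase Finset.univ v (Finset.mem_univ l)
  have hrest := Finset.sum_nonneg fun z (_ : z ∈ Finset.univ.erase l) => h0 z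
  refine ⟨l.val, l.isLt, funext fun z => ?_⟩
  by_cases hz : z = l
  · subst hz
    rw [E_apply, if_pos rfl]
    have := h0 z
    omega
  · have := Finset.single_le_sum (f := v) (fun w _ => h0 w) (Finset.mem_erase.2 ⟨hz, Finset.mem_univ z⟩)
    have := h0 z
    have := h0 l
    simp only [E_apply, if_neg fun h => hz (Fin.ext h)]
    omega

theorem minimal_eq {α γ w : Fin (n + 1) → ℤ} (hg : GenPoint I α γ) (hw : InI I w)
    (hle : ∀ l, w l ≤ (γ - α) l) : γ - α = w := by
  funext l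
  by_contra hne
  refine hg.2.2.1 l (hw.mono fun z => ?_)
  have := hle z
  by_cases h : z = l
  · subst h; simp only [Pi.sub_apply, ev_self] at *; omega
  · simp only [Pi.sub_apply, ev_of_ne h] at *; omega

theorem le_of_at {v w : Fin (n + 1) → ℤ} (h : ∀ i, at' v i ≤ at' w i) (l : Fin (n + 1)) : v l ≤ w l := by
  rw [← at_val v l, ← at_val w l]; exact h _

variable (hB : IsTwoBlock n q m I) (hn : 3 ≤ n) (hq : 1 ≤ q) (hm : 1 ≤ m) (hmn : m + 1 ≤ n)
include hB hn hq hm hmn

theorem gen_cases {α γ : Fin (n + 1) → ℤ} (hg : GenPoint I α γ) :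
    (∃ i, i < n ∧ γ - α = E 0 + E i) ∨
      ∃ j, 1 ≤ j ∧ j ≤ m ∧ γ - α = (fun l => (q : ℤ) * E (n := n) 1 l) + E j := by
  obtain ⟨v0, hMem⟩ := (inI_iff hB _).1 hg.2.1
  have mk : ∀ w : Fin (n + 1) → ℤ, (∀ i, 0 ≤ at' w i) → Mem n q m w →
      (∀ i, at' w i ≤ at' (γ - α) i) → γ - α = w := fun w h0 hM hle =>
    minimal_eq hg ((inI_iff hB _).2 ⟨h0, hM⟩) (le_of_at hle)
  rcases hMem with h1 | ⟨h1, l, hl, hl', h2⟩ | h1 | ⟨h1, l, hl, hl', h2⟩
  · refine Or.inl ⟨0, by omega, mk _ (fun i => by rw [at_add, at_E']; split_ifs <;> omega) (Or.inl ?_) fun i => ?_⟩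
    · rw [at_add, at_E_self (by omega)]; omega
    · have := v0 i
      rw [at_add, at_E']; split_ifs with h
      · rw [h.1]; omega
      · omega
  · refine Or.inl ⟨l, hl', mk _ (fun i => by rw [at_add, at_E', at_E']; split_ifs <;> omega)
      (Or.inr (Or.inl ⟨?_, l, hl, hl', ?_⟩)) fun i => ?_⟩
    · rw [at_add, at_E_self (by omega), at_E_ne (by omega)]; omega
    · rw [at_add, at_E_ne (show l ≠ 0 by omega), at_E_self (by omega)]; omega
    · have := v0 i
      rw [at_add, at_E', at_E']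
      split_ifs with ha hb hb
      · omega
      · rw [ha.1]; omega
      · rw [hb.1]; omega
      · omega
  · refine Or.inr ⟨1, le_rfl, hm, mk _ (fun i => by rw [at_add, at_smul, at_E']; split_ifs <;> omega)
      (Or.inr (Or.inr (Or.inl ?_))) fun i => ?_⟩
    · rw [at_add, at_smul, at_E_self (by omega)]; omega
    · have := v0 i
      rw [at_add, at_smul, at_E']; split_ifs with h
      · rw [h.1]; omega
      · omega
  · refine Or.inr ⟨l, by omega, hl', mk _ (fun i => by rw [at_add, at_smul, at_E', at_E']; split_ifs <;> omega)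
      (Or.inr (Or.inr (Or.inr ⟨?_, l, hl, hl', ?_⟩))) fun i => ?_⟩
    · rw [at_add, at_smul, at_E_self (by omega), at_E_ne (by omega)]; omega
    · rw [at_add, at_smul, at_E_ne (show l ≠ 1 by omega), at_E_self (by omega)]; omega
    · have := v0 i
      rw [at_add, at_smul, at_E', at_E']
      split_ifs with ha hb hb
      · omega
      · rw [ha.1]; omega
      · rw [hb.1]; omega
      · omega

omit hB hn hq hm hmn in
theorem sum_eq_of_gen {α γ w : Fin (n + 1) → ℤ} (hg : GenPoint I α γ) (h : γ - α = w) : ∑ l, γ l = ∑ l, w l := by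
  rw [← h]
  simp only [Pi.sub_apply, Finset.sum_sub_distrib, hg.1, sub_zero]

omit hB hn hq hm hmn in
theorem covers_exact (F : Fam I) (t : F.T) {α γ : Fin (n + 1) → ℤ} (h1 : F.deg t = α) (h2 : F.pt t = γ) :
    F.Covers α γ := h1 ▸ h2 ▸ F.covers_pt t

/-- Moving from one generator to another through their product. -/
theorem move {α γ : Fin (n + 1) → ℤ} (hg : GenPoint I α γ) {p z : ℕ} (hp : p < n + 1) (hz : z < n + 1)
    (hup : ¬ InI I (γ + E p)) (hin : InI I (γ - α + E p - E z)) :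
    ∃ h : γ + E p - E z ∈ region I α, (regGraph I α).Reachable ⟨γ + E p - E z, h⟩ ⟨γ, hg.mem⟩ := by
  have h1 : γ + E p ∈ region I α := mem_region.2 ⟨hg.2.1.mono fun l => by
    simp only [Pi.sub_apply, Pi.add_apply, E_apply]; split_ifs <;> omega, hup⟩
  have h2 : γ + E p - E z ∈ region I α := mem_region.2 ⟨by
    rw [show γ + E p - E z - α = γ - α + E p - E z by abel]; exact hin, fun h => hup (h.mono fun l => by
      simp only [Pi.sub_apply, Pi.add_apply, E_apply]; split_ifs <;> omega)⟩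
  exact ⟨h2, (reachable_step h2 h1 ⟨z, hz⟩ (by rw [ev_eq]; abel)).trans
    (reachable_step hg.mem h1 ⟨p, hp⟩ (by rw [ev_eq])).symm⟩

theorem move_pos {α γ : Fin (n + 1) → ℤ} (hg : GenPoint I α γ) {p z : ℕ} (hp : p < n + 1) (hz : z < n + 1)
    (hpz : z ≠ p) (hup : ¬ InI I (γ + E p)) (hin : InI I (γ - α + E p - E z)) : 1 ≤ at' γ z := by
  obtain ⟨h, hr⟩ := move hB hn hq hm hmn hg hp hz hup hin
  have h' := hg.2.2.2.2 _ h hg.mem hr ⟨z, hz⟩
  rw [← at_val (γ + E p - E z) ⟨z, hz⟩] at h'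
  simp only [at_sub, at_add, at_E_ne hpz, at_E_self hz] at h'
  omega

theorem gen_facts {α γ : Fin (n + 1) → ℤ} (hg : GenPoint I α γ) :
    at' γ 0 < 2 ∧ (∀ l, 1 ≤ l → l < n → at' γ 0 < 1 ∨ at' γ l < 1) ∧ at' γ 1 < (q : ℤ) + 1 ∧
      ∀ l, 2 ≤ l → l ≤ m → at' γ 1 < (q : ℤ) ∨ at' γ l < 1 :=
  not_inI_facts hB hg.2.2.2.1 (at_nonneg hg.nonneg)

theorem head_form {α γ : Fin (n + 1) → ℤ} (hg : GenPoint I α γ) (h0 : 1 ≤ at' γ 0) :
    γ = E 0 + fun l => (∑ l, γ l - 1) * E (n := n) n l := by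
  obtain ⟨f0, f1, f2, f3⟩ := gen_facts hB hn hq hm hmn hg
  have hz : ∀ l, l < n + 1 → l ≠ 0 → l ≠ n → at' γ l = 0 := fun l hl hl0 hln => by
    have := f1 l (by omega) (by omega)
    have := at_nonneg hg.nonneg l
    omega
  rw [sum_two (show 0 < n + 1 by omega) (by omega) hz]
  refine ext_at fun i hi => ?_
  rw [at_add, at_smul, at_E', at_E']
  by_cases h1 : i = 0
  · subst h1; simp [show ¬ (0 = n ∧ 0 < n + 1) by omega]; omega
  · by_cases h2 : i = n
    · subst h2; simp [h1]; omega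
    · simp [h1, h2, hz i hi h1 h2]

theorem cover_head {α γ : Fin (n + 1) → ℤ} (hg : GenPoint I α γ) (h0 : 1 ≤ at' γ 0)
    (F : Fam I) (hA : ∀ {α γ}, (famA hB hn hq hmn).Covers α γ → F.Covers α γ)
    (hBc : ∀ {α γ}, (famB hB hn hq hmn).Covers α γ → F.Covers α γ) : F.Covers α γ := by
  have hf := head_form hB hn hq hm hmn hg h0
  rcases gen_cases hB hn hq hm hmn hg with ⟨i, hi, hβ⟩ | ⟨j, hj, hj', hβ⟩
  · have hs := sum_eq_of_gen hg hβ
    simp only [Pi.add_apply, Finset.sum_add_distrib, sum_E (show 0 < n + 1 by omega), sum_E (show i < n + 1 by omega)] at hs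
    rw [hs, show (fun l => ((1 : ℤ) + 1 - 1) * E (n := n) n l) = E n by funext l; simp] at hf
    refine hA (covers_exact (famA hB hn hq hmn) (⟨i, hi⟩ : Fin n) ?_ hf.symm)
    show E n - E i = α
    rw [show α = γ - (γ - α) by abel, hβ, hf]; abel
  · have hs := sum_eq_of_gen hg hβ
    simp only [Pi.add_apply, Finset.sum_add_distrib, sum_smul (q : ℤ) (show 1 < n + 1 by omega),
      sum_E (show j < n + 1 by omega)] at hs
    rw [hs, show ((q : ℤ) + 1 - 1) = q by ring] at hf
    refine hBc (covers_exact (famB hB hn hq hmn) (⟨j - 1, by omega⟩ : Fin m) ?_ hf.symm)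
    show E 0 + (fun l => (q : ℤ) * E (n := n) n l) - (fun l => (q : ℤ) * E (n := n) 1 l) - E (j - 1 + 1) = α
    rw [show α = γ - (γ - α) by abel, hβ, hf, show j - 1 + 1 = j by omega]; abel

/-- The second point of a quadratic generator point. -/
theorem quad_form {α γ : Fin (n + 1) → ℤ} (hg : GenPoint I α γ) {i : ℕ} (hi : i < n)
    (hβ : γ - α = E 0 + E i) (h0 : at' γ 0 = 0) (h1 : 1 ≤ at' γ i) :
    ∃ a, 1 ≤ a ∧ a < n + 1 ∧ γ = E i + E a ∧ α = E a - E 0 := by
  have hs := sum_eq_of_gen hg hβ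
  simp only [Pi.add_apply, Finset.sum_add_distrib, sum_E (show 0 < n + 1 by omega), sum_E (show i < n + 1 by omega)] at hs
  have hnn : ∀ l, 0 ≤ (γ - E (n := n) i) l := fun l => by
    have := hg.nonneg l
    simp only [Pi.sub_apply, E_apply]
    split_ifs with h
    · rw [← at_val γ l, h]; omega
    · omega
  obtain ⟨a, ha, hγa⟩ := exists_unit hnn (by
    simp only [Pi.sub_apply, Finset.sum_sub_distrib, hs, sum_E (show i < n + 1 by omega)]; ring)
  have hγ : γ = E i + E a := by rw [← hγa]; abel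
  refine ⟨a, Nat.pos_of_ne_zero fun h => ?_, ha, hγ, by rw [show α = γ - (γ - α) by abel, hβ, hγ]; abel⟩
  rw [hγ, h, at_add, at_E_self (show 0 < n + 1 by omega)] at h0
  rw [at_E'] at h0
  split_ifs at h0 <;> omega

theorem mem_move_quad {i p : ℕ} (hp : p < n) :
    InI I (E (n := n) 0 + E i + E p - E i) := by
  rw [show E (n := n) 0 + E i + E p - E i = E 0 + E p by abel, inI_iff hB]
  refine ⟨fun l => by rw [at_add, at_E', at_E']; split_ifs <;> omega, ?_⟩
  by_cases h : p = 0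
  · left; rw [h, at_add, at_E_self (by omega)]; omega
  · refine Or.inr (Or.inl ⟨?_, p, by omega, hp, ?_⟩)
    · rw [at_add, at_E_self (by omega), at_E_ne (by omega)]; omega
    · rw [at_add, at_E_ne (show p ≠ 0 by omega), at_E_self (by omega)]; omega

omit hn hq hm hmn in
theorem not_inI_of {v : Fin (n + 1) → ℤ} (h0 : at' v 0 = 0) (h1 : at' v 1 ≤ q)
    (h2 : ∀ l, 2 ≤ l → l ≤ m → at' v 1 < q ∨ at' v l < 1) : ¬ InI I v := by
  intro h
  rcases ((inI_iff hB _).1 h).2 with h' | ⟨h', -⟩ | h' | ⟨h', l, hl, hl', h''⟩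
  · omega
  · omega
  · omega
  · have := h2 l hl hl'; omega

theorem up_quad {α γ : Fin (n + 1) → ℤ} (hg : GenPoint I α γ) (h0 : at' γ 0 = 0) {p : ℕ} (hp1 : p ≠ 1) (hpm : m < p) :
    ¬ InI I (γ + E p) := by
  obtain ⟨f0, f1, f2, f3⟩ := gen_facts hB hn hq hm hmn hg
  refine not_inI_of hB ?_ ?_ fun l hl hl' => ?_
  · rw [at_add, h0, at_E_ne (show 0 ≠ p by omega)]; omega
  · rw [at_add, at_E_ne (Ne.symm hp1)]; omega
  · have := f3 l hl hl'
    rw [at_add, at_add, at_E_ne (Ne.symm hp1), at_E_ne (show l ≠ p by omega)]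
    omega

theorem cover_P (hmn2 : m + 2 ≤ n) {α γ : Fin (n + 1) → ℤ} (hg : GenPoint I α γ) {i : ℕ} (hi : i < n)
    (hβ : γ - α = E 0 + E i) (h0 : at' γ 0 = 0) (h1 : 1 ≤ at' γ i) :
    (famP hB hn hq hm hmn hmn2).Covers α γ := by
  obtain ⟨a, ha, ha', hγ, hα⟩ := quad_form hB hn hq hm hmn hg hi hβ h0 h1
  obtain ⟨h, hr⟩ := move hB hn hq hm hmn hg (p := n - 1) (z := i) (by omega) (by omega)
    (up_quad hB hn hq hm hmn hg h0 (by omega) (by omega))
    (by rw [hβ]; exact mem_move_quad hB hn hq hm hmn (by omega))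
  have hdeg : (famP hB hn hq hm hmn hmn2).deg (⟨a - 1, by omega⟩ : Fin n) = α := by
    show E (a - 1 + 1) - E 0 = α
    rw [hα, show a - 1 + 1 = a by omega]
  subst hdeg
  refine ⟨(⟨a - 1, by omega⟩ : Fin n), hg.mem, rfl, hr.symm.trans ?_⟩
  have hpt : γ + E (n - 1) - E i = (famP hB hn hq hm hmn hmn2).pt (⟨a - 1, by omega⟩ : Fin n) := by
    show _ = E (n - 1) + E (a - 1 + 1)
    rw [hγ, show a - 1 + 1 = a by omega]; abel
  rw [show (⟨_, h⟩ : region I _) = ⟨_, (famP hB hn hq hm hmn hmn2).pt_region (⟨a - 1, by omega⟩ : Fin n)⟩ from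
    Subtype.ext hpt]

theorem cover_P0 (hmn1 : m + 1 = n) (hq1 : q = 1) {α γ : Fin (n + 1) → ℤ} (hg : GenPoint I α γ) {i : ℕ}
    (hi : i < n) (hβ : γ - α = E 0 + E i) (h0 : at' γ 0 = 0) (h1 : at' γ 1 = 0) :
    (famP0 hB hn hq hm hmn hmn1 hq1).Covers α γ := by
  obtain ⟨f0, f1, f2, f3⟩ := gen_facts hB hn hq hm hmn hg
  have hiγ : 1 ≤ at' γ i := by
    by_contra hlt
    have hγi : at' γ i = 0 := by have := at_nonneg hg.nonneg i; omega
    obtain ⟨p, hp1, hp, hpi, hup⟩ : ∃ p, 1 ≤ p ∧ p < n ∧ p ≠ i ∧ ¬ InI I (γ + E p) := by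
      by_cases hex : ∃ p, 2 ≤ p ∧ p < n ∧ p ≠ i
      · obtain ⟨p, hp2, hpn, hpi⟩ := hex
        refine ⟨p, by omega, hpn, hpi, not_inI_of hB ?_ ?_ fun l hl hl' => Or.inl ?_⟩
        · rw [at_add, h0, at_E_ne (show 0 ≠ p by omega)]; omega
        · rw [at_add, h1, at_E_ne (show 1 ≠ p by omega)]; omega
        · rw [at_add, h1, at_E_ne (show 1 ≠ p by omega)]; omega
      · push Not at hex
        have h2 : 2 = i := hex 2 le_rfl (by omega)
        refine ⟨1, le_rfl, by omega, by omega, not_inI_of hB ?_ ?_ fun l hl hl' => Or.inr ?_⟩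
        · rw [at_add, h0, at_E_ne (show 0 ≠ 1 by omega)]; omega
        · rw [at_add, h1, at_E_self (show 1 < n + 1 by omega)]; omega
        · have := hex l hl (by omega)
          rw [at_add, at_E_ne (show l ≠ 1 by omega), this, hγi]; omega
    have := move_pos hB hn hq hm hmn hg (p := p) (z := i) (by omega) (by omega) (Ne.symm hpi) hup
      (by rw [hβ]; exact mem_move_quad hB hn hq hm hmn hp)
    omega
  obtain ⟨a, ha, ha', hγ, hα⟩ := quad_form hB hn hq hm hmn hg hi hβ h0 hiγ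
  have ha1 : a ≠ 1 := fun h => by
    rw [hγ, h, at_add, at_E_self (show 1 < n + 1 by omega), at_E'] at h1
    split_ifs at h1 <;> omega
  obtain ⟨h, hr⟩ := move hB hn hq hm hmn hg (p := 2) (z := i) (by omega) (by omega) (not_inI_of hB
      (by rw [at_add, h0, at_E_ne (show 0 ≠ 2 by omega)]; omega)
      (by rw [at_add, h1, at_E_ne (show 1 ≠ 2 by omega)]; omega)
      fun l _ _ => Or.inl (by rw [at_add, h1, at_E_ne (show 1 ≠ 2 by omega)]; omega))
    (by rw [hβ]; exact mem_move_quad hB hn hq hm hmn (by omega))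
  have hdeg : (famP0 hB hn hq hm hmn hmn1 hq1).deg (⟨a - 2, by omega⟩ : Fin (n - 1)) = α := by
    show E (a - 2 + 2) - E 0 = α
    rw [hα, show a - 2 + 2 = a by omega]
  subst hdeg
  refine ⟨(⟨a - 2, by omega⟩ : Fin (n - 1)), hg.mem, rfl, hr.symm.trans ?_⟩
  have hpt : γ + E 2 - E i = (famP0 hB hn hq hm hmn hmn1 hq1).pt (⟨a - 2, by omega⟩ : Fin (n - 1)) := by
    show _ = E 2 + E (a - 2 + 2)
    rw [hγ, show a - 2 + 2 = a by omega]; abel
  rw [show (⟨_, h⟩ : region I _) =
    ⟨_, (famP0 hB hn hq hm hmn hmn1 hq1).pt_region (⟨a - 2, by omega⟩ : Fin (n - 1))⟩ from Subtype.ext hpt]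

theorem x_form (hq1 : q = 1) {α γ : Fin (n + 1) → ℤ} (hg : GenPoint I α γ) {i : ℕ} (hi : i < n)
    (hβ : γ - α = E 0 + E i) (h0 : at' γ 0 = 0) (h1 : 1 ≤ at' γ 1)
    (hrest : ∀ l, m < l → l < n → at' γ l = 0) :
    γ = E 1 + E n ∧ α = E 1 + E n - E 0 - E i := by
  obtain ⟨f0, f1, f2, f3⟩ := gen_facts hB hn hq hm hmn hg
  have hz : ∀ l, l < n + 1 → l ≠ 1 → l ≠ n → at' γ l = 0 := fun l hl hl1 hln => by
    have := at_nonneg hg.nonneg l
    rcases Nat.eq_zero_or_pos l with rfl | hl0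
    · exact h0
    · by_cases hlm : l ≤ m
      · have := f3 l (by omega) hlm; omega
      · exact hrest l (by omega) (by omega)
  have hs := sum_eq_of_gen hg hβ
  simp only [Pi.add_apply, Finset.sum_add_distrib, sum_E (show 0 < n + 1 by omega), sum_E (show i < n + 1 by omega)] at hs
  rw [sum_two (show 1 < n + 1 by omega) (by omega) hz] at hs
  have hγ : γ = E 1 + E n := by
    refine ext_at fun l hl => ?_
    rw [at_add, at_E', at_E']
    by_cases h1' : l = 1
    · subst h1'; simp [show ¬ (1 = n ∧ 1 < n + 1) by omega]; omega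
    · by_cases h2 : l = n
      · subst h2; simp [h1']; omega
      · simp [h1', h2, hz l hl h1' h2]
  exact ⟨hγ, by rw [show α = γ - (γ - α) by abel, hβ, hγ]; abel⟩

theorem quad_pos (hmn2 : m + 2 ≤ n) {α γ : Fin (n + 1) → ℤ} (hg : GenPoint I α γ) {i : ℕ} (hi : i < n)
    (hβ : γ - α = E 0 + E i) (h0 : at' γ 0 = 0)
    (h : i ≠ n - 1 ∨ m + 3 ≤ n ∨ 3 ≤ q ∨ (q = 1 ∧ at' γ 1 = 0)) : 1 ≤ at' γ i := by
  have key : ∀ p, p < n → p ≠ i → ¬ InI I (γ + E p) → 1 ≤ at' γ i := fun p hp hpi hup =>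
    move_pos hB hn hq hm hmn hg (p := p) (z := i) (by omega) (by omega) (Ne.symm hpi) hup
      (by rw [hβ]; exact mem_move_quad hB hn hq hm hmn hp)
  by_cases h1 : i = n - 1
  · by_cases h2 : m + 3 ≤ n
    · exact key (n - 2) (by omega) (by omega) (up_quad hB hn hq hm hmn hg h0 (by omega) (by omega))
    · rcases h with h | h | h | ⟨hq1, h⟩
      · exact absurd h1 h
      · exact absurd h h2
      · obtain ⟨f0, f1, f2, f3⟩ := gen_facts hB hn hq hm hmn hg
        have hs := sum_eq_of_gen hg hβ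
        simp only [Pi.add_apply, Finset.sum_add_distrib, sum_E (show 0 < n + 1 by omega), sum_E (show i < n + 1 by omega)] at hs
        have hle : ∀ l, l < n + 1 → l ≠ 1 → at' γ 1 + at' γ l ≤ 2 := fun l hl hl1 => by
          have := Finset.sum_le_sum_of_subset_of_nonneg (s := {(⟨1, by omega⟩ : Fin (n + 1)), ⟨l, hl⟩})
            (t := Finset.univ) (f := γ) (Finset.subset_univ _) (fun x _ _ => hg.nonneg x)
          rw [Finset.sum_pair (fun hh => hl1 (Fin.ext_iff.1 hh).symm), ← at_val γ ⟨1, _⟩, ← at_val γ ⟨l, hl⟩] at this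
          simp only at this
          omega
        refine key 1 (by omega) (by omega) (not_inI_of hB ?_ ?_ fun l hl hl' => ?_)
        · rw [at_add, h0, at_E_ne (show 0 ≠ 1 by omega)]; omega
        · have := hle n (by omega) (by omega)
          have := at_nonneg hg.nonneg n
          rw [at_add, at_E_self (show 1 < n + 1 by omega)]; omega
        · have := hle l (by omega) (by omega)
          rw [at_add, at_add, at_E_self (show 1 < n + 1 by omega), at_E_ne (show l ≠ 1 by omega)]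
          omega
      · by_cases hm2 : 2 ≤ m
        · refine key 2 (by omega) (by omega) (not_inI_of hB ?_ ?_ fun l hl hl' => Or.inl ?_)
          · rw [at_add, h0, at_E_ne (show 0 ≠ 2 by omega)]; omega
          · rw [at_add, h, at_E_ne (show 1 ≠ 2 by omega)]; omega
          · rw [at_add, h, at_E_ne (show 1 ≠ 2 by omega)]; omega
        · refine key 1 (by omega) (by omega) (not_inI_of hB ?_ ?_ fun l hl hl' => ?_)
          · rw [at_add, h0, at_E_ne (show 0 ≠ 1 by omega)]; omega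
          · rw [at_add, h, at_E_self (show 1 < n + 1 by omega)]; omega
          · omega
  · exact key (n - 1) (by omega) (by omega) (up_quad hB hn hq hm hmn hg h0 (by omega) (by omega))

theorem mem_high {j p : ℕ} (hp : 1 ≤ p) (hp' : p ≤ m) :
    InI I ((fun l => (q : ℤ) * E (n := n) 1 l) + E j + E p - E j) := by
  rw [show (fun l => (q : ℤ) * E (n := n) 1 l) + E j + E p - E j = (fun l => (q : ℤ) * E (n := n) 1 l) + E p by abel,
    inI_iff hB]
  refine ⟨fun l => by rw [at_add, at_smul, at_E', at_E']; split_ifs <;> omega, ?_⟩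
  by_cases h : p = 1
  · refine Or.inr (Or.inr (Or.inl ?_))
    rw [h, at_add, at_smul, at_E_self (by omega)]; omega
  · refine Or.inr (Or.inr (Or.inr ⟨?_, p, by omega, hp', ?_⟩))
    · rw [at_add, at_smul, at_E_self (by omega), at_E_ne (by omega)]; omega
    · rw [at_add, at_smul, at_E_ne (show p ≠ 1 by omega), at_E_self (by omega)]; omega

omit hB hn hq hm hmn in
theorem vec_toFinsupp {v : Fin (n + 1) → ℤ} (h : ∀ l, 0 ≤ v l) (h0 : at' v 0 = 0) :
    vec (Finsupp.equivFunOnFinite.symm fun l : Fin n => (at' v (l.val + 1)).toNat) = v := by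
  refine ext_at fun i hi => ?_
  rcases Nat.eq_zero_or_pos i with rfl | hpos
  · rw [at_vec_zero, h0]
  · obtain ⟨l, rfl⟩ : ∃ l : Fin n, i = l.val + 1 := ⟨⟨i - 1, by omega⟩, by simp only; omega⟩
    rw [at_vec_succ]
    simp [at_nonneg h _]

theorem cover_W (hm2 : 2 ≤ m) {α γ : Fin (n + 1) → ℤ} (hg : GenPoint I α γ) {j : ℕ} (hj : 1 ≤ j) (hj' : j ≤ m)
    (hβ : γ - α = (fun l => (q : ℤ) * E (n := n) 1 l) + E j) (h0 : at' γ 0 = 0) (h1 : at' γ 1 < q) :
    (famW hB hn hq hm hmn hm2).Covers α γ := by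
  obtain ⟨f0, f1, f2, f3⟩ := gen_facts hB hn hq hm hmn hg
  have hup : ∀ p, 2 ≤ p → ¬ InI I (γ + E p) := fun p hp => not_inI_of hB
    (by rw [at_add, h0, at_E_ne (show 0 ≠ p by omega)]; omega)
    (by rw [at_add, at_E_ne (show 1 ≠ p by omega)]; omega)
    fun l _ _ => Or.inl (by rw [at_add, at_E_ne (show 1 ≠ p by omega)]; omega)
  have hjγ : 1 ≤ at' γ j := by
    by_contra hlt
    obtain ⟨p, hp, hp', hpj, hupp⟩ : ∃ p, 1 ≤ p ∧ p ≤ m ∧ p ≠ j ∧ ¬ InI I (γ + E p) := by
      by_cases hj1 : j = 1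
      · exact ⟨2, by omega, hm2, by omega, hup 2 le_rfl⟩
      · by_cases hx : ∃ x, 2 ≤ x ∧ x ≤ m ∧ 1 ≤ at' γ x
        · obtain ⟨x, hx1, hx2, hx3⟩ := hx
          exact ⟨x, by omega, hx2, fun h => by rw [h] at hx3; omega, hup x hx1⟩
        · push Not at hx
          refine ⟨1, le_rfl, hm, Ne.symm hj1, not_inI_of hB ?_ ?_ fun l hl hl' => Or.inr ?_⟩
          · rw [at_add, h0, at_E_ne (show 0 ≠ 1 by omega)]; omega
          · rw [at_add, at_E_self (show 1 < n + 1 by omega)]; omega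
          · have := hx l hl hl'
            rw [at_add, at_E_ne (show l ≠ 1 by omega)]; omega
    have := move_pos hB hn hq hm hmn hg (p := p) (z := j) (by omega) (by omega) (Ne.symm hpj) hupp
      (by rw [hβ]; exact mem_high hB hn hq hm hmn hp hp')
    omega
  have hnn : ∀ l, 0 ≤ (γ - E (n := n) j) l := fun l => by
    have := hg.nonneg l
    simp only [Pi.sub_apply, E_apply]
    split_ifs with h
    · rw [← at_val γ l, h]; omega
    · omega
  have hL0 : at' (γ - E j) 0 = 0 := by rw [at_sub, h0, at_E_ne (show 0 ≠ j by omega)]; rfl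
  set L : Fin n →₀ ℕ := Finsupp.equivFunOnFinite.symm fun l : Fin n => (at' (γ - E j) (l.val + 1)).toNat with hL
  have hvec : vec L = γ - E j := vec_toFinsupp hnn hL0
  have hsum : (Finset.univ.sum fun l => L l) = q := by
    have := sum_vec L
    rw [hvec] at this
    have hs := sum_eq_of_gen hg hβ
    simp only [Pi.add_apply, Pi.sub_apply, Finset.sum_add_distrib, Finset.sum_sub_distrib,
      sum_smul (q : ℤ) (show 1 < n + 1 by omega), sum_E (show j < n + 1 by omega)] at hs this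
    omega
  have hfirst : ∀ l : Fin n, l.val = 0 → L l < q := fun l hl => by
    have := at_vec_succ L l
    rw [hvec, hl, at_sub] at this
    have h2 : (0 : ℤ) ≤ at' (E (n := n) j) 1 := by rw [at_E']; split_ifs <;> omega
    norm_num at this
    omega
  obtain ⟨h, hr⟩ := move hB hn hq hm hmn hg (p := 2) (z := j) (by omega) (by omega) (hup 2 le_rfl)
    (by rw [hβ]; exact mem_high hB hn hq hm hmn (by omega) hm2)
  have hdeg : (famW hB hn hq hm hmn hm2).deg (⟨L, hsum, hfirst⟩ : WIdx n q) = α := by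
    show vec L - (fun l => (q : ℤ) * E (n := n) 1 l) = α
    rw [hvec, show α = γ - (γ - α) by abel, hβ]; abel
  subst hdeg
  refine ⟨(⟨L, hsum, hfirst⟩ : WIdx n q), hg.mem, rfl, hr.symm.trans ?_⟩
  have hpt : γ + E 2 - E j = (famW hB hn hq hm hmn hm2).pt (⟨L, hsum, hfirst⟩ : WIdx n q) := by
    show _ = vec L + E 2
    rw [hvec]; abel
  rw [show (⟨_, h⟩ : region I _) = ⟨_, (famW hB hn hq hm hmn hm2).pt_region (⟨L, hsum, hfirst⟩ : WIdx n q)⟩ from
    Subtype.ext hpt]

theorem cover_E {α γ : Fin (n + 1) → ℤ} (hg : GenPoint I α γ) {j : ℕ} (hj : 1 ≤ j) (hj' : j ≤ m)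
    (hβ : γ - α = (fun l => (q : ℤ) * E (n := n) 1 l) + E j) (h0 : at' γ 0 = 0) (h1 : (q : ℤ) ≤ at' γ 1) :
    (famE hB hn hq hm hmn).Covers α γ := by
  obtain ⟨f0, f1, f2, f3⟩ := gen_facts hB hn hq hm hmn hg
  have hnn : ∀ l, 0 ≤ (γ - fun l => (q : ℤ) * E (n := n) 1 l) l := fun l => by
    have := hg.nonneg l
    simp only [Pi.sub_apply, E_apply]
    split_ifs with h
    · rw [← at_val γ l, h]; omega
    · omega
  have hs := sum_eq_of_gen hg hβ
  simp only [Pi.add_apply, Finset.sum_add_distrib, sum_smul (q : ℤ) (show 1 < n + 1 by omega),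
    sum_E (show j < n + 1 by omega)] at hs
  obtain ⟨a, ha, hγa⟩ := exists_unit hnn (by
    simp only [Pi.sub_apply, Finset.sum_sub_distrib, hs, sum_smul (q : ℤ) (show 1 < n + 1 by omega)]; ring)
  have hγ : γ = (fun l => (q : ℤ) * E (n := n) 1 l) + E a := by rw [← hγa]; abel
  have ham : m < a := by
    by_contra hle
    rcases Nat.eq_zero_or_pos a with rfl | hpos
    · rw [hγ, at_add, at_smul, at_E_self (show 0 < n + 1 by omega), at_E_ne (show 0 ≠ 1 by omega)] at h0; omega
    · by_cases ha1 : a = 1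
      · rw [hγ, ha1, at_add, at_smul, at_E_self (show 1 < n + 1 by omega)] at f2; omega
      · have := f3 a (by omega) (by omega)
        rw [hγ, at_add, at_add, at_smul, at_smul, at_E_self (show 1 < n + 1 by omega),
          at_E_ne (show 1 ≠ a by omega), at_E_ne ha1, at_E_self ha] at this
        omega
  refine covers_exact (famE hB hn hq hm hmn) ((⟨j - 1, by omega⟩, ⟨a - m - 1, by omega⟩) : Fin m × Fin (n - m)) ?_ ?_
  · show E (a - m - 1 + m + 1) - E (j - 1 + 1) = α
    rw [show α = γ - (γ - α) by abel, hβ, hγ, show a - m - 1 + m + 1 = a by omega, show j - 1 + 1 = j by omega]; abel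
  · show (fun l => (q : ℤ) * E (n := n) 1 l) + E (a - m - 1 + m + 1) = γ
    rw [hγ, show a - m - 1 + m + 1 = a by omega]

theorem cover_W1 (hm1 : m = 1) {α γ : Fin (n + 1) → ℤ} (hg : GenPoint I α γ) {j : ℕ} (hj : 1 ≤ j) (hj' : j ≤ m)
    (hβ : γ - α = (fun l => (q : ℤ) * E (n := n) 1 l) + E j) (h0 : at' γ 0 = 0) :
    (famW1 hB hn hq hm hmn hm1).Covers α γ := by
  obtain rfl : j = 1 := by omega
  obtain ⟨f0, f1, f2, f3⟩ := gen_facts hB hn hq hm hmn hg
  set L : Fin n →₀ ℕ := Finsupp.equivFunOnFinite.symm fun l : Fin n => (at' γ (l.val + 1)).toNat with hL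
  have hvec : vec L = γ := vec_toFinsupp hg.nonneg h0
  have hs := sum_eq_of_gen hg hβ
  simp only [Pi.add_apply, Finset.sum_add_distrib, sum_smul (q : ℤ) (show 1 < n + 1 by omega),
    sum_E (show 1 < n + 1 by omega)] at hs
  have hsum : (Finset.univ.sum fun l => L l) = q + 1 := by
    have := sum_vec L
    rw [hvec, hs] at this
    omega
  have hfirst : ∀ l : Fin n, l.val = 0 → L l < q + 1 := fun l hl => by
    have := at_vec_succ L l
    rw [hvec, hl] at this
    norm_num at this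
    omega
  have hlast : ∀ l : Fin n, l.val + 1 = n → L l < q + 1 := fun l hl => by
    by_contra hge
    have hLl := at_vec_succ L l
    rw [hvec, hl] at hLl
    have hrest : ∀ i, 1 ≤ i → i < n → at' γ i = 0 := fun i hi hi' => by
      have := Finset.sum_le_sum_of_subset_of_nonneg (s := {(⟨i, by omega⟩ : Fin (n + 1)), ⟨n, by omega⟩})
        (t := Finset.univ) (f := γ) (Finset.subset_univ _) (fun x _ _ => hg.nonneg x)
      rw [Finset.sum_pair (fun hh => by have := Fin.ext_iff.1 hh; simp only at this; omega), hs,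
        ← at_val γ ⟨i, _⟩, ← at_val γ ⟨n, _⟩] at this
      simp only at this
      have := at_nonneg hg.nonneg i
      omega
    have hup : ¬ InI I (γ + E 0) := by
      intro h
      rcases ((inI_iff hB _).1 h).2 with h' | ⟨-, x, hx, hx', h'⟩ | h' | ⟨-, x, hx, hx', h'⟩
      · rw [at_add, h0, at_E_self (show 0 < n + 1 by omega)] at h'; omega
      · rw [at_add, hrest x hx hx', at_E_ne (show x ≠ 0 by omega)] at h'; omega
      · rw [at_add, hrest 1 le_rfl (by omega), at_E_ne (show 1 ≠ 0 by omega)] at h'; omega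
      · omega
    have := move_pos hB hn hq hm hmn hg (p := 0) (z := 1) (by omega) (by omega) one_ne_zero hup (by
      rw [hβ, show (fun l => (q : ℤ) * E (n := n) 1 l) + E 1 + E 0 - E 1 = (fun l => (q : ℤ) * E (n := n) 1 l) + E 0 by abel,
        inI_iff hB]
      refine ⟨fun i => by rw [at_add, at_smul, at_E', at_E']; split_ifs <;> omega,
        Or.inr (Or.inl ⟨?_, 1, le_rfl, by omega, ?_⟩)⟩
      · rw [at_add, at_smul, at_E_self (show 0 < n + 1 by omega), at_E_ne (show 0 ≠ 1 by omega)]; omega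
      · rw [at_add, at_smul, at_E_self (show 1 < n + 1 by omega), at_E_ne (show 1 ≠ 0 by omega)]; omega)
    have := hrest 1 le_rfl (by omega)
    omega
  refine covers_exact (famW1 hB hn hq hm hmn hm1) (⟨L, hsum, hfirst, hlast⟩ : W1Idx n (q + 1)) ?_ hvec
  show vec L - (fun l => ((q : ℤ) + 1) * E (n := n) 1 l) = α
  rw [hvec, show α = γ - (γ - α) by abel, hβ]
  funext l
  simp only [Pi.sub_apply, Pi.add_apply]
  ring

end Groth.HilbPn.TwoBlock
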