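import Groth.Agent.HilbPn.TwoBlock

/-! The families of degree-zero components of the two-block ideals. -/

set_option autoImplicit false

universe u

open MvPolynomial W4c1hilbpn

namespace Groth.HilbPn.TwoBlock

attribute [local instance] Classical.propDecidable

variable {k : Type u} [Field k] {n q m : ℕ} {I : Ideal (MvPolynomial (Fin (n + 1)) k)}

@[simp] theorem E_apply (i : ℕ) (l : Fin (n + 1)) : E (n := n) i l = if l.val = i then 1 else 0 := rfl

theorem at_E' (i j : ℕ) : at' (E (n := n) i) j = if j = i ∧ j < n + 1 then 1 else 0 := by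
  unfold at'
  by_cases h : j < n + 1
  · simp [h, E]
  · rw [dif_neg h, if_neg fun h' => h h'.2]

theorem at_val (v : Fin (n + 1) → ℤ) (l : Fin (n + 1)) : at' v l.val = v l := dif_pos l.isLt

theorem ext_at {v w : Fin (n + 1) → ℤ} (h : ∀ i, i < n + 1 → at' v i = at' w i) : v = w := by
  funext l; rw [← at_val v l, ← at_val w l]; exact h _ l.isLt

theorem inI_iff (hB : IsTwoBlock n q m I) (v : Fin (n + 1) → ℤ) :
    InI I v ↔ (∀ i, 0 ≤ at' v i) ∧ Mem n q m v :=
  (hB v).trans (and_congr_left' ⟨at_nonneg, fun h l => by rw [← at_val v l]; exact h _⟩)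

theorem not_inI_facts (hB : IsTwoBlock n q m I) {v : Fin (n + 1) → ℤ} (h : ¬ InI I v) (h0 : ∀ i, 0 ≤ at' v i) :
    at' v 0 < 2 ∧ (∀ l, 1 ≤ l → l < n → at' v 0 < 1 ∨ at' v l < 1) ∧ at' v 1 < (q : ℤ) + 1 ∧
      ∀ l, 2 ≤ l → l ≤ m → at' v 1 < (q : ℤ) ∨ at' v l < 1 := by
  rw [inI_iff hB, not_and] at h
  have := h h0
  simp only [Mem, not_or, not_le, not_and, not_exists] at this
  refine ⟨this.1, fun l h1 h2 => ?_, this.2.2.1, fun l h1 h2 => ?_⟩
  · rcases lt_or_ge (at' v 0) 1 with h' | h'
    · exact Or.inl h'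
    · exact Or.inr (this.2.1 h' l h1 h2)
  · rcases lt_or_ge (at' v 1) q with h' | h'
    · exact Or.inl h'
    · exact Or.inr (this.2.2.2 h' l h1 h2)

theorem sum_smul (c : ℤ) {i : ℕ} (hi : i < n + 1) : ∑ l : Fin (n + 1), c * E (n := n) i l = c := by
  rw [← Finset.mul_sum, sum_E hi, mul_one]

variable (hB : IsTwoBlock n q m I) (hn : 3 ≤ n) (hq : 1 ≤ q) (hm : 1 ≤ m) (hmn : m + 1 ≤ n)
include hB hn hq hm hmn

omit hB hn hq hm hmn in
theorem at_E_self {i : ℕ} (h : i < n + 1) : at' (E (n := n) i) i = 1 := by rw [at_E' i i]; simp [h]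

omit hB hn hq hm hmn in
theorem at_E_ne {i j : ℕ} (h : j ≠ i) : at' (E (n := n) i) j = 0 := by rw [at_E' i j]; simp [h]

/-- `x₀ x_i ↦ x₀ x_n`. -/
noncomputable def famA : Fam I where
  T := Fin n
  fin := inferInstance
  deg i := E n - E i.val
  pt _ := E 0 + E n
  cond _ x _ := 1 ≤ x
  pt_nonneg _ l := by simp only [Pi.add_apply, E_apply]; split_ifs <;> omega
  pt_mem i := by
    rw [show E 0 + E n - (E n - E i.val) = E (n := n) 0 + E i.val by abel, inI_iff hB]
    refine ⟨fun l => by rw [at_add, at_E', at_E']; split_ifs <;> omega, ?_⟩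
    rcases Nat.eq_zero_or_pos i.val with h | h
    · left; rw [h, at_add, at_E_self (by omega)]; omega
    · refine Or.inr (Or.inl ⟨?_, i.val, h, i.isLt, ?_⟩)
      · rw [at_add, at_E_self (by omega), at_E_ne (by omega)]; omega
      · rw [at_add, at_E_self (by omega), at_E_ne (by omega)]; omega
  pt_not_mem i h := by
    rcases ((inI_iff hB _).1 h).2 with h1 | ⟨-, l, hl, hl', h1⟩ | h1 | ⟨h1, -⟩
    all_goals (rw [at_add, at_E', at_E'] at h1; split_ifs at h1 <;> first | omega | simp_all)
  pt_cond _ := by rw [at_add, at_E', at_E']; split_ifs <;> omega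
  deg_sum i := by simp only [Pi.sub_apply, Finset.sum_sub_distrib, sum_E (Nat.lt_succ_self n), sum_E (n := n) (i := i.val) (by omega), sub_self]
  hneg i a z hv hnot hnn haz hc := by
    obtain ⟨v0, hMem⟩ := (inI_iff hB _).1 hv
    obtain ⟨f0, f1, f2, f3⟩ := not_inI_facts hB hnot (at_nonneg hnn)
    have hvz := v0 z.val
    rw [← at_val a z] at haz
    have hz : z.val < n + 1 := z.isLt
    have hzi : z.val = i.val := by
      rw [at_sub, at_sub, at_E', at_E'] at hvz
      split_ifs at hvz <;> omega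
    simp only [ev_eq, at_add, hzi] at *
    have hi0 : i.val ≠ 0 := by
      intro h; rw [h] at haz hc; rw [at_E_self (by omega)] at hc; omega
    rw [at_E_ne (Ne.symm hi0), add_zero] at hc f0 f1
    have hmid : ∀ l, 1 ≤ l → l < n → at' (a - (E n - E i.val)) l = 0 := by
      intro l hl hl'
      have := f1 l hl hl'
      rw [at_sub, at_sub, at_E_ne (show l ≠ n by omega)]
      by_cases h : l = i.val
      · subst h; rw [at_E_self (by omega)]; omega
      · rw [at_E_ne h] at this ⊢
        have hp := at_nonneg hnn l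
        rw [at_add, at_E_ne h] at hp
        omega
    rcases hMem with h1 | ⟨-, l, hl, hl', h1⟩ | h1 | ⟨h1, l, hl, hl', h2⟩
    · rw [at_sub, at_sub, at_E_ne (show 0 ≠ n by omega), at_E_ne (Ne.symm hi0)] at h1; omega
    · rw [hmid l hl hl'] at h1; omega
    · rw [hmid 1 le_rfl (by omega)] at h1; omega
    · rw [hmid l (by omega) (by omega)] at h2; omega
  hzero i a hv hnot hnn ha0 := by
    refine iff_of_false (by omega) fun _ => ?_
    obtain ⟨v0, hMem⟩ := (inI_iff hB _).1 hv
    have hnn' : ∀ i, 0 ≤ at' (a + E 0) i := fun i => by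
      have := at_nonneg hnn i; rw [at_add, at_E']; split_ifs <;> omega
    obtain ⟨f0, f1, f2, f3⟩ := not_inI_facts hB hnot hnn'
    simp only [at_add, at_E_self (show 0 < n + 1 by omega)] at f1
    have hmid : ∀ l, 1 ≤ l → l < n → at' (a - (E n - E i.val)) l = if l = i.val then 1 else 0 := by
      intro l hl hl'
      have := f1 l hl hl'
      have hp := at_nonneg hnn l
      rw [at_E_ne (show l ≠ 0 by omega)] at this
      rw [at_sub, at_sub, at_E_ne (show l ≠ n by omega), at_E' i.val]
      split_ifs <;> omega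
    rcases hMem with h1 | ⟨h0', l, hl, hl', h1⟩ | h1 | ⟨h1, l, hl, hl', h2⟩
    · rw [at_sub, at_sub, at_E', at_E'] at h1; split_ifs at h1 <;> omega
    · rw [hmid l hl hl'] at h1; rw [at_sub, at_sub, at_E', at_E'] at h0'; split_ifs at h1 h0' <;> omega
    · rw [hmid 1 le_rfl (by omega)] at h1; split_ifs at h1 <;> omega
    · rw [hmid 1 le_rfl (by omega)] at h1; rw [hmid l (by omega) (by omega)] at h2
      split_ifs at h1 h2 <;> omega
  hone _ _ _ _ _ _ := Iff.rfl
  sep i i' h _ := by
    apply Fin.ext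
    have := congrArg (fun v => at' v i.val) h
    simp only [at_sub] at this
    have hi : i.val < n := i.isLt
    rw [at_E_ne (show i.val ≠ n by omega), at_E_self (show i.val < n + 1 by omega), at_E' i'.val] at this
    split_ifs at this <;> omega

/-- `x₁^q x_j ↦ x₀ x_n^q`. -/
noncomputable def famB : Fam I where
  T := Fin m
  fin := inferInstance
  deg j := E 0 + (fun l => (q : ℤ) * E (n := n) n l) - (fun l => (q : ℤ) * E (n := n) 1 l) - E (j.val + 1)
  pt _ := E 0 + fun l => (q : ℤ) * E (n := n) n l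
  cond _ x _ := 1 ≤ x
  pt_nonneg _ l := by simp only [Pi.add_apply, E_apply]; split_ifs <;> omega
  pt_mem j := by
    have hj : j.val < m := j.isLt
    rw [show ((E (n := n) 0 + fun l => (q : ℤ) * E (n := n) n l) - (E 0 + (fun l => (q : ℤ) * E (n := n) n l)
        - (fun l => (q : ℤ) * E (n := n) 1 l) - E (j.val + 1)))
        = (fun l => (q : ℤ) * E (n := n) 1 l) + E (j.val + 1) by abel, inI_iff hB]
    refine ⟨fun l => by rw [at_add, at_smul, at_E' 1, at_E' (j.val + 1)]; split_ifs <;> omega, ?_⟩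
    by_cases h : j.val = 0
    · refine Or.inr (Or.inr (Or.inl ?_))
      rw [h, at_add, at_smul, at_E_self (by omega)]; omega
    · refine Or.inr (Or.inr (Or.inr ⟨?_, j.val + 1, by omega, by omega, ?_⟩))
      · rw [at_add, at_smul, at_E_self (by omega), at_E_ne (by omega)]; omega
      · rw [at_add, at_smul, at_E_ne (show j.val + 1 ≠ 1 by omega), at_E_self (by omega)]; omega
  pt_not_mem i h := by
    rcases ((inI_iff hB _).1 h).2 with h1 | ⟨-, l, hl, hl', h1⟩ | h1 | ⟨-, l, hl, hl', h1⟩
    all_goals (rw [at_add, at_smul] at h1)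
    · rw [at_E_self (by omega), at_E_ne (show 0 ≠ n by omega)] at h1; omega
    · rw [at_E_ne (show l ≠ 0 by omega), at_E_ne (show l ≠ n by omega)] at h1; omega
    · rw [at_E_ne (show 1 ≠ 0 by omega), at_E_ne (show 1 ≠ n by omega)] at h1; omega
    · rw [at_E_ne (show l ≠ 0 by omega), at_E_ne (show l ≠ n by omega)] at h1; omega
  pt_cond _ := by
    rw [at_add, at_smul, at_E_self (by omega), at_E_ne (show 0 ≠ n by omega)]; omega
  deg_sum j := by
    have hj : j.val < m := j.isLt
    simp only [Pi.sub_apply, Pi.add_apply, Finset.sum_sub_distrib, Finset.sum_add_distrib, sum_smul (q : ℤ) (Nat.lt_succ_self n),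
      sum_smul (q : ℤ) (show 1 < n + 1 by omega), sum_E (show 0 < n + 1 by omega),
      sum_E (n := n) (i := j.val + 1) (by omega)]
    ring
  hneg j a z hv hnot hnn haz hc := by
    have hj : j.val < m := j.isLt
    obtain ⟨v0, hMem⟩ := (inI_iff hB _).1 hv
    obtain ⟨f0, f1, f2, f3⟩ := not_inI_facts hB hnot (at_nonneg hnn)
    rw [← at_val a z] at haz
    have hz : z.val < n + 1 := z.isLt
    have hp := fun l => at_nonneg hnn l
    simp only [ev_eq, at_add] at hp f0 f1 hc
    have hz0 : z.val ≠ 0 := by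
      intro h; rw [h] at haz hc; rw [at_E_self (by omega)] at hc; omega
    rw [at_E_ne (Ne.symm hz0), add_zero] at hc f0 f1
    have hvz := v0 z.val
    have hzn : z.val < n := by
      by_contra h
      simp only [at_sub, at_add, at_smul] at hvz
      rw [at_E' 0, at_E' n, at_E' 1, at_E' (j.val + 1)] at hvz
      split_ifs at hvz <;> omega
    have hmid : ∀ l, 1 ≤ l → l < n → at' (a - (E (n := n) 0 + (fun l => (q : ℤ) * E (n := n) n l)
        - (fun l => (q : ℤ) * E (n := n) 1 l) - E (j.val + 1))) l =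
          (if l = 1 then (q : ℤ) else 0) + (if l = j.val + 1 then 1 else 0) - (if l = z.val then 1 else 0) := by
      intro l hl hl'
      have := f1 l hl hl'
      have := hp l
      simp only [at_sub, at_add, at_smul]
      rw [at_E_ne (show l ≠ 0 by omega), at_E_ne (show l ≠ n by omega), at_E' 1, at_E' (j.val + 1)]
      rw [at_E' z.val] at *
      split_ifs at * <;> omega
    rw [hmid z.val (by omega) hzn] at hvz
    rcases hMem with h1 | ⟨h1, -⟩ | h1 | ⟨h1, l, hl, hl', h2⟩
    · simp only [at_sub, at_add, at_smul] at h1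
      rw [at_E_self (show 0 < n + 1 by omega), at_E_ne (show 0 ≠ n by omega), at_E_ne (show 0 ≠ 1 by omega),
        at_E_ne (show 0 ≠ j.val + 1 by omega)] at h1
      omega
    · simp only [at_sub, at_add, at_smul] at h1
      rw [at_E_self (show 0 < n + 1 by omega), at_E_ne (show 0 ≠ n by omega), at_E_ne (show 0 ≠ 1 by omega),
        at_E_ne (show 0 ≠ j.val + 1 by omega)] at h1
      omega
    · rw [hmid 1 le_rfl (by omega)] at h1; split_ifs at h1 hvz <;> omega
    · rw [hmid 1 le_rfl (by omega)] at h1; rw [hmid l (by omega) (by omega)] at h2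
      split_ifs at h1 h2 hvz <;> omega
  hzero j a hv hnot hnn ha0 := by
    have := ((inI_iff hB _).1 hv).1 0
    simp only [at_sub, at_add, at_smul] at this
    rw [at_E_self (show 0 < n + 1 by omega), at_E_ne (show 0 ≠ n by omega), at_E_ne (show 0 ≠ 1 by omega),
      at_E_ne (show 0 ≠ j.val + 1 by omega)] at this
    omega
  hone _ _ _ _ _ _ := Iff.rfl
  sep j j' h _ := by
    apply Fin.ext
    have hj : j.val < m := j.isLt
    have := congrArg (fun v => at' v (j.val + 1)) h
    simp only [at_sub] at this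
    rw [at_E_self (show j.val + 1 < n + 1 by omega), at_E' (j'.val + 1)] at this
    split_ifs at this <;> omega

theorem mem_up0 {a : Fin (n + 1) → ℤ} (h : ∀ l, 0 ≤ a l) {l : ℕ} (hl : 1 ≤ l) (hl' : l < n) (h1 : 1 ≤ at' a l) :
    InI I (a + E 0) := by
  rw [inI_iff hB]
  refine ⟨fun i => by have := at_nonneg h i; rw [at_add, at_E']; split_ifs <;> omega, Or.inr (Or.inl ⟨?_, l, hl, hl', ?_⟩)⟩
  · have := at_nonneg h 0; rw [at_add, at_E_self (by omega)]; omega
  · rw [at_add, at_E_ne (show l ≠ 0 by omega)]; omega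

theorem mem_up1 {a : Fin (n + 1) → ℤ} (h : ∀ l, 0 ≤ a l) (hq' : (q : ℤ) ≤ at' a 1 + 1)
    {l : ℕ} (hl : 2 ≤ l) (hl' : l ≤ m) (h1 : 1 ≤ at' a l) : InI I (a + E 1) := by
  rw [inI_iff hB]
  refine ⟨fun i => by have := at_nonneg h i; rw [at_add, at_E']; split_ifs <;> omega,
    Or.inr (Or.inr (Or.inr ⟨?_, l, hl, hl', ?_⟩))⟩
  · rw [at_add, at_E_self (by omega)]; omega
  · rw [at_add, at_E_ne (show l ≠ 1 by omega)]; omega

theorem mem_up1' {a : Fin (n + 1) → ℤ} (h : ∀ l, 0 ≤ a l) (hq' : (q : ℤ) ≤ at' a 1) : InI I (a + E 1) := by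
  rw [inI_iff hB]
  refine ⟨fun i => by have := at_nonneg h i; rw [at_add, at_E']; split_ifs <;> omega, Or.inr (Or.inr (Or.inl ?_))⟩
  rw [at_add, at_E_self (by omega)]; omega

/-- Common lower step for the families below `x₀`: a negative step forces `InI` of its end. -/
theorem below_neg {a : Fin (n + 1) → ℤ} {c : ℕ} (hc : c < n + 1) (hc0 : c ≠ 0) {z : Fin (n + 1)}
    (hv : InI I (a - (E c - E 0))) (hnot : ¬ InI I (a + ev z)) (hnn : ∀ l, 0 ≤ (a + ev z) l)
    (haz : a z = -1) (h0 : at' (a + ev z) 0 = 0) : False := by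
  obtain ⟨v0, hMem⟩ := (inI_iff hB _).1 hv
  obtain ⟨f0, f1, f2, f3⟩ := not_inI_facts hB hnot (at_nonneg hnn)
  rw [← at_val a z] at haz
  have hz : z.val < n + 1 := z.isLt
  have hz0 : z.val = 0 := by
    have hvz := v0 z.val
    rw [at_sub, at_sub, at_E' c, at_E' 0] at hvz
    split_ifs at hvz <;> omega
  simp only [ev_eq, hz0, at_add] at *
  rw [at_E_self (show 0 < n + 1 by omega)] at h0
  have hle : ∀ l, l ≠ 0 → at' (a - (E (n := n) c - E 0)) l ≤ at' a l + at' (E (n := n) 0) l := by
    intro l hl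
    rw [at_sub, at_sub, at_E_ne hl, at_E' c]; split_ifs <;> omega
  rcases hMem with h1 | ⟨h1, -⟩ | h1 | ⟨h1, l, hl, hl', h2⟩
  · rw [at_sub, at_sub, at_E_self (show 0 < n + 1 by omega), at_E_ne (Ne.symm hc0)] at h1; omega
  · rw [at_sub, at_sub, at_E_self (show 0 < n + 1 by omega), at_E_ne (Ne.symm hc0)] at h1; omega
  · have := hle 1 one_ne_zero; omega
  · have := hle 1 one_ne_zero; have := hle l (by omega); have := f3 l hl hl'; omega

/-- Crossing `x₀` from below forces a middle variable. -/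
theorem below_mid {a : Fin (n + 1) → ℤ} {c : ℕ} (hc : c < n + 1) (hc0 : c ≠ 0)
    (hv : InI I (a - (E c - E 0))) (hnn : ∀ l, 0 ≤ a l) (ha0 : at' a 0 = 0) :
    ∃ l, 1 ≤ l ∧ l < n ∧ 1 ≤ at' (a - (E (n := n) c - E 0)) l ∧ 1 ≤ at' a l := by
  obtain ⟨v0, hMem⟩ := (inI_iff hB _).1 hv
  have hle : ∀ l, l ≠ 0 → at' (a - (E (n := n) c - E 0)) l ≤ at' a l := by
    intro l hl
    rw [at_sub, at_sub, at_E_ne hl, at_E' c]; split_ifs <;> omega
  rcases hMem with h1 | ⟨h1, l, hl, hl', h2⟩ | h1 | ⟨h1, l, hl, hl', h2⟩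
  · rw [at_sub, at_sub, at_E_self (show 0 < n + 1 by omega), at_E_ne (Ne.symm hc0)] at h1; omega
  · exact ⟨l, hl, hl', h2, h2.trans (hle l (by omega))⟩
  · exact ⟨1, le_rfl, by omega, by omega, by have := hle 1 one_ne_zero; omega⟩
  · exact ⟨1, le_rfl, by omega, by omega, by have := hle 1 one_ne_zero; omega⟩

/-- `x₀ x_i ↦ x_i x_a`, when the second block stops early. -/
noncomputable def famP (hmn2 : m + 2 ≤ n) : Fam I where
  T := Fin n
  fin := inferInstance
  deg a := E (a.val + 1) - E 0
  pt a := E (n - 1) + E (a.val + 1)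
  cond _ x _ := x = 0
  pt_nonneg _ l := by simp only [Pi.add_apply, E_apply]; split_ifs <;> omega
  pt_mem a := by
    rw [show E (n := n) (n - 1) + E (a.val + 1) - (E (a.val + 1) - E 0) = E (n - 1) + E 0 by abel, inI_iff hB]
    refine ⟨fun l => by rw [at_add, at_E', at_E']; split_ifs <;> omega, Or.inr (Or.inl ⟨?_, n - 1, by omega, by omega, ?_⟩)⟩
    · rw [at_add, at_E_self (by omega), at_E_ne (show 0 ≠ n - 1 by omega)]; omega
    · rw [at_add, at_E_self (by omega), at_E_ne (show n - 1 ≠ 0 by omega)]; omega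
  pt_not_mem a h := by
    have ha : a.val < n := a.isLt
    rcases ((inI_iff hB _).1 h).2 with h1 | ⟨h1, -⟩ | h1 | ⟨h1, l, hl, hl', h2⟩
    · rw [at_add, at_E_ne (show 0 ≠ n - 1 by omega), at_E_ne (show 0 ≠ a.val + 1 by omega)] at h1; omega
    · rw [at_add, at_E_ne (show 0 ≠ n - 1 by omega), at_E_ne (show 0 ≠ a.val + 1 by omega)] at h1; omega
    · rw [at_add, at_E_ne (show 1 ≠ n - 1 by omega), at_E' (a.val + 1)] at h1; split_ifs at h1 <;> omega
    · rw [at_add, at_E_ne (show 1 ≠ n - 1 by omega), at_E' (a.val + 1)] at h1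
      rw [at_add, at_E_ne (show l ≠ n - 1 by omega), at_E' (a.val + 1)] at h2
      split_ifs at h1 h2 <;> omega
  pt_cond a := by
    rw [at_add, at_E_ne (show 0 ≠ n - 1 by omega), at_E_ne (show 0 ≠ a.val + 1 by omega)]; omega
  deg_sum a := by
    have ha : a.val < n := a.isLt
    simp only [Pi.sub_apply, Finset.sum_sub_distrib, sum_E (show 0 < n + 1 by omega),
      sum_E (n := n) (i := a.val + 1) (by omega), sub_self]
  hneg a b z hv hnot hnn haz hc :=
    below_neg hB hn hq hm hmn (c := a.val + 1) (Nat.succ_lt_succ a.isLt) (Nat.succ_ne_zero _) hv hnot hnn haz hc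
  hzero a b hv hnot hnn hb0 := by
    obtain ⟨l, hl, hl', -, h1⟩ := below_mid hB hn hq hm hmn (c := a.val + 1) (Nat.succ_lt_succ a.isLt)
      (Nat.succ_ne_zero _) hv hnn hb0
    exact absurd (mem_up0 hB hn hq hm hmn hnn hl hl' h1) hnot
  hone _ _ _ _ _ _ := Iff.rfl
  sep a a' h _ := by
    apply Fin.ext
    have ha : a.val < n := a.isLt
    have := congrArg (fun v => at' v (a.val + 1)) h
    simp only [at_sub] at this
    rw [at_E_self (show a.val + 1 < n + 1 by omega), at_E_ne (show a.val + 1 ≠ 0 by omega), at_E' (a'.val + 1)] at this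
    split_ifs at this <;> omega

/-- `x₀ x_i ↦ x_i x_a` with `x₁` absent, when the second block is full. -/
noncomputable def famP0 (hmn1 : m + 1 = n) (hq1 : q = 1) : Fam I where
  T := Fin (n - 1)
  fin := inferInstance
  deg a := E (a.val + 2) - E 0
  pt a := E 2 + E (a.val + 2)
  cond _ x y := x = 0 ∧ y = 0
  pt_nonneg _ l := by simp only [Pi.add_apply, E_apply]; split_ifs <;> omega
  pt_mem a := by
    rw [show E (n := n) 2 + E (a.val + 2) - (E (a.val + 2) - E 0) = E 2 + E 0 by abel, inI_iff hB]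
    refine ⟨fun l => by rw [at_add, at_E', at_E']; split_ifs <;> omega, Or.inr (Or.inl ⟨?_, 2, by omega, by omega, ?_⟩)⟩
    · rw [at_add, at_E_self (by omega), at_E_ne (show 0 ≠ 2 by omega)]; omega
    · rw [at_add, at_E_self (by omega), at_E_ne (show 2 ≠ 0 by omega)]; omega
  pt_not_mem a h := by
    rcases ((inI_iff hB _).1 h).2 with h1 | ⟨h1, -⟩ | h1 | ⟨h1, -⟩
    · rw [at_add, at_E_ne (show 0 ≠ 2 by omega), at_E_ne (show 0 ≠ a.val + 2 by omega)] at h1; omega
    · rw [at_add, at_E_ne (show 0 ≠ 2 by omega), at_E_ne (show 0 ≠ a.val + 2 by omega)] at h1; omega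
    · rw [at_add, at_E_ne (show 1 ≠ 2 by omega), at_E_ne (show 1 ≠ a.val + 2 by omega)] at h1; omega
    · rw [at_add, at_E_ne (show 1 ≠ 2 by omega), at_E_ne (show 1 ≠ a.val + 2 by omega)] at h1; omega
  pt_cond a := by
    rw [at_add, at_add, at_E_ne (show 0 ≠ 2 by omega), at_E_ne (show 0 ≠ a.val + 2 by omega),
      at_E_ne (show 1 ≠ 2 by omega), at_E_ne (show 1 ≠ a.val + 2 by omega)]
    omega
  deg_sum a := by
    have ha : a.val < n - 1 := a.isLt
    simp only [Pi.sub_apply, Finset.sum_sub_distrib, sum_E (show 0 < n + 1 by omega),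
      sum_E (n := n) (i := a.val + 2) (by omega), sub_self]
  hneg a b z hv hnot hnn haz hc :=
    below_neg hB hn hq hm hmn (c := a.val + 2) (by have : a.val < n - 1 := a.isLt; omega) (Nat.succ_ne_zero _)
      hv hnot hnn haz hc.1
  hzero a b hv hnot hnn hb0 := by
    have ha : a.val < n - 1 := a.isLt
    obtain ⟨l, hl, hl', -, h1⟩ := below_mid hB hn hq hm hmn (c := a.val + 2) (by omega)
      (Nat.succ_ne_zero _) hv hnn hb0
    exact absurd (mem_up0 hB hn hq hm hmn hnn hl hl' h1) hnot
  hone a b hv hnot hnn hb0 := by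
    have ha : a.val < n - 1 := a.isLt
    have := at_nonneg hnn 1
    by_cases h : at' b 1 = 0
    · obtain ⟨l, hl, hl', h1, h2⟩ := below_mid hB hn hq hm hmn (c := a.val + 2) (by omega)
        (Nat.succ_ne_zero _) hv hnn hb0
      by_cases hl1 : l = 1
      · subst hl1; omega
      · exact absurd (mem_up1 hB hn hq hm hmn hnn (by omega) (show 2 ≤ l by omega) (by omega) h2) hnot
    · exact iff_of_false (fun h' => h h'.2) (fun h' => by omega)
  sep a a' h _ := by
    apply Fin.ext
    have ha : a.val < n - 1 := a.isLt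
    have := congrArg (fun v => at' v (a.val + 2)) h
    simp only [at_sub] at this
    rw [at_E_self (show a.val + 2 < n + 1 by omega), at_E_ne (show a.val + 2 ≠ 0 by omega), at_E' (a'.val + 2)] at this
    split_ifs at this <;> omega

/-- The extra components `x₀ x_i ↦ x₁ x_n` for a linear second block. -/
noncomputable def famX (hq1 : q = 1) {ι : Type} [Fintype ι] (idx : ι → ℕ) (hinj : Function.Injective idx)
    (hidx : ∀ i, idx i < n) (hhi : ∀ i l, m < l → l < n → l = idx i) : Fam I where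
  T := ι
  fin := inferInstance
  deg i := E 1 + E n - E 0 - E (idx i)
  pt _ := E 1 + E n
  cond _ x y := x = 0 ∧ 1 ≤ y
  pt_nonneg _ l := by simp only [Pi.add_apply, E_apply]; split_ifs <;> omega
  pt_mem i := by
    have := hidx i
    rw [show E (n := n) 1 + E n - (E 1 + E n - E 0 - E (idx i)) = E 0 + E (idx i) by abel, inI_iff hB]
    refine ⟨fun l => by rw [at_add, at_E', at_E']; split_ifs <;> omega, ?_⟩
    by_cases h : idx i = 0
    · left; rw [h, at_add, at_E_self (by omega)]; omega
    · refine Or.inr (Or.inl ⟨?_, idx i, by omega, this, ?_⟩)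
      · rw [at_add, at_E_self (by omega), at_E_ne (Ne.symm h)]; omega
      · rw [at_add, at_E_self (show idx i < n + 1 by omega), at_E_ne h]; omega
  pt_not_mem i h := by
    rcases ((inI_iff hB _).1 h).2 with h1 | ⟨h1, -⟩ | h1 | ⟨-, l, hl, hl', h1⟩
    · rw [at_add, at_E_ne (show 0 ≠ 1 by omega), at_E_ne (show 0 ≠ n by omega)] at h1; omega
    · rw [at_add, at_E_ne (show 0 ≠ 1 by omega), at_E_ne (show 0 ≠ n by omega)] at h1; omega
    · rw [at_add, at_E_self (show 1 < n + 1 by omega), at_E_ne (show 1 ≠ n by omega)] at h1; omega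
    · rw [at_add, at_E_ne (show l ≠ 1 by omega), at_E_ne (show l ≠ n by omega)] at h1; omega
  pt_cond _ := by
    rw [at_add, at_add, at_E_ne (show 0 ≠ 1 by omega), at_E_ne (show 0 ≠ n by omega),
      at_E_self (show 1 < n + 1 by omega), at_E_ne (show 1 ≠ n by omega)]
    omega
  deg_sum i := by
    have := hidx i
    simp only [Pi.sub_apply, Pi.add_apply, Finset.sum_sub_distrib, Finset.sum_add_distrib, sum_E (show 0 < n + 1 by omega),
      sum_E (show 1 < n + 1 by omega), sum_E (Nat.lt_succ_self n), sum_E (n := n) (i := idx i) (by omega)]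
    ring
  hneg i a z hv hnot hnn haz hc := by
    have hidx' := hidx i
    obtain ⟨v0, hMem⟩ := (inI_iff hB _).1 hv
    obtain ⟨f0, f1, f2, f3⟩ := not_inI_facts hB hnot (at_nonneg hnn)
    obtain ⟨hc0, hc1⟩ := hc
    rw [← at_val a z] at haz
    have hz : z.val < n + 1 := z.isLt
    have hp := fun l => at_nonneg hnn l
    have hvz := v0 z.val
    simp only [at_sub, at_add] at hvz
    rw [at_E' 1, at_E' n, at_E' 0, at_E' (idx i), haz] at hvz
    have hzn : z.val ≠ n ∧ z.val ≠ 1 ∨ z.val = 1 ∧ idx i = 1 := by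
      (repeat' split_ifs at hvz) <;> omega
    simp only [ev_eq, at_add] at hp f0 f1 f2 f3 hc0 hc1
    have hv1 : at' (a - (E (n := n) 1 + E n - E 0 - E (idx i))) 1 =
        at' a 1 - 1 + (if idx i = 1 then 1 else 0) := by
      simp only [at_sub, at_add]
      rw [at_E_self (show 1 < n + 1 by omega), at_E_ne (show 1 ≠ n by omega), at_E_ne (show 1 ≠ 0 by omega),
        at_E' (idx i)]
      split_ifs <;> omega
    have hvl : ∀ l, 2 ≤ l → l < n → at' (a - (E (n := n) 1 + E n - E 0 - E (idx i))) l =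
        at' a l + (if idx i = l then 1 else 0) := by
      intro l hl hl'
      simp only [at_sub, at_add]
      rw [at_E_ne (show l ≠ 1 by omega), at_E_ne (show l ≠ n by omega), at_E_ne (show l ≠ 0 by omega),
        at_E' (idx i)]
      split_ifs <;> omega
    have hv00 : at' (a - (E (n := n) 1 + E n - E 0 - E (idx i))) 0 =
        at' a 0 + 1 + (if idx i = 0 then 1 else 0) := by
      simp only [at_sub, at_add]
      rw [at_E_ne (show 0 ≠ 1 by omega), at_E_ne (show 0 ≠ n by omega), at_E_self (show 0 < n + 1 by omega),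
        at_E' (idx i)]
      split_ifs <;> omega
    have hz1 : z.val ≠ 1 := by
      intro h
      rw [h] at haz hc1
      rw [at_E_self (show 1 < n + 1 by omega)] at hc1
      omega
    rw [at_E_ne (Ne.symm hz1), add_zero] at hc1 f2 f3
    rw [at_E' z.val 0] at hc0
    rcases hMem with h1 | ⟨h1, l, hl, hl', h2⟩ | h1 | ⟨h1, l, hl, hl', h2⟩
    · rw [hv00] at h1; split_ifs at h1 hc0 hvz <;> omega
    · rw [hv00] at h1
      by_cases hl1 : l = 1
      · subst hl1; rw [hv1] at h2; split_ifs at h1 h2 hc0 hvz <;> omega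
      · rw [hvl l (by omega) hl'] at h2
        by_cases hlm : l ≤ m
        · have := f3 l (by omega) hlm
          rw [at_E' z.val] at this
          split_ifs at h1 h2 this hc0 hvz <;> omega
        · obtain rfl := hhi i l (by omega) hl'
          have := hp z.val
          split_ifs at h1 h2 hc0 hvz <;> first | omega | (rw [show z.val = idx i by omega] at haz; omega)
    · rw [hv1] at h1; split_ifs at h1 <;> omega
    · rw [hv1] at h1; rw [hvl l hl (by omega)] at h2
      have := f3 l hl hl'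
      rw [at_E' z.val] at this
      split_ifs at h1 h2 this hc0 hvz <;> omega
  hzero i a hv hnot hnn ha0 := by
    have := at_nonneg hnn 1
    by_cases h : at' a 1 = 0
    · exact iff_of_false (fun h' => by omega) (fun h' => by omega)
    · exact absurd (mem_up0 hB hn hq hm hmn hnn le_rfl (by omega) (by omega : 1 ≤ at' a 1)) hnot
  hone i a hv hnot hnn ha0 := by
    have := at_nonneg hnn 1
    by_cases h : at' a 1 = 0
    · exfalso
      have hidx' := hidx i
      obtain ⟨v0, hMem⟩ := (inI_iff hB _).1 hv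
      have h1' := v0 1
      simp only [at_sub, at_add] at h1'
      rw [at_E_self (show 1 < n + 1 by omega), at_E_ne (show 1 ≠ n by omega), at_E_ne (show 1 ≠ 0 by omega),
        at_E' (idx i)] at h1'
      split_ifs at h1' with hi1 <;> [skip; omega]
      have hmn' : m + 1 = n := by
        by_contra hne
        have := hhi i (m + 1) (by omega) (by omega)
        omega
      have hle : ∀ l, 2 ≤ l → l < n → at' (a - (E (n := n) 1 + E n - E 0 - E (idx i))) l ≤ at' a l := by
        intro l hl hl'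
        simp only [at_sub, at_add]
        rw [at_E_ne (show l ≠ 1 by omega), at_E_ne (show l ≠ n by omega), at_E_ne (show l ≠ 0 by omega),
          at_E_ne (show l ≠ idx i by omega)]
        omega
      rcases hMem with h1 | ⟨-, l, hl, hl', h2⟩ | h1 | ⟨-, l, hl, hl', h2⟩
      · simp only [at_sub, at_add] at h1
        rw [at_E_ne (show 0 ≠ 1 by omega), at_E_ne (show 0 ≠ n by omega), at_E_self (show 0 < n + 1 by omega),
          at_E_ne (show 0 ≠ idx i by omega)] at h1
        omega
      · by_cases hl1 : l = 1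
        · subst hl1
          simp only [at_sub, at_add] at h2
          rw [at_E_self (show 1 < n + 1 by omega), at_E_ne (show 1 ≠ n by omega), at_E_ne (show 1 ≠ 0 by omega),
            at_E' (idx i)] at h2
          split_ifs at h2 <;> omega
        · exact hnot (mem_up1 hB hn hq hm hmn hnn (by omega) (show 2 ≤ l by omega) (by omega)
            (h2.trans (hle l (by omega) hl')))
      · simp only [at_sub, at_add] at h1
        rw [at_E_self (show 1 < n + 1 by omega), at_E_ne (show 1 ≠ n by omega), at_E_ne (show 1 ≠ 0 by omega),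
          at_E' (idx i)] at h1
        split_ifs at h1 <;> omega
      · exact hnot (mem_up1 hB hn hq hm hmn hnn (by omega) hl hl' (h2.trans (hle l hl (by omega))))
    · exact iff_of_true ⟨rfl, by omega⟩ ⟨rfl, by omega⟩
  sep i i' h _ := by
    apply hinj
    have := hidx i
    have := congrArg (fun v => at' v (idx i)) h
    simp only [at_sub, at_add] at this
    rw [at_E_self (show idx i < n + 1 by omega), at_E' (idx i')] at this
    split_ifs at this <;> omega

/-- The exponents of degree `d` in the variables `x₁, …, x_n`. -/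
noncomputable def vec (L : Fin n →₀ ℕ) : Fin (n + 1) → ℤ := Fin.cons (0 : ℤ) fun l => (L l : ℤ)

omit hB hn hq hm hmn in
theorem at_vec_zero (L : Fin n →₀ ℕ) : at' (vec L) 0 = 0 := by
  unfold at'; rw [dif_pos (Nat.succ_pos n)]; rfl

omit hB hn hq hm hmn in
theorem at_vec_succ (L : Fin n →₀ ℕ) (l : Fin n) : at' (vec L) (l.val + 1) = (L l : ℤ) := by
  unfold at'
  rw [dif_pos (show l.val + 1 < n + 1 by omega)]
  exact Fin.cons_succ (α := fun _ => ℤ) (0 : ℤ) (fun i => (L i : ℤ)) l

omit hB hn hq hm hmn in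
theorem vec_nonneg (L : Fin n →₀ ℕ) (l : Fin (n + 1)) : 0 ≤ vec L l := by
  refine Fin.cases le_rfl (fun i => ?_) l
  exact Int.natCast_nonneg _

omit hB hn hq hm hmn in
theorem sum_vec (L : Fin n →₀ ℕ) : ∑ l, vec L l = (Finset.univ.sum fun l => L l : ℕ) := by
  rw [Fin.sum_univ_succ, vec, Nat.cast_sum]
  simp

omit hB hn hq hm hmn in
theorem vec_inj {L L' : Fin n →₀ ℕ} (h : ∀ l, 1 ≤ l → l ≤ n → at' (vec L) l = at' (vec L') l) : L = L' := by
  ext l
  have := h (l.val + 1) (by omega) l.isLt
  rw [at_vec_succ, at_vec_succ] at this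
  exact_mod_cast this

/-- Degree-`q` monomials other than `x₁^q`. -/
abbrev WIdx (n q : ℕ) := {L : Fin n →₀ ℕ // (Finset.univ.sum fun l => L l) = q ∧ ∀ l : Fin n, l.val = 0 → L l < q}

omit hB hn hq hm hmn in
theorem widx_finite (n d : ℕ) : Finite {L : Fin n →₀ ℕ // (Finset.univ.sum fun l => L l) = d} :=
  Finite.of_injective (fun L => (⟨L.1, Finset.mem_finsuppAntidiag.2 ⟨L.2, Finset.subset_univ _⟩⟩ :
    (Finset.univ.finsuppAntidiag d : Finset (Fin n →₀ ℕ)))) fun a b h => Subtype.ext (congrArg Subtype.val h :)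

omit hB hn hq hm hmn in
theorem widx_finite' (n q : ℕ) : Finite (WIdx n q) := by
  haveI := widx_finite n q
  exact Finite.of_injective (fun L => (⟨L.1, L.2.1⟩ : {L : Fin n →₀ ℕ // (Finset.univ.sum fun l => L l) = q}))
    fun a b h => Subtype.ext (congrArg Subtype.val h :)

/-- `x₁^q x_j ↦ x_j L`. -/
noncomputable def famW (hm2 : 2 ≤ m) : Fam I where
  T := WIdx n q
  fin := @Fintype.ofFinite _ (widx_finite' n q)
  deg L := vec L.1 - fun l => (q : ℤ) * E (n := n) 1 l
  pt L := vec L.1 + E 2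
  cond L x y := x = 0 ∧ (at' (vec L.1) 1 + 1 = q → y < q)
  pt_nonneg L l := by
    have := vec_nonneg L.1 l
    simp only [Pi.add_apply, E_apply]; split_ifs <;> omega
  pt_mem L := by
    rw [show vec L.1 + E 2 - (vec L.1 - fun l => (q : ℤ) * E (n := n) 1 l) =
      (fun l => (q : ℤ) * E (n := n) 1 l) + E 2 by abel, inI_iff hB]
    refine ⟨fun l => by rw [at_add, at_smul, at_E' 1, at_E' 2]; split_ifs <;> omega,
      Or.inr (Or.inr (Or.inr ⟨?_, 2, le_rfl, hm2, ?_⟩))⟩
    · rw [at_add, at_smul, at_E_self (show 1 < n + 1 by omega), at_E_ne (show 1 ≠ 2 by omega)]; omega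
    · rw [at_add, at_smul, at_E_self (show 2 < n + 1 by omega), at_E_ne (show 2 ≠ 1 by omega)]; omega
  pt_not_mem L h := by
    have h1' : at' (vec L.1) 1 < q := by
      rw [show (1 : ℕ) = (⟨0, by omega⟩ : Fin n).val + 1 from rfl, at_vec_succ]
      exact_mod_cast L.2.2 ⟨0, by omega⟩ rfl
    have h0' := at_vec_zero L.1
    rcases ((inI_iff hB _).1 h).2 with h1 | ⟨h1, -⟩ | h1 | ⟨h1, -⟩
    · rw [at_add, h0', at_E_ne (show 0 ≠ 2 by omega)] at h1; omega
    · rw [at_add, h0', at_E_ne (show 0 ≠ 2 by omega)] at h1; omega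
    · rw [at_add, at_E_ne (show 1 ≠ 2 by omega)] at h1; omega
    · rw [at_add, at_E_ne (show 1 ≠ 2 by omega)] at h1; omega
  pt_cond L := by
    rw [at_add, at_add, at_vec_zero, at_E_ne (show 0 ≠ 2 by omega), at_E_ne (show 1 ≠ 2 by omega)]
    omega
  deg_sum L := by
    simp only [Pi.sub_apply, Finset.sum_sub_distrib, sum_vec, sum_smul (q : ℤ) (show 1 < n + 1 by omega), L.2.1, sub_self]
  hneg L a z hv hnot hnn haz hc := by
    obtain ⟨v0, hMem⟩ := (inI_iff hB _).1 hv
    rw [← at_val a z] at haz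
    have hz : z.val < n + 1 := z.isLt
    have hvz := v0 z.val
    have hV := at_nonneg (vec_nonneg L.1)
    have hz1 : z.val = 1 := by
      have := hV z.val
      rw [at_sub, at_sub, at_smul, at_E' 1] at hvz
      split_ifs at hvz <;> omega
    obtain ⟨hc0, -⟩ := hc
    rw [ev_eq, hz1, at_add, at_E_ne (show 0 ≠ 1 by omega), add_zero] at hc0
    rw [hz1] at haz
    have hv1 : at' (a - (vec L.1 - fun l => (q : ℤ) * E (n := n) 1 l)) 1 < q := by
      have := hV 1
      rw [at_sub, at_sub, at_smul, at_E_self (show 1 < n + 1 by omega)]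
      omega
    have hv00 : at' (a - (vec L.1 - fun l => (q : ℤ) * E (n := n) 1 l)) 0 = 0 := by
      rw [at_sub, at_sub, at_smul, at_vec_zero, at_E_ne (show 0 ≠ 1 by omega), hc0]; omega
    rcases hMem with h1 | ⟨h1, -⟩ | h1 | ⟨h1, -⟩ <;> omega
  hzero L a hv hnot hnn ha0 := by
    exfalso
    obtain ⟨v0, hMem⟩ := (inI_iff hB _).1 hv
    have hV := at_nonneg (vec_nonneg L.1)
    have hv00 : at' (a - (vec L.1 - fun l => (q : ℤ) * E (n := n) 1 l)) 0 = 0 := by
      rw [at_sub, at_sub, at_smul, at_vec_zero, at_E_ne (show 0 ≠ 1 by omega), ha0]; omega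
    rcases hMem with h1 | ⟨h1, -⟩ | h1 | ⟨h1, l, hl, hl', h2⟩
    · omega
    · omega
    · refine hnot (mem_up0 hB hn hq hm hmn hnn le_rfl (by omega) ?_)
      have := hV 1
      rw [at_sub, at_sub, at_smul, at_E_self (show 1 < n + 1 by omega)] at h1
      omega
    · refine hnot (mem_up0 hB hn hq hm hmn hnn (show 1 ≤ l by omega) (by omega) ?_)
      have := hV l
      rw [at_sub, at_sub, at_smul, at_E_ne (show l ≠ 1 by omega)] at h2
      omega
  hone L a hv hnot hnn ha0 := by
    have hV := at_nonneg (vec_nonneg L.1)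
    by_cases hc : at' (vec L.1) 1 + 1 = q ∧ at' a 1 + 1 = q
    · exfalso
      obtain ⟨v0, hMem⟩ := (inI_iff hB _).1 hv
      have hv00 : at' (a - (vec L.1 - fun l => (q : ℤ) * E (n := n) 1 l)) 0 = 0 := by
        rw [at_sub, at_sub, at_smul, at_vec_zero, at_E_ne (show 0 ≠ 1 by omega), ha0]; omega
      have hv1 : at' (a - (vec L.1 - fun l => (q : ℤ) * E (n := n) 1 l)) 1 = q := by
        rw [at_sub, at_sub, at_smul, at_E_self (show 1 < n + 1 by omega)]; omega
      rcases hMem with h1 | ⟨h1, -⟩ | h1 | ⟨h1, l, hl, hl', h2⟩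
      · omega
      · omega
      · omega
      · refine hnot (mem_up1 hB hn hq hm hmn hnn (by omega) hl hl' ?_)
        have := hV l
        rw [at_sub, at_sub, at_smul, at_E_ne (show l ≠ 1 by omega)] at h2
        omega
    · exact ⟨fun h => ⟨rfl, fun h' => by have := h.2 h'; omega⟩, fun h => ⟨rfl, fun h' => by have := h.2 h'; omega⟩⟩
  sep L L' h _ := by
    refine Subtype.ext (vec_inj fun l hl hl' => ?_)
    have := congrArg (fun v => at' v l) h
    simp only [at_sub] at this
    omega

/-- Degree-`d` monomials in `x₁, …, x_n` other than the powers of the first and of the last variable. -/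
abbrev W1Idx (n d : ℕ) := {L : Fin n →₀ ℕ // (Finset.univ.sum fun l => L l) = d ∧
  (∀ l : Fin n, l.val = 0 → L l < d) ∧ ∀ l : Fin n, l.val + 1 = n → L l < d}

omit hB hn hq hm hmn in
theorem w1idx_finite (n d : ℕ) : Finite (W1Idx n d) := by
  haveI := widx_finite n d
  exact Finite.of_injective (fun L => (⟨L.1, L.2.1⟩ : {L : Fin n →₀ ℕ // (Finset.univ.sum fun l => L l) = d}))
    fun a b h => Subtype.ext (congrArg Subtype.val h :)

/-- `x₁^{q+1} ↦ L`, for a principal second block. -/
noncomputable def famW1 (hm1 : m = 1) : Fam I where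
  T := W1Idx n (q + 1)
  fin := @Fintype.ofFinite _ (w1idx_finite n (q + 1))
  deg L := vec L.1 - fun l => ((q : ℤ) + 1) * E (n := n) 1 l
  pt L := vec L.1
  cond _ x _ := x = 0
  pt_nonneg L := vec_nonneg L.1
  pt_mem L := by
    rw [sub_sub_cancel, inI_iff hB]
    refine ⟨fun l => by rw [at_smul, at_E' 1]; split_ifs <;> omega, Or.inr (Or.inr (Or.inl ?_))⟩
    rw [at_smul, at_E_self (show 1 < n + 1 by omega)]; omega
  pt_not_mem L h := by
    have h1' : at' (vec L.1) 1 < q + 1 := by
      have e := at_vec_succ L.1 (⟨0, by omega⟩ : Fin n)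
      have hL := L.2.2.1 ⟨0, by omega⟩ rfl
      norm_num at e
      rw [e]
      exact_mod_cast hL
    have h0' := at_vec_zero L.1
    rcases ((inI_iff hB _).1 h).2 with h1 | ⟨h1, -⟩ | h1 | ⟨h1, l, hl, hl', -⟩ <;> omega
  pt_cond L := at_vec_zero L.1
  deg_sum L := by
    simp only [Pi.sub_apply, Finset.sum_sub_distrib, sum_vec, sum_smul ((q : ℤ) + 1) (show 1 < n + 1 by omega), L.2.1]
    push_cast; ring
  hneg L a z hv hnot hnn haz hc := by
    obtain ⟨v0, hMem⟩ := (inI_iff hB _).1 hv
    rw [← at_val a z] at haz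
    have hz : z.val < n + 1 := z.isLt
    have hvz := v0 z.val
    have hV := at_nonneg (vec_nonneg L.1)
    have hz1 : z.val = 1 := by
      have := hV z.val
      rw [at_sub, at_sub, at_smul, at_E' 1] at hvz
      split_ifs at hvz <;> omega
    rw [ev_eq, hz1, at_add, at_E_ne (show 0 ≠ 1 by omega), add_zero] at hc
    rw [hz1] at haz
    have hv00 : at' (a - (vec L.1 - fun l => ((q : ℤ) + 1) * E (n := n) 1 l)) 0 = 0 := by
      rw [at_sub, at_sub, at_smul, at_vec_zero, at_E_ne (show 0 ≠ 1 by omega), hc]; omega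
    have := hV 1
    rcases hMem with h1 | ⟨h1, -⟩ | h1 | ⟨h1, l, hl, hl', -⟩
    · omega
    · omega
    · rw [at_sub, at_sub, at_smul, at_E_self (show 1 < n + 1 by omega)] at h1; omega
    · omega
  hzero L a hv hnot hnn ha0 := by
    exfalso
    obtain ⟨v0, hMem⟩ := (inI_iff hB _).1 hv
    have hV := at_nonneg (vec_nonneg L.1)
    have hv00 : at' (a - (vec L.1 - fun l => ((q : ℤ) + 1) * E (n := n) 1 l)) 0 = 0 := by
      rw [at_sub, at_sub, at_smul, at_vec_zero, at_E_ne (show 0 ≠ 1 by omega), ha0]; omega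
    rcases hMem with h1 | ⟨h1, -⟩ | h1 | ⟨h1, l, hl, hl', -⟩
    · omega
    · omega
    · rw [at_sub, at_sub, at_smul, at_E_self (show 1 < n + 1 by omega)] at h1
      obtain ⟨l, hl⟩ : ∃ l : Fin n, l.val + 1 < n ∧ 0 < L.1 l := by
        by_contra hc
        push Not at hc
        have hlast : L.1 ⟨n - 1, by omega⟩ = q + 1 := by
          refine (Finset.sum_eq_single (⟨n - 1, by omega⟩ : Fin n) (fun l _ hl => ?_) (by simp)).symm.trans L.2.1
          exact Nat.le_zero.1 (hc l (by
            have : l.val ≠ n - 1 := fun h => hl (Fin.ext h)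
            have : l.val < n := l.isLt
            omega))
        have := L.2.2.2 ⟨n - 1, by omega⟩ (by simp only; omega)
        omega
      refine hnot (mem_up0 hB hn hq hm hmn hnn (show 1 ≤ l.val + 1 by omega) hl.1 ?_)
      have h2 := v0 (l.val + 1)
      rw [at_sub, at_sub, at_smul, at_vec_succ] at h2
      by_cases hl0 : l.val = 0
      · rw [hl0] at h2 ⊢
        rw [at_E_self (show 0 + 1 < n + 1 by omega)] at h2
        have := hV 1
        have hL := at_vec_succ L.1 l
        rw [hl0] at hL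
        norm_num at hL h2 ⊢
        omega
      · rw [at_E_ne (show l.val + 1 ≠ 1 by omega)] at h2; omega
    · omega
  hone _ _ _ _ _ _ := Iff.rfl
  sep L L' h _ := by
    refine Subtype.ext (vec_inj fun l hl hl' => ?_)
    have := congrArg (fun v => at' v l) h
    simp only [at_sub] at this
    omega

/-- `x₁^q x_j ↦ x₁^q x_a` with `a` beyond the second block. -/
noncomputable def famE : Fam I where
  T := Fin m × Fin (n - m)
  fin := inferInstance
  deg t := E (t.2.val + m + 1) - E (t.1.val + 1)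
  pt t := (fun l => (q : ℤ) * E (n := n) 1 l) + E (t.2.val + m + 1)
  cond _ x y := x = 0 ∧ (q : ℤ) ≤ y
  pt_nonneg _ l := by simp only [Pi.add_apply, E_apply]; split_ifs <;> omega
  pt_mem t := by
    have hj : t.1.val < m := t.1.isLt
    rw [show (fun l => (q : ℤ) * E (n := n) 1 l) + E (t.2.val + m + 1) - (E (t.2.val + m + 1) - E (t.1.val + 1)) =
      (fun l => (q : ℤ) * E (n := n) 1 l) + E (t.1.val + 1) by abel, inI_iff hB]
    refine ⟨fun l => by rw [at_add, at_smul, at_E' 1, at_E' (t.1.val + 1)]; split_ifs <;> omega, ?_⟩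
    by_cases h : t.1.val = 0
    · refine Or.inr (Or.inr (Or.inl ?_))
      rw [h, at_add, at_smul, at_E_self (by omega)]; omega
    · refine Or.inr (Or.inr (Or.inr ⟨?_, t.1.val + 1, by omega, by omega, ?_⟩))
      · rw [at_add, at_smul, at_E_self (by omega), at_E_ne (by omega)]; omega
      · rw [at_add, at_smul, at_E_ne (show t.1.val + 1 ≠ 1 by omega), at_E_self (by omega)]; omega
  pt_not_mem t h := by
    have ha : t.2.val < n - m := t.2.isLt
    rcases ((inI_iff hB _).1 h).2 with h1 | ⟨h1, -⟩ | h1 | ⟨-, l, hl, hl', h1⟩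
    all_goals (rw [at_add, at_smul] at h1)
    · rw [at_E_ne (show 0 ≠ 1 by omega), at_E_ne (show 0 ≠ t.2.val + m + 1 by omega)] at h1; omega
    · rw [at_E_ne (show 0 ≠ 1 by omega), at_E_ne (show 0 ≠ t.2.val + m + 1 by omega)] at h1; omega
    · rw [at_E_self (show 1 < n + 1 by omega), at_E_ne (show 1 ≠ t.2.val + m + 1 by omega)] at h1; omega
    · rw [at_E_ne (show l ≠ 1 by omega), at_E_ne (show l ≠ t.2.val + m + 1 by omega)] at h1; omega
  pt_cond t := by
    rw [at_add, at_add, at_smul, at_smul, at_E_ne (show 0 ≠ 1 by omega), at_E_ne (show 0 ≠ t.2.val + m + 1 by omega),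
      at_E_self (show 1 < n + 1 by omega), at_E_ne (show 1 ≠ t.2.val + m + 1 by omega)]
    omega
  deg_sum t := by
    have ha : t.2.val < n - m := t.2.isLt
    have hj : t.1.val < m := t.1.isLt
    simp only [Pi.sub_apply, Finset.sum_sub_distrib, sum_E (n := n) (i := t.2.val + m + 1) (by omega),
      sum_E (n := n) (i := t.1.val + 1) (by omega), sub_self]
  hneg t a z hv hnot hnn haz hc := by
    have ha : t.2.val < n - m := t.2.isLt
    have hj : t.1.val < m := t.1.isLt
    obtain ⟨v0, hMem⟩ := (inI_iff hB _).1 hv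
    obtain ⟨f0, f1, f2, f3⟩ := not_inI_facts hB hnot (at_nonneg hnn)
    rw [← at_val a z] at haz
    have hz : z.val < n + 1 := z.isLt
    have hzj : z.val = t.1.val + 1 := by
      have hvz := v0 z.val
      rw [at_sub, at_sub, at_E' (t.2.val + m + 1), at_E' (t.1.val + 1)] at hvz
      split_ifs at hvz <;> omega
    obtain ⟨hc0, hc1⟩ := hc
    simp only [ev_eq, hzj, at_add] at *
    rw [at_E_ne (show 0 ≠ t.1.val + 1 by omega), add_zero] at hc0
    have hj2 : t.1.val ≠ 0 := by
      intro h
      rw [h] at haz hc1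
      rw [at_E_self (show 0 + 1 < n + 1 by omega)] at hc1
      norm_num at haz hc1
      omega
    rw [at_E_ne (show 1 ≠ t.1.val + 1 by omega), add_zero] at hc1 f2
    rcases hMem with h1 | ⟨h1, -⟩ | h1 | ⟨h1, l, hl, hl', h2⟩
    · rw [at_sub, at_sub, at_E_ne (show 0 ≠ t.2.val + m + 1 by omega), at_E_ne (show 0 ≠ t.1.val + 1 by omega)] at h1; omega
    · rw [at_sub, at_sub, at_E_ne (show 0 ≠ t.2.val + m + 1 by omega), at_E_ne (show 0 ≠ t.1.val + 1 by omega)] at h1; omega
    · rw [at_sub, at_sub, at_E_ne (show 1 ≠ t.2.val + m + 1 by omega), at_E_ne (show 1 ≠ t.1.val + 1 by omega)] at h1; omega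
    · have := f3 l hl hl'
      rw [at_E_ne (show 1 ≠ t.1.val + 1 by omega)] at this
      rw [at_sub, at_sub, at_E_ne (show l ≠ t.2.val + m + 1 by omega)] at h2
      omega
  hzero t a hv hnot hnn ha0 := by
    by_cases h : (q : ℤ) ≤ at' a 1
    · exact absurd (mem_up0 hB hn hq hm hmn hnn le_rfl (by omega) (by omega : 1 ≤ at' a 1)) hnot
    · exact iff_of_false (fun h' => h h'.2) (fun h' => h h'.2)
  hone t a hv hnot hnn ha0 := by
    have ha : t.2.val < n - m := t.2.isLt
    have hj : t.1.val < m := t.1.isLt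
    by_cases h : at' a 1 + 1 = q
    · exfalso
      obtain ⟨v0, hMem⟩ := (inI_iff hB _).1 hv
      have hv00 : at' (a - (E (n := n) (t.2.val + m + 1) - E (t.1.val + 1))) 0 = 0 := by
        rw [at_sub, at_sub, at_E_ne (show 0 ≠ t.2.val + m + 1 by omega), at_E_ne (show 0 ≠ t.1.val + 1 by omega), ha0]
        rfl
      have hv1 : at' (a - (E (n := n) (t.2.val + m + 1) - E (t.1.val + 1))) 1 =
          at' a 1 + (if t.1.val = 0 then 1 else 0) := by
        rw [at_sub, at_sub, at_E_ne (show 1 ≠ t.2.val + m + 1 by omega), at_E' (t.1.val + 1)]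
        split_ifs <;> omega
      rcases hMem with h1 | ⟨h1, -⟩ | h1 | ⟨h1, l, hl, hl', h2⟩
      · omega
      · omega
      · rw [hv1] at h1; split_ifs at h1 <;> omega
      · refine hnot (mem_up1 hB hn hq hm hmn hnn (by omega) hl hl' ?_)
        rw [hv1] at h1
        rw [at_sub, at_sub, at_E_ne (show l ≠ t.2.val + m + 1 by omega), at_E' (t.1.val + 1)] at h2
        split_ifs at h1 h2 <;> omega
    · exact ⟨fun h' => ⟨rfl, by have := h'.2; omega⟩, fun h' => ⟨rfl, by have := h'.2; omega⟩⟩
  sep t t' h _ := by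
    have ha : t.2.val < n - m := t.2.isLt
    have hj : t.1.val < m := t.1.isLt
    have h1 := congrArg (fun v => at' v (t.1.val + 1)) h
    have h2 := congrArg (fun v => at' v (t.2.val + m + 1)) h
    simp only [at_sub] at h1 h2
    rw [at_E_self (show t.1.val + 1 < n + 1 by omega), at_E_ne (show t.1.val + 1 ≠ t.2.val + m + 1 by omega),
      at_E' (t'.2.val + m + 1), at_E' (t'.1.val + 1)] at h1
    rw [at_E_self (show t.2.val + m + 1 < n + 1 by omega), at_E_ne (show t.2.val + m + 1 ≠ t.1.val + 1 by omega),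
      at_E' (t'.2.val + m + 1), at_E' (t'.1.val + 1)] at h2
    refine Prod.ext (Fin.ext ?_) (Fin.ext ?_)
    · split_ifs at h1 <;> omega
    · split_ifs at h2 <;> omega

end Groth.HilbPn.TwoBlock
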