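import Groth.Agent.HilbPn.TwoBlockCover

/-! The dimension counts for the two-block ideals. -/

set_option autoImplicit false

universe u

open MvPolynomial W4c1hilbpn

namespace Groth.HilbPn.TwoBlock

attribute [local instance] Classical.propDecidable

variable {k : Type u} [Field k] {n q m : ℕ}

theorem isMonomial_span (S : Set (Fin (n + 1) →₀ ℕ)) :
    IsMonomial (Ideal.span ((fun s => monomial s (1 : k)) '' S)) := fun p hp β hβ => by
  obtain ⟨s, hs, hle⟩ := mem_ideal_span_monomial_image.1 hp β hβ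
  rw [mem_ideal_span_monomial_image, support_monomial, if_neg one_ne_zero]
  simp only [Finset.mem_singleton, forall_eq]
  exact ⟨s, hs, hle⟩

theorem inI_span (S : Set (Fin (n + 1) →₀ ℕ)) (v : Fin (n + 1) → ℤ) :
    InI (Ideal.span ((fun s => monomial s (1 : k)) '' S)) v ↔
      (∀ l, 0 ≤ v l) ∧ ∃ s ∈ S, ∀ l, (s l : ℤ) ≤ v l := by
  refine and_congr_right fun h => ?_
  show monomial (toN v) (1 : k) ∈ Ideal.span ((fun s => monomial s (1 : k)) '' S) ↔ _
  rw [mem_ideal_span_monomial_image, support_monomial, if_neg one_ne_zero]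
  simp only [Finset.mem_singleton, forall_eq]
  refine exists_congr fun s => and_congr_right fun _ => ⟨fun hle l => ?_, fun hle l => ?_⟩
  · have h1 := hle l; have h2 := h l; simp only [toN_apply] at h1; omega
  · have := hle l; simp only [toN_apply]; omega

/-- The exponents of the generators. -/
def gens (n q m : ℕ) : Set (Fin (n + 1) →₀ ℕ) :=
  {s | ∃ i : Fin (n + 1), i.val + 1 ≤ n ∧ s = Finsupp.single 0 1 + Finsupp.single i 1} ∪
    {s | ∃ i : Fin (n + 1), 1 ≤ i.val ∧ i.val ≤ m ∧ s = Finsupp.single 1 q + Finsupp.single i 1}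

theorem isTwoBlock_gens (hn : 3 ≤ n) (hm : 1 ≤ m) (hmn : m + 1 ≤ n) :
    IsTwoBlock n q m (Ideal.span ((fun s => monomial s (1 : k)) '' gens n q m)) := by
  intro v
  rw [inI_span]
  refine and_congr_right fun h0 => ?_
  have e0 : at' v 0 = v 0 := at_val v 0
  have e1 : at' v 1 = v 1 := by
    have := at_val v 1
    rwa [Fin.val_one', Nat.mod_eq_of_lt (by omega)] at this
  have h10 : (1 : Fin (n + 1)) ≠ 0 := fun h => by
    have := congrArg Fin.val h
    rw [Fin.val_one', Fin.val_zero, Nat.mod_eq_of_lt (by omega)] at this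
    omega
  constructor
  · rintro ⟨_, (⟨i, hi, rfl⟩ | ⟨i, hi, hi', rfl⟩), hle⟩
    · have a0 := hle 0
      have ai := hle i
      by_cases hi0 : i = 0
      · subst hi0; left; simp at a0; omega
      · refine Or.inr (Or.inl ⟨?_, i.val, Nat.pos_of_ne_zero fun h => hi0 (Fin.ext h), by omega, ?_⟩)
        · simp [Ne.symm hi0] at a0; omega
        · rw [at_val]; simp [Ne.symm hi0, Finsupp.single_apply] at ai; omega
    · have a1 := hle 1
      have ai := hle i
      by_cases hi1 : i = 1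
      · subst hi1; refine Or.inr (Or.inr (Or.inl ?_)); simp at a1; omega
      · have hne : i.val ≠ 1 := fun h => hi1 (Fin.ext (by rw [h, Fin.val_one', Nat.mod_eq_of_lt (by omega)]))
        refine Or.inr (Or.inr (Or.inr ⟨?_, i.val, by omega, hi', ?_⟩))
        · simp [Finsupp.single_apply, hi1] at a1; omega
        · rw [at_val]; simp [Finsupp.single_apply, hi1, Ne.symm hi1] at ai; omega
  · have nn := h0
    rintro (h | ⟨h, l, hl, hl', h'⟩ | h | ⟨h, l, hl, hl', h'⟩)
    · refine ⟨_, Or.inl ⟨0, by rw [Fin.val_zero]; omega, rfl⟩, fun x => ?_⟩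
      have := nn x
      by_cases hx : x = 0
      · subst hx; simp; omega
      · simp [Finsupp.single_apply, Ne.symm hx]; omega
    · rw [show at' v l = v ⟨l, by omega⟩ from dif_pos (by omega)] at h'
      refine ⟨_, Or.inl ⟨⟨l, by omega⟩, by simp only; omega, rfl⟩, fun x => ?_⟩
      have hl0 : (⟨l, by omega⟩ : Fin (n + 1)) ≠ 0 := fun hh => by
        have := congrArg Fin.val hh
        simp at this
        omega
      have := nn x
      by_cases hx : x = 0
      · subst hx; simp [Finsupp.single_apply, hl0]; omega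
      · by_cases hx' : x = ⟨l, by omega⟩
        · rw [hx'] at hx this ⊢; simp [Finsupp.single_apply, Ne.symm hx]; omega
        · simp [Finsupp.single_apply, Ne.symm hx, Ne.symm hx']; omega
    · refine ⟨_, Or.inr ⟨1, by rw [Fin.val_one', Nat.mod_eq_of_lt (by omega)], by
        rw [Fin.val_one', Nat.mod_eq_of_lt (by omega)]; exact hm, rfl⟩, fun x => ?_⟩
      have := nn x
      by_cases hx : x = 1
      · subst hx; simp; omega
      · simp [Finsupp.single_apply, Ne.symm hx]; omega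
    · rw [show at' v l = v ⟨l, by omega⟩ from dif_pos (by omega)] at h'
      refine ⟨_, Or.inr ⟨⟨l, by omega⟩, by simp only; omega, by simp only; omega, rfl⟩, fun x => ?_⟩
      have hl1 : (⟨l, by omega⟩ : Fin (n + 1)) ≠ 1 := fun hh => by
        have := congrArg Fin.val hh
        rw [Fin.val_one', Nat.mod_eq_of_lt (by omega)] at this
        simp only at this
        omega
      have := nn x
      by_cases hx : x = 1
      · subst hx; simp [Finsupp.single_apply, hl1]; omega
      · by_cases hx' : x = ⟨l, by omega⟩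
        · rw [hx'] at hx this ⊢; simp [Finsupp.single_apply, Ne.symm hx]; omega
        · simp [Finsupp.single_apply, Ne.symm hx, Ne.symm hx']; omega

theorem image_gens (r : ℕ) (hn : r + 1 ≤ n) :
    (fun s => monomial s (1 : k)) '' gens n q r =
      {f : MvPolynomial (Fin (n + 1)) k | ∃ i : Fin (n + 1), i.val + 1 ≤ n ∧ f = X 0 * X i} ∪
        {f : MvPolynomial (Fin (n + 1)) k | ∃ i : Fin (n + 1), 1 ≤ i.val ∧ i.val ≤ r ∧ f = X 1 ^ q * X i} := by
  rw [gens, Set.image_union]
  congr 1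
  · ext f
    constructor
    · rintro ⟨_, ⟨i, hi, rfl⟩, rfl⟩
      exact ⟨i, hi, by simp [X, monomial_mul]⟩
    · rintro ⟨i, hi, rfl⟩
      exact ⟨_, ⟨i, hi, rfl⟩, by simp [X, monomial_mul]⟩
  · ext f
    constructor
    · rintro ⟨_, ⟨i, hi, hi', rfl⟩, rfl⟩
      exact ⟨i, hi, hi', by simp [X_pow_eq_monomial, X, monomial_mul, monomial_pow]⟩
    · rintro ⟨i, hi, hi', rfl⟩
      exact ⟨_, ⟨i, hi, hi', rfl⟩, by simp [X_pow_eq_monomial, X, monomial_mul, monomial_pow]⟩

theorem card_all_deg (n d : ℕ) (hn : 1 ≤ n) :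
    (Finset.univ.finsuppAntidiag d : Finset (Fin n →₀ ℕ)).card = (n + d - 1).choose (n - 1) := by
  rw [Finset.card_finsuppAntidiag_nat_eq_multichoose, Nat.multichoose_eq, Finset.card_univ, Fintype.card_fin]
  exact Nat.choose_symm_of_eq_add (by omega)

theorem single_of_top {d : ℕ} {L : Fin n →₀ ℕ} (hs : (Finset.univ.sum fun l => L l) = d) {i : Fin n}
    (h : d ≤ L i) : L = Finsupp.single i d := by
  ext l
  have hsplit := Finset.add_sum_erase Finset.univ (fun l => L l) (Finset.mem_univ i)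
  by_cases hl : l = i
  · subst hl; rw [Finsupp.single_eq_same]; omega
  · have := Finset.single_le_sum (f := fun l => L l) (fun w _ => Nat.zero_le _)
      (Finset.mem_erase.2 ⟨hl, Finset.mem_univ l⟩)
    rw [Finsupp.single_eq_of_ne hl]
    omega

theorem card_WIdx (hn : 1 ≤ n) (hq : 1 ≤ q) [Fintype (WIdx n q)] :
    Fintype.card (WIdx n q) + 1 = (n + q - 1).choose (n - 1) := by
  rw [← card_all_deg n q hn]
  have hmem : Finsupp.single (⟨0, by omega⟩ : Fin n) q ∈ (Finset.univ.finsuppAntidiag q : Finset (Fin n →₀ ℕ)) := by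
    rw [Finset.mem_finsuppAntidiag]
    exact ⟨by simp [Finsupp.single_apply], Finset.subset_univ _⟩
  rw [← Finset.card_erase_add_one hmem, ← Fintype.card_coe]
  congr 1
  refine Fintype.card_congr
    { toFun := fun L => ⟨L.1, Finset.mem_erase.2 ⟨fun h => ?_, Finset.mem_finsuppAntidiag.2 ⟨L.2.1, Finset.subset_univ _⟩⟩⟩
      invFun := fun L => ⟨L.1, (Finset.mem_finsuppAntidiag.1 (Finset.mem_erase.1 L.2).2).1, fun l hl => ?_⟩
      left_inv := fun L => rfl
      right_inv := fun L => rfl }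
  · have := L.2.2 ⟨0, by omega⟩ rfl
    rw [h, Finsupp.single_eq_same] at this
    omega
  · by_contra hge
    refine (Finset.mem_erase.1 L.2).1 ?_
    have := single_of_top (Finset.mem_finsuppAntidiag.1 (Finset.mem_erase.1 L.2).2).1 (not_lt.1 hge)
    rw [this, show l = ⟨0, by omega⟩ from Fin.ext hl]

theorem card_W1Idx {d : ℕ} (hn : 2 ≤ n) (hd : 1 ≤ d) [Fintype (W1Idx n d)] :
    Fintype.card (W1Idx n d) + 2 = (n + d - 1).choose (n - 1) := by
  rw [← card_all_deg n d (by omega)]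
  have hne : (⟨0, by omega⟩ : Fin n) ≠ ⟨n - 1, by omega⟩ := fun h => by
    have := congrArg Fin.val h; simp only at this; omega
  have hmem : ∀ i : Fin n, Finsupp.single i d ∈ (Finset.univ.finsuppAntidiag d : Finset (Fin n →₀ ℕ)) := fun i => by
    rw [Finset.mem_finsuppAntidiag]
    exact ⟨by simp [Finsupp.single_apply], Finset.subset_univ _⟩
  have hne' : Finsupp.single (⟨n - 1, by omega⟩ : Fin n) d ∈
      (Finset.univ.finsuppAntidiag d : Finset (Fin n →₀ ℕ)).erase (Finsupp.single (⟨0, by omega⟩ : Fin n) d) := by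
    refine Finset.mem_erase.2 ⟨fun h => ?_, hmem _⟩
    have := DFunLike.congr_fun h (⟨0, by omega⟩ : Fin n)
    rw [Finsupp.single_eq_same, Finsupp.single_eq_of_ne hne] at this
    omega
  rw [← Finset.card_erase_add_one (hmem (⟨0, by omega⟩ : Fin n)), ← Finset.card_erase_add_one hne', ← Fintype.card_coe,
    add_assoc]
  congr 1
  refine Fintype.card_congr
    { toFun := fun L => ⟨L.1, Finset.mem_erase.2 ⟨fun h => ?_, Finset.mem_erase.2 ⟨fun h => ?_,
        Finset.mem_finsuppAntidiag.2 ⟨L.2.1, Finset.subset_univ _⟩⟩⟩⟩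
      invFun := fun L => ⟨L.1, (Finset.mem_finsuppAntidiag.1 (Finset.mem_erase.1 (Finset.mem_erase.1 L.2).2).2).1,
        fun l hl => ?_, fun l hl => ?_⟩
      left_inv := fun L => rfl
      right_inv := fun L => rfl }
  · have := L.2.2.2 ⟨n - 1, by omega⟩ (by simp only; omega)
    rw [h, Finsupp.single_eq_same] at this
    omega
  · have := L.2.2.1 ⟨0, by omega⟩ rfl
    rw [h, Finsupp.single_eq_same] at this
    omega
  · by_contra hge
    refine (Finset.mem_erase.1 (Finset.mem_erase.1 L.2).2).1 ?_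
    have := single_of_top (Finset.mem_finsuppAntidiag.1 (Finset.mem_erase.1 (Finset.mem_erase.1 L.2).2).2).1
      (not_lt.1 hge)
    rw [this, show l = ⟨0, by omega⟩ from Fin.ext hl]
  · by_contra hge
    refine (Finset.mem_erase.1 L.2).1 ?_
    have := single_of_top (Finset.mem_finsuppAntidiag.1 (Finset.mem_erase.1 (Finset.mem_erase.1 L.2).2).2).1
      (not_lt.1 hge)
    rw [this, show l = ⟨n - 1, by omega⟩ from Fin.ext (by simp only; omega)]

variable {I : Ideal (MvPolynomial (Fin (n + 1)) k)}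

theorem at0_fams (hB : IsTwoBlock n q m I) (hn : 3 ≤ n) (hq : 1 ≤ q) (hmn : m + 1 ≤ n) :
    (∀ t, at' ((famA hB hn hq hmn).deg t) 0 ≤ 0 ∧ at' ((famA hB hn hq hmn).pt t) 0 = 1) ∧
      ∀ t, at' ((famB hB hn hq hmn).deg t) 0 = 1 ∧ at' ((famB hB hn hq hmn).pt t) 0 = 1 := by
  constructor
  · intro t
    constructor
    · show at' (E n - E (Fin.val t)) 0 ≤ 0
      rw [at_sub, at_E', at_E']; split_ifs <;> omega
    · show at' (E (n := n) 0 + E n) 0 = 1
      rw [at_add, at_E', at_E']; split_ifs <;> omega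
  · intro t
    constructor
    · show at' (E 0 + (fun l => (q : ℤ) * E (n := n) n l) - (fun l => (q : ℤ) * E (n := n) 1 l) - E (Fin.val t + 1)) 0 = 1
      simp only [at_sub, at_add, at_smul]
      rw [at_E_self (show 0 < n + 1 by omega), at_E_ne (show 0 ≠ n by omega), at_E_ne (show 0 ≠ 1 by omega),
        at_E_ne (show 0 ≠ Fin.val t + 1 by omega)]
      ring
    · show at' (E 0 + fun l => (q : ℤ) * E (n := n) n l) 0 = 1
      rw [at_add, at_smul, at_E_self (show 0 < n + 1 by omega), at_E_ne (show 0 ≠ n by omega)]; ring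

/-- The families moving `x₀ x_n`. -/
noncomputable def headFam (hB : IsTwoBlock n q m I) (hn : 3 ≤ n) (hq : 1 ≤ q) (hmn : m + 1 ≤ n) : Fam I :=
  (famA hB hn hq hmn).sum (famB hB hn hq hmn)
    (fun t u h _ => by
      have := ((at0_fams hB hn hq hmn).1 t).1; have := ((at0_fams hB hn hq hmn).2 u).1
      rw [h] at *; omega)
    (fun t u h _ => by
      have := ((at0_fams hB hn hq hmn).1 t).1; have := ((at0_fams hB hn hq hmn).2 u).1
      rw [h] at *; omega)

theorem headFam_facts (hB : IsTwoBlock n q m I) (hn : 3 ≤ n) (hq : 1 ≤ q) (hmn : m + 1 ≤ n) :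
    (∀ t, at' ((headFam hB hn hq hmn).pt t) 0 = 1) ∧
      (∀ t x y, (headFam hB hn hq hmn).cond t x y → 1 ≤ x) ∧
      @Fintype.card _ (headFam hB hn hq hmn).fin = n + m := by
  refine ⟨?_, ?_, ?_⟩
  · rintro (t | t)
    · exact ((at0_fams hB hn hq hmn).1 t).2
    · exact ((at0_fams hB hn hq hmn).2 t).2
  · rintro (t | t) x y h <;> exact h
  · show Fintype.card (Fin n ⊕ Fin m) = _
    simp

theorem cover_all (hB : IsTwoBlock n q m I) (hn : 3 ≤ n) (hq : 1 ≤ q) (hm : 1 ≤ m) (hmn : m + 1 ≤ n) (F : Fam I)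
    (hA : ∀ {α γ}, (famA hB hn hq hmn).Covers α γ → F.Covers α γ)
    (hBc : ∀ {α γ}, (famB hB hn hq hmn).Covers α γ → F.Covers α γ)
    (hquad : ∀ {α γ}, GenPoint I α γ → ∀ i, i < n → γ - α = E 0 + E i → at' γ 0 = 0 → F.Covers α γ)
    (hhigh : ∀ {α γ}, GenPoint I α γ → ∀ j, 1 ≤ j → j ≤ m →
      γ - α = (fun l => (q : ℤ) * E (n := n) 1 l) + E j → at' γ 0 = 0 → F.Covers α γ) :
    ∀ α γ, GenPoint I α γ → F.Covers α γ := by
  intro α γ hg
  by_cases h : 1 ≤ at' γ 0
  · exact cover_head hB hn hq hm hmn hg h F hA hBc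
  · have h0 : at' γ 0 = 0 := by have := at_nonneg hg.nonneg 0; omega
    rcases gen_cases hB hn hq hm hmn hg with ⟨i, hi, hβ⟩ | ⟨j, hj, hj', hβ⟩
    · exact hquad hg i hi hβ h0
    · exact hhigh hg j hj hj' hβ h0

theorem at_high (hn : 3 ≤ n) :
    (∀ c, c < n + 1 → c ≠ 0 → at' (E (n := n) c - E 0) 0 = -1) ∧
    (∀ c d, d ≤ n → c ≠ 0 → d ≠ 0 → at' (E (n := n) c - E d) 0 = 0) := by
  refine ⟨fun c _ hc => ?_, fun c d _ hc hd => ?_⟩
  · rw [at_sub, at_E_ne (Ne.symm hc), at_E_self (show 0 < n + 1 by omega)]; ring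
  · rw [at_sub, at_E_ne (Ne.symm hc), at_E_ne (Ne.symm hd)]; ring

/-- The families moving the second block. -/
noncomputable def tailFam (hB : IsTwoBlock n q m I) (hn : 3 ≤ n) (hq : 1 ≤ q) (hm : 1 ≤ m) (hmn : m + 1 ≤ n)
    (hm2 : 2 ≤ m) : Fam I :=
  (famW hB hn hq hm hmn hm2).sum (famE hB hn hq hm hmn)
    (fun t u h hc => by
      have h1 := congrArg (fun v => at' v 1) h
      have e1 : at' ((famE hB hn hq hm hmn).deg u) 1 = -(if u.1.val = 0 then 1 else 0) := by
        show at' (E (n := n) (u.2.val + m + 1) - E (u.1.val + 1)) 1 = _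
        rw [at_sub, at_E_ne (show 1 ≠ u.2.val + m + 1 by omega), at_E' (u.1.val + 1)]
        split_ifs <;> omega
      have e2 : at' ((famW hB hn hq hm hmn hm2).deg t) 1 = at' (vec t.1) 1 - q := by
        show at' (vec t.1 - fun l => (q : ℤ) * E (n := n) 1 l) 1 = _
        rw [at_sub, at_smul, at_E_self (show 1 < n + 1 by omega)]; ring
      have e3 : at' ((famE hB hn hq hm hmn).pt u) 1 = q := by
        show at' ((fun l => (q : ℤ) * E (n := n) 1 l) + E (u.2.val + m + 1)) 1 = _
        rw [at_add, at_smul, at_E_self (show 1 < n + 1 by omega), at_E_ne (show 1 ≠ u.2.val + m + 1 by omega)]; ring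
      simp only [e1, e2] at h1
      have hlt : at' (vec t.1) 1 < q := by
        have e := at_vec_succ t.1 (⟨0, by omega⟩ : Fin n)
        have hL := t.2.2 ⟨0, by omega⟩ rfl
        norm_num at e
        rw [e]; exact_mod_cast hL
      have := hc.2
      rw [e3] at this
      split_ifs at h1 with hj
      · have := this (by omega); omega
      · omega)
    (fun t u h hc => by
      have hlt : at' (vec t.1) 1 < q := by
        have e := at_vec_succ t.1 (⟨0, by omega⟩ : Fin n)
        have hL := t.2.2 ⟨0, by omega⟩ rfl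
        norm_num at e
        rw [e]; exact_mod_cast hL
      have e3 : at' ((famW hB hn hq hm hmn hm2).pt t) 1 = at' (vec t.1) 1 := by
        show at' (vec t.1 + E 2) 1 = _
        rw [at_add, at_E_ne (show 1 ≠ 2 by omega)]; ring
      have := hc.2
      omega)

theorem tailFam_facts (hB : IsTwoBlock n q m I) (hn : 3 ≤ n) (hq : 1 ≤ q) (hm : 1 ≤ m) (hmn : m + 1 ≤ n)
    (hm2 : 2 ≤ m) :
    (∀ t, at' ((tailFam hB hn hq hm hmn hm2).pt t) 0 = 0) ∧
      (∀ t, at' ((tailFam hB hn hq hm hmn hm2).deg t) 0 = 0) ∧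
      (∀ t x y, (tailFam hB hn hq hm hmn hm2).cond t x y → x = 0) ∧
      @Fintype.card _ (tailFam hB hn hq hm hmn hm2).fin + 1 = (n + q - 1).choose (n - 1) + m * (n - m) := by
  refine ⟨?_, ?_, ?_, ?_⟩
  · rintro (t | t) <;> exact ((Fam.pt_cond _ t).1)
  · rintro (t | t)
    · show at' (vec t.1 - fun l => (q : ℤ) * E (n := n) 1 l) 0 = 0
      rw [at_sub, at_smul, at_vec_zero, at_E_ne (show 0 ≠ 1 by omega)]; ring
    · show at' (E (n := n) (t.2.val + m + 1) - E (t.1.val + 1)) 0 = 0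
      exact (at_high hn).2 _ _ (by have := t.1.isLt; omega) (Nat.succ_ne_zero _) (Nat.succ_ne_zero _)
  · rintro (t | t) x y h <;> exact h.1
  · letI : Fintype (WIdx n q) := (famW hB hn hq hm hmn hm2).fin
    have := card_WIdx (n := n) (q := q) (by omega) hq
    show Fintype.card (WIdx n q ⊕ (Fin m × Fin (n - m))) + 1 = _
    rw [Fintype.card_sum, Fintype.card_prod, Fintype.card_fin, Fintype.card_fin]
    omega

/-- Head, middle and tail. -/
noncomputable def assemble (A M T : Fam I)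
    (hA : (∀ t, at' (A.pt t) 0 = 1) ∧ ∀ t x y, A.cond t x y → 1 ≤ x)
    (hM : (∀ t, at' (M.pt t) 0 = 0) ∧ (∀ t, at' (M.deg t) 0 < 0) ∧ ∀ t x y, M.cond t x y → x = 0)
    (hT : (∀ t, at' (T.pt t) 0 = 0) ∧ (∀ t, at' (T.deg t) 0 = 0) ∧ ∀ t x y, T.cond t x y → x = 0) : Fam I :=
  A.sum (M.sum T
      (fun t u h _ => by have := hM.2.1 t; have := hT.2.1 u; rw [h] at *; omega)
      (fun t u h _ => by have := hM.2.1 t; have := hT.2.1 u; rw [h] at *; omega))
    (fun t u _ hc => by
      have h1 := hA.2 _ _ _ hc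
      rcases u with u | u
      · have := hM.1 u; simp only [Fam.sum, Sum.elim_inl] at h1; omega
      · have := hT.1 u; simp only [Fam.sum, Sum.elim_inr] at h1; omega)
    (fun t u _ hc => by
      have := hA.1 t
      rcases u with u | u
      · have := hM.2.2 _ _ _ hc; omega
      · have := hT.2.2 _ _ _ hc; omega)

theorem assemble_card (A M T : Fam I) (hA hM hT) :
    @Fintype.card _ (assemble A M T hA hM hT).fin =
      @Fintype.card _ A.fin + (@Fintype.card _ M.fin + @Fintype.card _ T.fin) := by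
  letI := A.fin; letI := M.fin; letI := T.fin
  show Fintype.card (A.T ⊕ (M.T ⊕ T.T)) = _
  rw [Fintype.card_sum, Fintype.card_sum]

theorem main_general (hI : IsMonomial I) (hB : IsTwoBlock n q m I) (hn : 3 ≤ n) (hq : 1 ≤ q) (hm2 : 2 ≤ m)
    (hmn2 : m + 2 ≤ n) (hcase : m + 3 ≤ n ∨ 3 ≤ q) :
    Module.finrank k ↥(⨆ α : {α : Fin (n + 1) → ℤ // ∑ i, α i = 0}, tPiece I α.1) + 1 =
      n + m + n + ((n + q - 1).choose (n - 1) + m * (n - m)) := by
  have hm : 1 ≤ m := by omega
  have hmn : m + 1 ≤ n := by omega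
  obtain ⟨a1, a2, a3⟩ := headFam_facts hB hn hq hmn
  obtain ⟨t1, t2, t3, t4⟩ := tailFam_facts hB hn hq hm hmn hm2
  let F := assemble (headFam hB hn hq hmn) (famP hB hn hq hm hmn hmn2) (tailFam hB hn hq hm hmn hm2) ⟨a1, a2⟩
    ⟨fun t => Fam.pt_cond _ t, fun t => by
      show at' (E (Fin.val t + 1) - E 0) 0 < 0
      rw [(at_high hn).1 _ (Nat.succ_lt_succ t.isLt) (Nat.succ_ne_zero _)]; omega, fun _ _ _ h => h⟩ ⟨t1, t2, t3⟩
  have hcov := cover_all hB hn hq hm hmn F (fun h => h.inl.inl) (fun h => h.inr.inl)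
    (fun {α γ} hg i hi hβ h0 =>
      ((cover_P hB hn hq hm hmn hmn2 hg hi hβ h0 (quad_pos hB hn hq hm hmn hmn2 hg hi hβ h0
        (hcase.elim (fun h => Or.inr (Or.inl h)) (fun h => Or.inr (Or.inr (Or.inl h)))))).inl).inr)
    (fun {α γ} hg j hj hj' hβ h0 => by
      by_cases h1 : at' γ 1 < q
      · exact ((cover_W hB hn hq hm hmn hm2 hg hj hj' hβ h0 h1).inl).inr.inr
      · exact ((cover_E hB hn hq hm hmn hg hj hj' hβ h0 (not_lt.1 h1)).inr).inr.inr)
  rw [F.count hI hB (by omega) hcov, assemble_card, a3]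
  have hP : @Fintype.card _ (famP hB hn hq hm hmn hmn2).fin = n := Fintype.card_fin n
  omega

theorem main_r1 (hI : IsMonomial I) (hB : IsTwoBlock n 1 m I) (hm2 : 2 ≤ m) (hmn2 : m + 2 = n) :
    Module.finrank k ↥(⨆ α : {α : Fin (n + 1) → ℤ // ∑ i, α i = 0}, tPiece I α.1) + 1 =
      n + m + (n + 1) + (n + m * (n - m)) := by
  have hm : 1 ≤ m := by omega
  have hn : 3 ≤ n := by omega
  have hmn : m + 1 ≤ n := by omega
  have hmn2' : m + 2 ≤ n := by omega
  obtain ⟨a1, a2, a3⟩ := headFam_facts hB hn le_rfl hmn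
  obtain ⟨t1, t2, t3, t4⟩ := tailFam_facts hB hn le_rfl hm hmn hm2
  let X1 := famX hB hn le_rfl hm hmn rfl (ι := Fin 1) (fun _ => n - 1) (fun a b _ => Subsingleton.elim a b)
    (fun _ => by omega) (fun _ l hl hl' => by omega)
  have hX0 : ∀ t, at' (X1.deg t) 0 = -1 := fun t => by
    show at' (E (n := n) 1 + E n - E 0 - E (n - 1)) 0 = -1
    simp only [at_sub, at_add]
    rw [at_E_ne (show 0 ≠ 1 by omega), at_E_ne (show 0 ≠ n by omega), at_E_self (show 0 < n + 1 by omega),
      at_E_ne (show 0 ≠ n - 1 by omega)]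
    ring
  let P1 := famP hB hn le_rfl hm hmn hmn2'
  have hdeg : ∀ t u, P1.deg t ≠ X1.deg u := fun t u h => by
    have h1 := congrArg (fun v => at' v (n - 1)) h
    have h2 := congrArg (fun v => at' v n) h
    simp only [P1, X1, famP, famX, at_sub, at_add] at h1 h2
    rw [at_E_ne (show n - 1 ≠ 1 by omega), at_E_ne (show n - 1 ≠ n by omega), at_E_ne (show n - 1 ≠ 0 by omega),
      at_E_self (show n - 1 < n + 1 by omega), at_E' (Fin.val t + 1)] at h1
    split_ifs at h1 <;> omega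
  let M := P1.sum X1 (fun t u h => absurd h (hdeg t u)) (fun t u h => absurd h (hdeg t u))
  let F := assemble (headFam hB hn le_rfl hmn) M (tailFam hB hn le_rfl hm hmn hm2) ⟨a1, a2⟩
    ⟨fun t => by rcases t with t | t; exacts [Fam.pt_cond P1 t, (Fam.pt_cond X1 t).1], fun t => by
      rcases t with t | t
      · show at' (E (Fin.val t + 1) - E 0) 0 < 0
        rw [(at_high hn).1 _ (Nat.succ_lt_succ t.isLt) (Nat.succ_ne_zero _)]; omega
      · show at' (X1.deg t) 0 < 0
        rw [hX0]; omega, fun t x y h => by rcases t with t | t; exacts [h, h.1]⟩ ⟨t1, t2, t3⟩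
  have hcov := cover_all hB hn le_rfl hm hmn F (fun h => h.inl.inl) (fun h => h.inr.inl)
    (fun {α γ} hg i hi hβ h0 => by
      by_cases hγi : 1 ≤ at' γ i
      · exact ((cover_P hB hn le_rfl hm hmn hmn2' hg hi hβ h0 hγi).inl).inl.inr
      · have hin : i = n - 1 := by
          by_contra h
          exact hγi (quad_pos hB hn le_rfl hm hmn hmn2' hg hi hβ h0 (Or.inl h))
        have hg1 : 1 ≤ at' γ 1 := by
          by_contra h
          have := at_nonneg hg.nonneg 1
          exact hγi (quad_pos hB hn le_rfl hm hmn hmn2' hg hi hβ h0 (Or.inr (Or.inr (Or.inr ⟨rfl, by omega⟩))))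
        obtain ⟨hγ, hα⟩ := x_form hB hn le_rfl hm hmn rfl hg hi hβ h0 hg1 (fun l hl hl' => by
          rw [show l = i by omega]; have := at_nonneg hg.nonneg i; omega)
        subst hin
        exact ((covers_exact X1 (0 : Fin 1) hα.symm hγ.symm).inr).inl.inr)
    (fun {α γ} hg j hj hj' hβ h0 => by
      by_cases h1 : at' γ 1 < (1 : ℕ)
      · exact ((cover_W hB hn le_rfl hm hmn hm2 hg hj hj' hβ h0 h1).inl).inr.inr
      · exact ((cover_E hB hn le_rfl hm hmn hg hj hj' hβ h0 (not_lt.1 h1)).inr).inr.inr)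
  rw [F.count hI hB (by omega) hcov, assemble_card, a3]
  have hM : @Fintype.card _ M.fin = n + 1 := by
    show Fintype.card (Fin n ⊕ Fin 1) = n + 1
    simp
  have hC : (n + 1 - 1).choose (n - 1) = n := by
    rw [show n + 1 - 1 = (n - 1) + 1 by omega, Nat.choose_succ_self_right]; omega
  rw [hC] at t4
  omega

theorem main_r0 (hI : IsMonomial I) (hB : IsTwoBlock n 1 m I) (hm2 : 2 ≤ m) (hmn1 : m + 1 = n) :
    Module.finrank k ↥(⨆ α : {α : Fin (n + 1) → ℤ // ∑ i, α i = 0}, tPiece I α.1) + 1 =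
      n + m + (n - 1 + n) + (n + m * (n - m)) := by
  have hm : 1 ≤ m := by omega
  have hn : 3 ≤ n := by omega
  have hmn : m + 1 ≤ n := by omega
  obtain ⟨a1, a2, a3⟩ := headFam_facts hB hn le_rfl hmn
  obtain ⟨t1, t2, t3, t4⟩ := tailFam_facts hB hn le_rfl hm hmn hm2
  let X1 := famX hB hn le_rfl hm hmn rfl (ι := Fin n) Fin.val Fin.val_injective
    (fun i => i.isLt) (fun _ l hl hl' => by omega)
  let P1 := famP0 hB hn le_rfl hm hmn hmn1 rfl
  have hX0 : ∀ t, at' (X1.deg t) 0 < 0 := fun t => by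
    show at' (E (n := n) 1 + E n - E 0 - E (Fin.val t)) 0 < 0
    simp only [at_sub, at_add]
    rw [at_E_ne (show 0 ≠ 1 by omega), at_E_ne (show 0 ≠ n by omega), at_E_self (show 0 < n + 1 by omega), at_E']
    split_ifs <;> omega
  let M := P1.sum X1 (fun t u _ hc => by
      have := hc.2
      have h2 := (Fam.pt_cond X1 u).2
      omega) (fun t u _ hc => by
      have := hc.2
      have h2 := (Fam.pt_cond P1 t).2
      omega)
  let F := assemble (headFam hB hn le_rfl hmn) M (tailFam hB hn le_rfl hm hmn hm2) ⟨a1, a2⟩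
    ⟨fun t => by rcases t with t | t; exacts [(Fam.pt_cond P1 t).1, (Fam.pt_cond X1 t).1], fun t => by
      rcases t with t | t
      · show at' (E (Fin.val t + 2) - E 0) 0 < 0
        have hlt : Fin.val t < n - 1 := t.isLt
        rw [(at_high hn).1 _ (by omega) (Nat.succ_ne_zero _)]; omega
      · exact hX0 t, fun t x y h => by rcases t with t | t <;> exact h.1⟩ ⟨t1, t2, t3⟩
  have hcov := cover_all hB hn le_rfl hm hmn F (fun h => h.inl.inl) (fun h => h.inr.inl)
    (fun {α γ} hg i hi hβ h0 => by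
      by_cases hg1 : 1 ≤ at' γ 1
      · obtain ⟨hγ, hα⟩ := x_form hB hn le_rfl hm hmn rfl hg hi hβ h0 hg1 (fun l hl hl' => by omega)
        exact ((covers_exact X1 (⟨i, hi⟩ : Fin n) hα.symm hγ.symm).inr).inl.inr
      · have := at_nonneg hg.nonneg 1
        exact ((cover_P0 hB hn le_rfl hm hmn hmn1 rfl hg hi hβ h0 (by omega)).inl).inl.inr)
    (fun {α γ} hg j hj hj' hβ h0 => by
      by_cases h1 : at' γ 1 < (1 : ℕ)
      · exact ((cover_W hB hn le_rfl hm hmn hm2 hg hj hj' hβ h0 h1).inl).inr.inr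
      · exact ((cover_E hB hn le_rfl hm hmn hg hj hj' hβ h0 (not_lt.1 h1)).inr).inr.inr)
  rw [F.count hI hB (by omega) hcov, assemble_card, a3]
  have hM : @Fintype.card _ M.fin = n - 1 + n := by
    show Fintype.card (Fin (n - 1) ⊕ Fin n) = n - 1 + n
    simp
  have hC : (n + 1 - 1).choose (n - 1) = n := by
    rw [show n + 1 - 1 = (n - 1) + 1 by omega, Nat.choose_succ_self_right]; omega
  rw [hC] at t4
  omega

theorem main_principal (hI : IsMonomial I) (hB : IsTwoBlock n q 1 I) (hn : 3 ≤ n) (hq : 1 ≤ q)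
    (hcase : 4 ≤ n ∨ 3 ≤ q) :
    Module.finrank k ↥(⨆ α : {α : Fin (n + 1) → ℤ // ∑ i, α i = 0}, tPiece I α.1) + 2 =
      n + 1 + n + (n + (q + 1) - 1).choose (n - 1) := by
  have hmn : 1 + 1 ≤ n := by omega
  have hmn2 : 1 + 2 ≤ n := by omega
  obtain ⟨a1, a2, a3⟩ := headFam_facts hB hn hq hmn
  let T1 := famW1 hB hn hq le_rfl hmn rfl
  let F := assemble (headFam hB hn hq hmn) (famP hB hn hq le_rfl hmn hmn2) T1 ⟨a1, a2⟩
    ⟨fun t => Fam.pt_cond _ t, fun t => by
      show at' (E (Fin.val t + 1) - E 0) 0 < 0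
      rw [(at_high hn).1 _ (Nat.succ_lt_succ t.isLt) (Nat.succ_ne_zero _)]; omega, fun _ _ _ h => h⟩
    ⟨fun t => Fam.pt_cond T1 t, fun t => by
      show at' (vec t.1 - fun l => ((q : ℤ) + 1) * E (n := n) 1 l) 0 = 0
      rw [at_sub, at_smul, at_vec_zero, at_E_ne (show 0 ≠ 1 by omega)]; ring, fun _ _ _ h => h⟩
  have hcov := cover_all hB hn hq le_rfl hmn F (fun h => h.inl.inl) (fun h => h.inr.inl)
    (fun {α γ} hg i hi hβ h0 =>
      ((cover_P hB hn hq le_rfl hmn hmn2 hg hi hβ h0 (quad_pos hB hn hq le_rfl hmn hmn2 hg hi hβ h0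
        (hcase.elim (fun h => Or.inr (Or.inl (by omega))) (fun h => Or.inr (Or.inr (Or.inl h)))))).inl).inr)
    (fun {α γ} hg j hj hj' hβ h0 => ((cover_W1 hB hn hq le_rfl hmn rfl hg hj hj' hβ h0).inr).inr)
  rw [F.count hI hB (by omega) hcov, assemble_card, a3]
  have hP : @Fintype.card _ (famP hB hn hq le_rfl hmn hmn2).fin = n := Fintype.card_fin n
  have hT : @Fintype.card _ T1.fin + 2 = (n + (q + 1) - 1).choose (n - 1) :=
    @card_W1Idx n (q + 1) (by omega) (by omega) T1.fin
  omega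

end Groth.HilbPn.TwoBlock
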